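/-
helper38: the root subgroup of the highest root of a Chevalley datum (last root index): the Borel subgroup
normalises it, the monomial subgroup permutes the root subgroups, two root subgroups on which some additive
function is positive generate a 2-group in characteristic two, and from the Bruhat decomposition the subgroup
generated by the highest root subgroup and one of its conjugates is a 2-group or conjugate to the subgroup
generated by the highest and the lowest root subgroups.
-/
import Cfsg.Agent.Helper36.ChevBruhat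
import Cfsg.Agent.Helper17.ChevCoord

set_option autoImplicit false

namespace Cfsg.Agent.Helper38

open Cfsg Cfsg.Lie Cfsg.Agent.Helper36 Cfsg.Agent.Helper17

section Mat

variable {ι : Type*} [Fintype ι] [DecidableEq ι] {K : Type*} [Field K]

/-- Powers of a matrix whose non-zero entries raise the level raise it at least by the exponent. -/
theorem chHigh_lvl_pow (l : ι → ℤ) (A : Matrix ι ι K) (hA : ∀ a b, A a b ≠ 0 → l b < l a) :
    ∀ (m : ℕ) (a b : ι), (A ^ m) a b ≠ 0 → l b + m ≤ l a := by
  intro m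
  induction m with
  | zero =>
    intro a b h
    rw [pow_zero] at h
    by_cases hab : a = b
    · subst hab; simp
    · exact absurd (Matrix.one_apply_ne hab) h
  | succ m ih =>
    intro a b h
    rw [pow_succ, Matrix.mul_apply] at h
    obtain ⟨k, -, hk⟩ := Finset.exists_ne_zero_of_sum_ne_zero h
    have h1 := ih a k (left_ne_zero_of_mul hk)
    have h2 := hA k b (right_ne_zero_of_mul hk)
    push_cast
    omega

/-- A matrix whose non-zero entries raise the level is nilpotent. -/
theorem chHigh_lvl_nilpotent (l : ι → ℤ) (A : Matrix ι ι K) (hA : ∀ a b, A a b ≠ 0 → l b < l a) :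
    ∃ m : ℕ, ∀ n, m ≤ n → A ^ n = 0 := by
  rcases isEmpty_or_nonempty ι with hι | hι
  · exact ⟨0, fun n _ => Subsingleton.elim _ _⟩
  · obtain ⟨hi, hhi⟩ := Finite.exists_max l
    obtain ⟨lo, hlo⟩ := Finite.exists_min l
    refine ⟨(l hi - l lo).toNat + 1, fun n hn => ?_⟩
    ext a b
    by_contra h
    have h1 := chHigh_lvl_pow l A hA n a b h
    have h2 := hhi a
    have h3 := hlo b
    have h0 := hlo hi
    have h4 : ((l hi - l lo).toNat : ℤ) = l hi - l lo := Int.toNat_of_nonneg (by omega)
    have h5 : (((l hi - l lo).toNat + 1 : ℕ) : ℤ) ≤ (n : ℤ) := by exact_mod_cast hn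
    push_cast at h5
    omega

/-- In characteristic two a matrix that is unitriangular with respect to a level has order a power of two. -/
theorem chHigh_utl_pow_two [CharP K 2] (l : ι → ℤ) (M : Matrix ι ι K) (hM : UTL l M) :
    ∃ k : ℕ, M ^ 2 ^ k = 1 := by
  obtain ⟨m, hm⟩ := chHigh_lvl_nilpotent l (M - 1) hM
  have h2 : ∀ N : Matrix ι ι K, N ^ 2 - 1 = (N - 1) ^ 2 := by
    intro N
    have e : N ^ 2 - 1 = (N - 1) ^ 2 + ((N - 1) + (N - 1)) := by noncomm_ring
    have z : (N - 1) + (N - 1) = 0 := by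
      ext a b
      simp [CharTwo.add_self_eq_zero]
    rw [e, z, add_zero]
  have key : ∀ k : ℕ, M ^ 2 ^ k - 1 = (M - 1) ^ 2 ^ k := by
    intro k
    induction k with
    | zero => simp
    | succ k ih => rw [pow_succ, pow_mul, h2, ih, ← pow_mul]
  refine ⟨m, ?_⟩
  have h3 := key m
  rw [hm (2 ^ m) (Nat.lt_two_pow_self).le] at h3
  exact sub_eq_zero.mp h3

end Mat

section Grp

variable {G : Type*} [Group G]

theorem chHigh_map_conj_mul (H : Subgroup G) (a b : G) :
    H.map (MulAut.conj (a * b)).toMonoidHom =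
      (H.map (MulAut.conj b).toMonoidHom).map (MulAut.conj a).toMonoidHom := by
  rw [Subgroup.map_map]
  congr 1
  ext x
  simp [mul_assoc]

theorem chHigh_map_conj_of_mem_normalizer (H : Subgroup G) (b : G)
    (hb : b ∈ Subgroup.normalizer (H : Set G)) : H.map (MulAut.conj b).toMonoidHom = H := by
  apply le_antisymm
  · rintro x ⟨y, hy, rfl⟩
    exact (Subgroup.mem_normalizer_iff.mp hb y).mp hy
  · intro x hx
    refine ⟨b⁻¹ * x * b, ?_, ?_⟩
    · apply (Subgroup.mem_normalizer_iff.mp hb (b⁻¹ * x * b)).mpr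
      have e : b * (b⁻¹ * x * b) * b⁻¹ = x := by group
      rw [e]
      exact hx
    · show b * (b⁻¹ * x * b) * b⁻¹ = x
      group

end Grp

section Chev

variable {D : ChevalleyDatum} {F : Type*} [Field F] {η : ℕ → ℕ → ℤ}

/-- A root element of a root on which the additive function `g` is positive is unitriangular for the level
of `g`. -/
theorem chHigh_utl_x {f g : ℕ → ℤ} (hW : WtFacts D f) (hA : Additive D g) {s : ℕ} (hs : s < D.nroots)
    (hpos : 0 < g s) (t : F) : UTL (idxWt D g) (D.x F s t) := by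
  intro a b h
  obtain ⟨k, hk, e⟩ := x_sub_one_level hW hA hs t a b h
  have h1 : 0 < (k : ℤ) * g s := mul_pos (by exact_mod_cast hk) hpos
  omega

/-- Two root subgroups on whose roots some additive function is positive generate a 2-group in
characteristic two. -/
theorem chHigh_pair [CharP F 2] {f g : ℕ → ℤ} (hX : XAdd D F) (hW : WtFacts D f) (hA : Additive D g)
    {r s : ℕ} (hr : r < D.nroots) (hs : s < D.nroots) (hgr : 0 < g r) (hgs : 0 < g s) :
    IsPGroup 2 ↥(D.rootSubgroup F r ⊔ D.rootSubgroup F s) := by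
  have hK : IsPGroup 2 ↥(predSubgroup (UTL (R := F) (idxWt D g)) (UTL.one _) (fun _ _ => UTL.mul)) := by
    rintro ⟨k, hk⟩
    obtain ⟨m, hm⟩ := chHigh_utl_pow_two (idxWt D g) (k : Matrix D.Idx D.Idx F) hk.1
    refine ⟨m, ?_⟩
    apply Subtype.ext
    apply Units.ext
    simpa using hm
  have hle : D.rootSubgroup F r ⊔ D.rootSubgroup F s ≤
      predSubgroup (UTL (R := F) (idxWt D g)) (UTL.one _) (fun _ _ => UTL.mul) := by
    apply sup_le
    · intro x hx
      obtain ⟨t, rfl⟩ := (mem_rootSubgroup_iff hX r x).mp hx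
      refine ⟨chHigh_utl_x hW hA hr hgr t, ?_⟩
      rw [xGL_inv]
      exact chHigh_utl_x hW hA hr hgr (-t)
    · intro x hx
      obtain ⟨t, rfl⟩ := (mem_rootSubgroup_iff hX s x).mp hx
      refine ⟨chHigh_utl_x hW hA hs hgs t, ?_⟩
      rw [xGL_inv]
      exact chHigh_utl_x hW hA hs hgs (-t)
  exact hK.to_le hle

/-- The weight of a root is at most the weight of the last root. -/
theorem chHigh_le_top {f : ℕ → ℤ} (hW : WtFacts D f) {s : ℕ} (hs : s < D.nroots) :
    f s ≤ f (D.nroots - 1) := by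
  rcases Nat.lt_or_ge s (D.nroots - 1) with h | h
  · exact (hW.mono _ _ h (by omega)).le
  · have e : s = D.nroots - 1 := by omega
    rw [e]

/-- The last root has positive weight. -/
theorem chHigh_top_pos {f : ℕ → ℤ} (hW : WtFacts D f) (h2 : 2 ≤ D.nroots) : 0 < f (D.nroots - 1) := by
  have hr : D.nroots - 1 < D.nroots := by omega
  have h0 : f 0 < f (D.nroots - 1) := hW.mono 0 (D.nroots - 1) (by omega) hr
  have h3 := chHigh_le_top hW (hW.neg_lt 0 (by omega))
  rw [hW.neg 0 (by omega)] at h3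
  omega

/-- The negative of the last root is the first root. -/
theorem chHigh_neg_top {f : ℕ → ℤ} (hW : WtFacts D f) (h2 : 2 ≤ D.nroots) : D.neg (D.nroots - 1) = 0 := by
  have hr : D.nroots - 1 < D.nroots := by omega
  by_contra hne
  have h1 : D.neg (D.nroots - 1) < D.nroots := hW.neg_lt _ hr
  have h3 : f 0 < f (D.neg (D.nroots - 1)) := hW.mono 0 _ (by omega) h1
  rw [hW.neg _ hr] at h3
  have h4 := chHigh_le_top hW (hW.neg_lt 0 (by omega))
  rw [hW.neg 0 (by omega)] at h4
  omega

/-- The root elements of the positive roots commute with those of the last root. -/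
theorem chHigh_comm_top {f : ℕ → ℤ} (R : BRel D F η) (hW : WtFacts D f) (h2 : 2 ≤ D.nroots) {q : ℕ}
    (hq : D.IsPosRoot q) (u t : F) :
    xGL R.xadd q u * xGL R.xadd (D.nroots - 1) t * (xGL R.xadd q u)⁻¹ = xGL R.xadd (D.nroots - 1) t := by
  have hr : D.nroots - 1 < D.nroots := by omega
  have hq' : q < D.nroots := hq.1
  have hfq : 0 < f q := (hW.pos q hq').mp hq
  have hfr := chHigh_top_pos hW h2
  by_cases hqr : q = D.nroots - 1
  · rw [hqr, xGL_inv, xGL_mul, xGL_mul]
    congr 1
    ring
  · have hne2 : D.nroots - 1 ≠ D.neg q := by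
      intro e
      have h1 := hW.neg q hq'
      rw [← e] at h1
      omega
    have hcf := R.cf q hq' (D.nroots - 1) hr (fun e => hqr e.symm) hne2
    rw [xGL_conj R.xadd hcf]
    have hnil : D.commWord F q (D.nroots - 1) (-u) t = [] := by
      rw [List.eq_nil_iff_forall_not_mem]
      intro p hp
      obtain ⟨c, hc, -⟩ := mem_commWord hp
      obtain ⟨h1, h3, h4, h5⟩ := commTerms_add hW hW.additive hq' hr c hc
      have h6 := chHigh_le_top hW h1
      have hi : (1 : ℤ) ≤ (c.2.2.1 : ℤ) := by exact_mod_cast h3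
      have hj : (1 : ℤ) ≤ (c.2.2.2 : ℤ) := by exact_mod_cast h4
      have h7 := mul_le_mul_of_nonneg_right hi hfq.le
      have h8 := mul_le_mul_of_nonneg_right hj hfr.le
      linarith
    rw [hnil, wordGL_nil, mul_one]

/-- The Borel subgroup normalises the root subgroup of the last root. -/
theorem chHigh_borel_normalizes {f : ℕ → ℤ} (R : BRel D F η) (hW : WtFacts D f) (h2 : 2 ≤ D.nroots) :
    D.borelSubgroup F ≤ Subgroup.normalizer (D.rootSubgroup F (D.nroots - 1) : Set (GL D.Idx F)) := by
  have hr : D.nroots - 1 < D.nroots := by omega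
  unfold ChevalleyDatum.borelSubgroup
  apply sup_le
  · unfold ChevalleyDatum.posUnipotent
    rw [Subgroup.closure_le]
    rintro g ⟨q, u, hq, hg⟩
    rw [eq_xGL R.xadd hg]
    unfold ChevalleyDatum.rootSubgroup
    apply mem_normalizer_closure
    · rintro x ⟨t, hx⟩
      rw [eq_xGL R.xadd hx, chHigh_comm_top R hW h2 hq]
      exact Subgroup.subset_closure ⟨t, rfl⟩
    · rintro x ⟨t, hx⟩
      rw [eq_xGL R.xadd hx]
      have h3 := chHigh_comm_top R hW h2 hq (-u) t
      rw [xGL_inv, neg_neg] at h3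
      rw [xGL_inv, h3]
      exact Subgroup.subset_closure ⟨t, rfl⟩
  · intro h hh
    unfold ChevalleyDatum.rootSubgroup
    apply mem_normalizer_closure
    · rintro x ⟨t, hx⟩
      rw [eq_xGL R.xadd hx]
      obtain ⟨c, hc⟩ := R.hx h hh (D.nroots - 1) hr
      rw [hc]
      exact Subgroup.subset_closure ⟨c * t, rfl⟩
    · rintro x ⟨t, hx⟩
      rw [eq_xGL R.xadd hx]
      obtain ⟨c, hc⟩ := R.hx h⁻¹ (inv_mem hh) (D.nroots - 1) hr
      have h3 := hc t
      rw [inv_inv] at h3
      rw [h3]
      exact Subgroup.subset_closure ⟨c * t, rfl⟩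

/-- An element of the monomial subgroup conjugates a root subgroup onto a root subgroup. -/
theorem chHigh_map_monomial (R : BRel D F η) {r : ℕ} (hr : r < D.nroots) {n : GL D.Idx F}
    (hn : n ∈ D.monomialSubgroup F) :
    ∃ s, s < D.nroots ∧
      (D.rootSubgroup F r).map (MulAut.conj n).toMonoidHom = D.rootSubgroup F s := by
  obtain ⟨L, hL, hroot⟩ := R.exists_root n hn
  obtain ⟨c, hc⟩ := hroot r hr
  have hc0 : c ≠ 0 := by
    intro h0
    have h1 := hc 1
    rw [h0, zero_mul, xGL_zero] at h1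
    have h2 : xGL R.xadd r (1 : F) = 1 := by
      have e : xGL R.xadd r (1 : F) = n⁻¹ * (n * xGL R.xadd r 1 * n⁻¹) * n := by group
      rw [e, h1]
      group
    have h3 : D.x F r (1 : F) = 1 := by
      have h4 := congrArg Units.val h2
      rw [xGL_val] at h4
      exact h4
    exact one_ne_zero (R.xinj r hr 1 h3)
  refine ⟨wW D L r, R.wf.wW_lt hL hr, ?_⟩
  apply le_antisymm
  · rintro x ⟨y, hy, rfl⟩
    obtain ⟨t, rfl⟩ := (mem_rootSubgroup_iff R.xadd r y).mp hy
    show n * xGL R.xadd r t * n⁻¹ ∈ _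
    rw [hc]
    exact xGL_mem_rootSubgroup R.xadd _ _
  · intro x hx
    obtain ⟨t, rfl⟩ := (mem_rootSubgroup_iff R.xadd _ x).mp hx
    refine ⟨xGL R.xadd r (c⁻¹ * t), xGL_mem_rootSubgroup R.xadd _ _, ?_⟩
    show n * xGL R.xadd r (c⁻¹ * t) * n⁻¹ = _
    rw [hc, ← mul_assoc, mul_inv_cancel₀ hc0, one_mul]

/-- The subgroup generated by the root subgroup `X` of the last root and a conjugate of it under the Chevalley
group is a 2-group, or conjugate to the subgroup generated by `X` and the root subgroup of the first root. -/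
theorem chHigh_main [CharP F 2] {f : ℕ → ℤ} (R : BRel D F η) (hW : WtFacts D f) (h2 : 2 ≤ D.nroots)
    (hgood : ∀ s, s < D.nroots → s ≠ 0 → s ≠ D.nroots - 1 →
      ∃ g : ℕ → ℤ, Additive D g ∧ 0 < g (D.nroots - 1) ∧ 0 < g s)
    (g : GL D.Idx F) (hg : g ∈ D.group F) :
    IsPGroup 2 ↥(D.rootSubgroup F (D.nroots - 1) ⊔
        (D.rootSubgroup F (D.nroots - 1)).map (MulAut.conj g).toMonoidHom) ∨
    ∃ h ∈ D.group F, (D.rootSubgroup F (D.nroots - 1) ⊔
        (D.rootSubgroup F (D.nroots - 1)).map (MulAut.conj g).toMonoidHom).map (MulAut.conj h).toMonoidHom =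
      D.rootSubgroup F (D.nroots - 1) ⊔ D.rootSubgroup F 0 := by
  have hr : D.nroots - 1 < D.nroots := by omega
  obtain ⟨b₁, hb₁, n, hn, b₂, hb₂, rfl⟩ := R.bruhat g hg
  obtain ⟨s, hs, hns⟩ := chHigh_map_monomial R hr hn
  have hN := chHigh_borel_normalizes R hW h2
  have e1 := chHigh_map_conj_of_mem_normalizer _ _ (hN hb₁)
  have e2 := chHigh_map_conj_of_mem_normalizer _ _ (hN hb₂)
  have e3 : (D.rootSubgroup F (D.nroots - 1)).map (MulAut.conj (b₁ * n * b₂)).toMonoidHom =
      (D.rootSubgroup F s).map (MulAut.conj b₁).toMonoidHom := by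
    rw [chHigh_map_conj_mul, chHigh_map_conj_mul, e2, hns]
  have e4 : D.rootSubgroup F (D.nroots - 1) ⊔
      (D.rootSubgroup F (D.nroots - 1)).map (MulAut.conj (b₁ * n * b₂)).toMonoidHom =
      (D.rootSubgroup F (D.nroots - 1) ⊔ D.rootSubgroup F s).map (MulAut.conj b₁).toMonoidHom := by
    rw [Subgroup.map_sup, e1, e3]
  rw [e4]
  by_cases hs0 : s = 0
  · right
    rw [hs0]
    refine ⟨b₁⁻¹, inv_mem (borelSubgroup_le_group R.xadd hb₁), ?_⟩
    rw [← chHigh_map_conj_mul, inv_mul_cancel]
    have e5 : (MulAut.conj (1 : GL D.Idx F)).toMonoidHom = MonoidHom.id _ := by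
      ext x
      simp
    rw [e5, Subgroup.map_id]
  · left
    apply IsPGroup.map
    by_cases hsr : s = D.nroots - 1
    · rw [hsr]
      exact chHigh_pair R.xadd hW hW.additive hr hr (chHigh_top_pos hW h2) (chHigh_top_pos hW h2)
    · obtain ⟨g', hA, h1, h3⟩ := hgood s hs hs0 hsr
      exact chHigh_pair R.xadd hW hA hr hs h1 h3

end Chev

end Cfsg.Agent.Helper38
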