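/-
helper38: the centraliser of the root element `x_r(1)` of the last (highest) root `r` in a Chevalley group:
it is generated by `U` and the root subgroups of the negative fundamental roots orthogonal to `r`.

Generic part (hypotheses: helper36's `BRel`, helper17's `WtFacts` and torus facts, and table facts):
* `CLin D`: integer combinations of the Cartan coordinates `x ↦ A_{p_j, x}`; they are closed under composition
  with words in the fundamental reflections (`CLin.comp`), given the table fact `CReflOK`;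
* `chCent_red_letters`: the letters of a reduced word fixing the last root are orthogonal to it;
* `chCent_distinct`: the root subgroup of the last root meets the other root subgroups trivially;
* `chCent_main`: the centraliser.
-/
import Cfsg.Agent.Helper38.ChevHigh
import Cfsg.Agent.Helper17.ChevTorus

set_option autoImplicit false

namespace Cfsg.Agent.Helper38

open Cfsg Cfsg.Lie Cfsg.Agent.Helper36 Cfsg.Agent.Helper17

section Lin

variable {D : ChevalleyDatum}

/-- Integer combinations of the Cartan coordinates `x ↦ A_{p_j, x}`. -/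
inductive CLin (D : ChevalleyDatum) : (ℕ → ℤ) → Prop
  | zero : CLin D (fun _ => 0)
  | coord (j : ℕ) (hj : j < D.rank) : CLin D (fun x => D.cartan j x)
  | comb (A B : ℤ) (u v : ℕ → ℤ) : CLin D u → CLin D v → CLin D (fun x => A * u x + B * v x)

/-- Table fact: the Cartan coordinates of a reflected root. -/
def CReflOK (D : ChevalleyDatum) : Prop :=
  ∀ i < D.rank, ∀ j < D.rank, ∀ x < D.nroots,
    D.cartan j (D.reflectRoot i x) = D.cartan j x - D.cartan i x * D.cartan j (D.simple i)

theorem CLin.refl (hC : CReflOK D) {g : ℕ → ℤ} (hg : CLin D g) {i : ℕ} (hi : i < D.rank) {x : ℕ}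
    (hx : x < D.nroots) : g (D.reflectRoot i x) = g x - D.cartan i x * g (D.simple i) := by
  induction hg with
  | zero => simp
  | coord j hj => exact hC i hi j hj x hx
  | comb A B u v _ _ ihu ihv =>
    show A * u (D.reflectRoot i x) + B * v (D.reflectRoot i x) =
      (A * u x + B * v x) - D.cartan i x * (A * u (D.simple i) + B * v (D.simple i))
    rw [ihu, ihv]
    ring

/-- A combination of the Cartan coordinates composed with a word in the reflections is again one. -/
theorem CLin.comp (hC : CReflOK D) (W : WFacts D) : ∀ (M : List ℕ), ValidW D M → ∀ g, CLin D g →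
    ∃ g', CLin D g' ∧ ∀ x < D.nroots, g (wW D M x) = g' x := by
  intro M
  induction M with
  | nil =>
    intro _ g hg
    exact ⟨g, hg, fun x _ => rfl⟩
  | cons j M ih =>
    intro hM g hg
    have hj := hM.head
    obtain ⟨g', hg', h'⟩ := ih hM.tail (fun y => 1 * g y + (- g (D.simple j)) * D.cartan j y)
      (CLin.comb _ _ _ _ hg (CLin.coord j hj))
    refine ⟨g', hg', fun x hx => ?_⟩
    rw [wW_cons, hg.refl hC hj (W.wW_lt hM.tail hx), ← h' x hx]
    ring

/-- A height function: a combination of the Cartan coordinates, positive on the positive roots, with its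
strict maximum at the last root. -/
structure TopFn (D : ChevalleyDatum) (h : ℕ → ℤ) : Prop where
  lin : CLin D h
  pos : ∀ x, D.IsPosRoot x → 0 < h x
  top : ∀ x < D.nroots, x = D.nroots - 1 ∨ h x < h (D.nroots - 1)

/-- The letters of a reduced word fixing the last root are orthogonal to it. -/
theorem chCent_red_letters (hC : CReflOK D) (W : WFacts D) {h : ℕ → ℤ} (hT : TopFn D h)
    (h2 : 2 ≤ D.nroots) : ∀ L, ValidW D L → RedW D L → wW D L (D.nroots - 1) = D.nroots - 1 →
      ∀ i ∈ L, D.cartan i (D.nroots - 1) = 0 := by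
  intro L
  induction L with
  | nil =>
    intro _ _ _ i hi
    exact absurd hi List.not_mem_nil
  | cons i L ih =>
    intro hL hred hfix
    have hr : D.nroots - 1 < D.nroots := by omega
    have hi := hL.head
    obtain ⟨hred', hβ⟩ := hred
    have hs : wW D L (D.nroots - 1) < D.nroots := W.wW_lt hL.tail hr
    rw [wW_cons] at hfix
    have hs_eq : wW D L (D.nroots - 1) = D.reflectRoot i (D.nroots - 1) := by
      have h1 := W.refl_refl i hi _ hs
      rw [hfix] at h1
      exact h1.symm
    have hMs : wW D L.reverse (D.reflectRoot i (D.nroots - 1)) = D.nroots - 1 := by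
      rw [← hs_eq]
      exact W.wW_reverse' hL.tail hr
    obtain ⟨h', hh', hcomp⟩ := CLin.comp hC W L.reverse hL.tail.reverse h hT.lin
    have e1 := hh'.refl hC hi hr
    rw [← hcomp _ (W.refl_lt i hi _ hr), ← hcomp _ hr, ← hcomp _ (W.simple_lt i hi), hMs] at e1
    have e2 := hT.lin.refl hC hi hr
    have hpos1 := hT.pos _ hβ
    have hpos2 := hT.pos _ (W.simple_pos i hi)
    have hle1 : h (wW D L.reverse (D.nroots - 1)) ≤ h (D.nroots - 1) := by
      rcases hT.top _ (W.wW_lt hL.tail.reverse hr) with h3 | h3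
      · rw [h3]
      · exact h3.le
    have hle2 : h (D.reflectRoot i (D.nroots - 1)) ≤ h (D.nroots - 1) := by
      rcases hT.top _ (W.refl_lt i hi _ hr) with h3 | h3
      · rw [h3]
      · exact h3.le
    have hc : D.cartan i (D.nroots - 1) = 0 := by
      have h5 : D.cartan i (D.nroots - 1) ≤ 0 := by
        by_contra hcon
        rw [not_le] at hcon
        have h6 := mul_pos hcon hpos1
        linarith
      have h6 : 0 ≤ D.cartan i (D.nroots - 1) := by
        by_contra hcon
        rw [not_le] at hcon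
        have h7 := mul_neg_of_neg_of_pos hcon hpos2
        linarith
      omega
    have hfixr : D.reflectRoot i (D.nroots - 1) = D.nroots - 1 := by
      rw [hc, zero_mul, sub_zero] at e2
      rcases hT.top _ (W.refl_lt i hi _ hr) with h3 | h3
      · exact h3
      · omega
    intro j hj
    rcases List.mem_cons.mp hj with rfl | hj
    · exact hc
    · exact ih hL.tail hred' (by rw [hs_eq, hfixr]) j hj

end Lin

section Grp

variable {G : Type*} [Group G]

theorem chCent_comm_of_conj {a T : G} (h : a * T * a⁻¹ = T) : T * a = a * T := by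
  rw [eq_comm, ← mul_inv_eq_iff_eq_mul]
  exact h

/-- If `H` normalises `P` then every element of `P ⊔ H` is a product `p h`. -/
theorem chCent_sup_decomp (P H : Subgroup G) (hN : ∀ h ∈ H, ∀ p ∈ P, h * p * h⁻¹ ∈ P) :
    ∀ g ∈ P ⊔ H, ∃ p ∈ P, ∃ h ∈ H, g = p * h := by
  intro g hg
  have e : P ⊔ H = Subgroup.closure ((P : Set G) ∪ H) := by
    rw [Subgroup.closure_union, Subgroup.closure_eq, Subgroup.closure_eq]
  rw [e] at hg
  induction hg using Subgroup.closure_induction with
  | mem x hx =>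
    rcases hx with hx | hx
    · exact ⟨x, hx, 1, one_mem _, by simp⟩
    · exact ⟨1, one_mem _, x, hx, by simp⟩
  | one => exact ⟨1, one_mem _, 1, one_mem _, by simp⟩
  | mul a b _ _ iha ihb =>
    obtain ⟨p₁, hp₁, h₁, hh₁, rfl⟩ := iha
    obtain ⟨p₂, hp₂, h₂, hh₂, rfl⟩ := ihb
    exact ⟨p₁ * (h₁ * p₂ * h₁⁻¹), mul_mem hp₁ (hN h₁ hh₁ p₂ hp₂), h₁ * h₂, mul_mem hh₁ hh₂, by group⟩
  | inv a _ iha =>
    obtain ⟨p, hp, h, hh, rfl⟩ := iha
    exact ⟨h⁻¹ * p⁻¹ * h⁻¹⁻¹, hN h⁻¹ (inv_mem hh) p⁻¹ (inv_mem hp), h⁻¹, inv_mem hh, by group⟩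

theorem chCent_prod_ite {K : Type*} [CommGroup K] (z : ℕ → K) (i0 : ℕ) (n : ℕ) :
    ((List.range n).map fun i => z i ^ (if i = i0 then (1 : ℤ) else 0)).prod =
      if i0 < n then z i0 else 1 := by
  induction n with
  | zero => simp
  | succ n ih =>
    rw [List.range_succ, List.map_append, List.prod_append, ih]
    simp only [List.map_cons, List.map_nil, List.prod_cons, List.prod_nil, mul_one]
    by_cases h1 : i0 < n
    · rw [if_pos h1, if_neg (by omega), if_pos (by omega), zpow_zero, mul_one]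
    · by_cases h2 : n = i0
      · rw [if_neg h1, if_pos h2, if_pos (by omega), zpow_one, one_mul, h2]
      · rw [if_neg h1, if_neg h2, if_neg (by omega), zpow_zero, mul_one]

end Grp

section Chev

variable {D : ChevalleyDatum} {F : Type*} [Field F] {η : ℕ → ℕ → ℤ}

/-- The root subgroup of the last root meets the other root subgroups trivially. -/
theorem chCent_distinct {f : ℕ → ℤ} (R : BRel D F η) (hW : WtFacts D f) (h2 : 2 ≤ D.nroots)
    (hgood : ∀ s, s < D.nroots → s ≠ 0 → s ≠ D.nroots - 1 →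
      ∃ g : ℕ → ℤ, Additive D g ∧ 0 < g (D.nroots - 1) ∧ 0 < g s)
    {s : ℕ} (hs : s < D.nroots) (hne : s ≠ D.nroots - 1) {a b : F}
    (he : xGL R.xadd s a = xGL R.xadd (D.nroots - 1) b) : xGL R.xadd (D.nroots - 1) b = 1 := by
  have hr : D.nroots - 1 < D.nroots := by omega
  have hpos : D.IsPosRoot (D.nroots - 1) := (hW.pos _ hr).mpr (chHigh_top_pos hW h2)
  have hneg0 := chHigh_neg_top hW h2
  by_cases hs0 : s = 0
  · have hn : D.IsNegRoot 0 := by
      have h1 := (R.wf.pos_iff_neg _ hr).mp hpos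
      rwa [hneg0] at h1
    have h1 : xGL R.xadd (D.nroots - 1) b ∈ D.borelSubgroup F :=
      BRel.U_le_B D F (xGL_mem_posUnipotent R.xadd hpos b)
    have h3 : xGL R.xadd (D.nroots - 1) b ∈ D.negUnipotent F := by
      rw [← he, hs0]
      exact xGL_mem_negUnipotent R.xadd hn a
    have h4 : xGL R.xadd (D.nroots - 1) b ∈ D.borelSubgroup F ⊓ D.negUnipotent F := ⟨h1, h3⟩
    rw [R.bv] at h4
    exact Subgroup.mem_bot.mp h4
  · have hns : D.neg s < D.nroots := R.wf.neg_lt s hs
    have hns0 : D.neg s ≠ 0 := by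
      intro e
      have h1 := R.wf.neg_neg s hs
      rw [e, ← hneg0, R.wf.neg_neg _ hr] at h1
      exact hne h1.symm
    have hnsr : D.neg s ≠ D.nroots - 1 := by
      intro e
      have h1 := R.wf.neg_neg s hs
      rw [e, hneg0] at h1
      exact hs0 h1.symm
    obtain ⟨g, hA, hg1, hg2⟩ := hgood (D.neg s) hns hns0 hnsr
    have hgs : g s < 0 := by
      have h1 := hA.neg s hs
      omega
    have he' : D.x F (D.nroots - 1) b = D.x F s a := by
      have h1 := congrArg Units.val he
      rw [xGL_val, xGL_val] at h1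
      exact h1.symm
    apply Units.ext
    rw [xGL_val, Units.val_one, ← sub_eq_zero]
    ext row col
    by_contra hne'
    change (D.x F (D.nroots - 1) b - 1) row col ≠ 0 at hne'
    obtain ⟨k, hk, e1⟩ := x_sub_one_level hW hA hr b row col hne'
    rw [he'] at hne'
    obtain ⟨k', hk', e2⟩ := x_sub_one_level hW hA hs a row col hne'
    have p1 : 0 < (k : ℤ) * g (D.nroots - 1) := mul_pos (by exact_mod_cast hk) hg1
    have p2 : (k' : ℤ) * g s < 0 := mul_neg_of_pos_of_neg (by exact_mod_cast hk') hgs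
    omega

variable (J : List ℕ)

/-- `U` and the root subgroups `X_s`, `s ∈ J`, centralise `x_r(1)` for the last root `r`, when the roots
of `J` have trivial commutator formula with `r`. -/
theorem chCent_le {f : ℕ → ℤ} (R : BRel D F η) (hW : WtFacts D f) (h2 : 2 ≤ D.nroots)
    (hJ1 : ∀ s ∈ J, s < D.nroots ∧ s ≠ D.nroots - 1 ∧ D.nroots - 1 ≠ D.neg s ∧
      D.commTerms s (D.nroots - 1) = [])
    (t : GL D.Idx F) (ht : (t : Matrix D.Idx D.Idx F) = D.x F (D.nroots - 1) 1) :
    D.posUnipotent F ⊔ Subgroup.closure {g : GL D.Idx F | ∃ s ∈ J, ∃ c : F,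
      (g : Matrix D.Idx D.Idx F) = D.x F s c} ≤ D.group F ⊓ Subgroup.centralizer {t} := by
  have hr : D.nroots - 1 < D.nroots := by omega
  have htx : t = xGL R.xadd (D.nroots - 1) 1 := eq_xGL R.xadd ht
  apply sup_le
  · apply le_inf (posUnipotent_le_group R.xadd)
    unfold ChevalleyDatum.posUnipotent
    rw [Subgroup.closure_le]
    rintro g ⟨q, u, hq, hg⟩
    rw [eq_xGL R.xadd hg]
    show _ ∈ Subgroup.centralizer {t}
    rw [Subgroup.mem_centralizer_iff]
    intro y hy
    rw [Set.mem_singleton_iff] at hy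
    rw [hy, htx]
    exact chCent_comm_of_conj (chHigh_comm_top R hW h2 hq u 1)
  · rw [Subgroup.closure_le]
    rintro g ⟨s, hs, c, hg⟩
    obtain ⟨hs1, hs2, hs3, hs4⟩ := hJ1 s hs
    rw [eq_xGL R.xadd hg]
    refine ⟨xGL_mem_group R.xadd s c, ?_⟩
    show _ ∈ Subgroup.centralizer {t}
    rw [Subgroup.mem_centralizer_iff]
    intro y hy
    rw [Set.mem_singleton_iff] at hy
    rw [hy, htx]
    apply chCent_comm_of_conj
    have hcf := R.cf s hs1 (D.nroots - 1) hr (Ne.symm hs2) hs3
    rw [xGL_conj R.xadd hcf]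
    have hnil : D.commWord F s (D.nroots - 1) (-c) 1 = [] := by
      unfold ChevalleyDatum.commWord
      rw [hs4]
      rfl
    rw [hnil, wordGL_nil, mul_one]

/-- Words in the root elements of a fundamental root orthogonal to the last root, and of its negative. -/
theorem chCent_word_mem (R : BRel D F η)
    (hJ2 : ∀ i < D.rank, D.cartan i (D.nroots - 1) = 0 → D.neg (D.simple i) ∈ J)
    {i : ℕ} (hi : i < D.rank) (hc : D.cartan i (D.nroots - 1) = 0) (w : List (ℕ × F))
    (hw : ∀ p ∈ w, p.1 = D.simple i ∨ p.1 = D.neg (D.simple i)) :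
    wordGL R.xadd w ∈ D.posUnipotent F ⊔ Subgroup.closure {g : GL D.Idx F | ∃ s ∈ J, ∃ c : F,
      (g : Matrix D.Idx D.Idx F) = D.x F s c} := by
  apply wordGL_mem
  intro p hp
  rcases hw p hp with h | h
  · rw [h]
    exact (le_sup_left : D.posUnipotent F ≤ _) (xGL_mem_posUnipotent R.xadd (R.wf.simple_pos i hi) _)
  · rw [h]
    apply (le_sup_right : Subgroup.closure {g : GL D.Idx F | ∃ s ∈ J, ∃ c : F,
      (g : Matrix D.Idx D.Idx F) = D.x F s c} ≤ _)
    exact Subgroup.subset_closure ⟨_, hJ2 i hi hc, _, rfl⟩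

/-- Products of the `n_p` along a word whose letters are orthogonal to the last root. -/
theorem chCent_nW_mem (R : BRel D F η)
    (hJ2 : ∀ i < D.rank, D.cartan i (D.nroots - 1) = 0 → D.neg (D.simple i) ∈ J) :
    ∀ L : List ℕ, ValidW D L → (∀ i ∈ L, D.cartan i (D.nroots - 1) = 0) →
      R.nW L ∈ D.posUnipotent F ⊔ Subgroup.closure {g : GL D.Idx F | ∃ s ∈ J, ∃ c : F,
        (g : Matrix D.Idx D.Idx F) = D.x F s c} := by
  intro L
  induction L with
  | nil =>
    intro _ _
    rw [R.nW_nil]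
    exact one_mem _
  | cons i L ih =>
    intro hL hlet
    rw [R.nW_cons]
    refine mul_mem ?_ (ih hL.tail (fun j hj => hlet j (List.mem_cons_of_mem _ hj)))
    apply chCent_word_mem J R hJ2 hL.head (hlet i List.mem_cons_self)
    intro p hp
    unfold ChevalleyDatum.nWord at hp
    simp only [List.mem_cons, List.not_mem_nil, or_false] at hp
    rcases hp with rfl | rfl | rfl
    · exact Or.inl rfl
    · exact Or.inr rfl
    · exact Or.inl rfl

/-- `H` normalises the subgroup generated by `U` and the `X_s`, `s ∈ J`. -/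
theorem chCent_H_normalizes (R : BRel D F η) (hJ0 : ∀ s ∈ J, s < D.nroots) :
    ∀ h ∈ D.diagonalSubgroup F, ∀ p ∈ D.posUnipotent F ⊔ Subgroup.closure {g : GL D.Idx F |
      ∃ s ∈ J, ∃ c : F, (g : Matrix D.Idx D.Idx F) = D.x F s c},
      h * p * h⁻¹ ∈ D.posUnipotent F ⊔ Subgroup.closure {g : GL D.Idx F | ∃ s ∈ J, ∃ c : F,
        (g : Matrix D.Idx D.Idx F) = D.x F s c} := by
  intro h hh
  have key : D.posUnipotent F ⊔ Subgroup.closure {g : GL D.Idx F | ∃ s ∈ J, ∃ c : F,
      (g : Matrix D.Idx D.Idx F) = D.x F s c} ≤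
      (D.posUnipotent F ⊔ Subgroup.closure {g : GL D.Idx F | ∃ s ∈ J, ∃ c : F,
        (g : Matrix D.Idx D.Idx F) = D.x F s c}).comap (MulAut.conj h).toMonoidHom := by
    apply sup_le
    · intro u hu
      rw [Subgroup.mem_comap]
      exact (le_sup_left : D.posUnipotent F ≤ _)
        ((Subgroup.mem_normalizer_iff.mp (R.hU hh) u).mp hu)
    · rw [Subgroup.closure_le]
      rintro g ⟨s, hs, c, hg⟩
      rw [SetLike.mem_coe, Subgroup.mem_comap, eq_xGL R.xadd hg]
      obtain ⟨c', hc'⟩ := R.hx h hh s (hJ0 s hs)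
      have e : (MulAut.conj h).toMonoidHom (xGL R.xadd s c) = h * xGL R.xadd s c * h⁻¹ := rfl
      rw [e, hc']
      apply (le_sup_right : Subgroup.closure {g : GL D.Idx F | ∃ s ∈ J, ∃ c : F,
        (g : Matrix D.Idx D.Idx F) = D.x F s c} ≤ _)
      exact Subgroup.subset_closure ⟨s, hs, _, rfl⟩
  intro p hp
  exact key hp

/-- An element of `H` centralising `x_r(1)`, `r` the last root, is a product of the `h_p(c)` for the
fundamental roots `p` orthogonal to `r`. -/
theorem chCent_torus (R : BRel D F η) (h2 : 2 ≤ D.nroots)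
    (hDiag : HDiag D F) (hTF : TorusFacts D) (hsimp : simpleOK D = true)
    (hJ2 : ∀ i < D.rank, D.cartan i (D.nroots - 1) = 0 → D.neg (D.simple i) ∈ J)
    (i0 : ℕ) (hi0 : i0 < D.rank)
    (hJ3 : ∀ i < D.rank, D.cartan i (D.nroots - 1) = if i = i0 then 1 else 0)
    (t : GL D.Idx F) (ht : (t : Matrix D.Idx D.Idx F) = D.x F (D.nroots - 1) 1)
    {h : GL D.Idx F} (hh : h ∈ D.diagonalSubgroup F) (hcomm : t * h = h * t) :
    h ∈ D.posUnipotent F ⊔ Subgroup.closure {g : GL D.Idx F | ∃ s ∈ J, ∃ c : F,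
      (g : Matrix D.Idx D.Idx F) = D.x F s c} := by
  have hr : D.nroots - 1 < D.nroots := by omega
  obtain ⟨z, hz⟩ := diagonalSubgroup_le_torus hDiag hh
  have hconj := torus_conj_x hTF.chain hTF.cartan hz (D.nroots - 1) hr (1 : F)
  have h1 : (h : Matrix D.Idx D.Idx F) * D.x F (D.nroots - 1) 1 *
      ((h⁻¹ : GL D.Idx F) : Matrix D.Idx D.Idx F) = D.x F (D.nroots - 1) 1 := by
    have h3 : h * t * h⁻¹ = t := by rw [← hcomm]; group
    have h4 := congrArg Units.val h3
    rw [Units.val_mul, Units.val_mul, ht] at h4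
    exact h4
  rw [h1] at hconj
  have hχ : ((torusChar D z (D.nroots - 1) : Fˣ) : F) = 1 := by
    have h3 : D.x F (D.nroots - 1) ((torusChar D z (D.nroots - 1) : F) * 1 + (-1)) = 1 := by
      rw [← R.xadd.add', ← hconj, R.xadd.mul_neg]
    have h4 := R.xinj _ hr _ h3
    linear_combination h4
  have hz0 : z i0 = 1 := by
    have h4 : torusChar D z (D.nroots - 1) = z i0 := by
      unfold torusChar
      rw [list_prod_map_congr (List.range D.rank) _
        (fun i => z i ^ (if i = i0 then (1 : ℤ) else 0))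
        (fun i hi => by rw [hJ3 i (List.mem_range.mp hi)]), chCent_prod_ite, if_pos hi0]
    apply Units.ext
    rw [← h4, hχ, Units.val_one]
  have hw : h = wordGL R.xadd ((List.range D.rank).flatMap fun i => D.hWord (D.simple i) (z i : F)) := by
    apply Units.ext
    rw [wordGL_val, hz, charDiag_torusChar_eq_wordMat hsimp hDiag z]
  rw [hw]
  have key : ∀ Ls : List ℕ, (∀ i ∈ Ls, i < D.rank) →
      wordGL R.xadd (Ls.flatMap fun i => D.hWord (D.simple i) (z i : F)) ∈
        D.posUnipotent F ⊔ Subgroup.closure {g : GL D.Idx F | ∃ s ∈ J, ∃ c : F,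
          (g : Matrix D.Idx D.Idx F) = D.x F s c} := by
    intro Ls
    induction Ls with
    | nil =>
      intro _
      rw [List.flatMap_nil, wordGL_nil]
      exact one_mem _
    | cons i Ls ih =>
      intro hLs
      have hi : i < D.rank := hLs i List.mem_cons_self
      rw [List.flatMap_cons, wordGL_append]
      refine mul_mem ?_ (ih (fun j hj => hLs j (List.mem_cons_of_mem _ hj)))
      by_cases hii : i = i0
      · have e : wordGL R.xadd (D.hWord (D.simple i) (z i : F)) = 1 := by
          apply Units.ext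
          rw [wordGL_val, hii, hz0, Units.val_one, Units.val_one]
          unfold ChevalleyDatum.hWord
          rw [Cfsg.Agent.Helper17.wordMat_append]
          exact R.ninv (D.simple i0) (R.wf.simple_lt i0 hi0) 1 one_ne_zero
        rw [e]
        exact one_mem _
      · have hc : D.cartan i (D.nroots - 1) = 0 := by rw [hJ3 i hi, if_neg hii]
        apply chCent_word_mem J R hJ2 hi hc
        intro p hp
        unfold ChevalleyDatum.hWord ChevalleyDatum.nWord at hp
        simp only [List.mem_append, List.mem_cons, List.not_mem_nil, or_false] at hp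
        rcases hp with (rfl | rfl | rfl) | (rfl | rfl | rfl)
        · exact Or.inl rfl
        · exact Or.inr rfl
        · exact Or.inl rfl
        · exact Or.inl rfl
        · exact Or.inr rfl
        · exact Or.inl rfl
  exact key _ (fun i hi => List.mem_range.mp hi)

/-- The centraliser of `x_r(1)`, `r` the last root, in the Chevalley group is generated by `U` and the root
subgroups `X_s`, `s ∈ J` (the negative fundamental roots orthogonal to `r`). -/
theorem chCent_main {f h : ℕ → ℤ} (R : BRel D F η) (hW : WtFacts D f) (h2 : 2 ≤ D.nroots)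
    (hC : CReflOK D) (hT : TopFn D h)
    (hgood : ∀ s, s < D.nroots → s ≠ 0 → s ≠ D.nroots - 1 →
      ∃ g : ℕ → ℤ, Additive D g ∧ 0 < g (D.nroots - 1) ∧ 0 < g s)
    (hDiag : HDiag D F) (hTF : TorusFacts D) (hsimp : simpleOK D = true)
    (hJ1 : ∀ s ∈ J, s < D.nroots ∧ s ≠ D.nroots - 1 ∧ D.nroots - 1 ≠ D.neg s ∧
      D.commTerms s (D.nroots - 1) = [])
    (hJ2 : ∀ i < D.rank, D.cartan i (D.nroots - 1) = 0 → D.neg (D.simple i) ∈ J)
    (i0 : ℕ) (hi0 : i0 < D.rank)
    (hJ3 : ∀ i < D.rank, D.cartan i (D.nroots - 1) = if i = i0 then 1 else 0)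
    (t : GL D.Idx F) (ht : (t : Matrix D.Idx D.Idx F) = D.x F (D.nroots - 1) 1) :
    D.group F ⊓ Subgroup.centralizer {t} =
      D.posUnipotent F ⊔ Subgroup.closure {g : GL D.Idx F | ∃ s ∈ J, ∃ c : F,
        (g : Matrix D.Idx D.Idx F) = D.x F s c} := by
  have hr : D.nroots - 1 < D.nroots := by omega
  have hle := chCent_le J R hW h2 hJ1 t ht
  apply le_antisymm _ hle
  rintro g ⟨hgG, hgC⟩
  have hcomm : t * g = g * t := Subgroup.mem_centralizer_iff.mp hgC t rfl
  have htx : t = xGL R.xadd (D.nroots - 1) 1 := eq_xGL R.xadd ht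
  have htm : t ∈ D.rootSubgroup F (D.nroots - 1) := by
    rw [htx]
    exact xGL_mem_rootSubgroup R.xadd _ _
  obtain ⟨b₁, hb₁, n, hn, b₂, hb₂, rfl⟩ := R.bruhat g hgG
  obtain ⟨L₀, hL₀, h₀, hh₀, rfl⟩ := R.exists_word n hn
  obtain ⟨L, hL, hred, -, h', hh', heq⟩ := R.exists_red L₀ hL₀
  have hN := chHigh_borel_normalizes R hW h2
  have m1 : b₂ * t * b₂⁻¹ ∈ D.rootSubgroup F (D.nroots - 1) :=
    (Subgroup.mem_normalizer_iff.mp (hN hb₂) t).mp htm
  obtain ⟨a, ha⟩ := (mem_rootSubgroup_iff R.xadd _ _).mp m1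
  obtain ⟨c, hc⟩ := R.hx (h' * h₀) (mul_mem hh' hh₀) (D.nroots - 1) hr
  have m2 := R.nW_conj_x hL hr (c * a)
  have m3 : b₁⁻¹ * t * b₁⁻¹⁻¹ ∈ D.rootSubgroup F (D.nroots - 1) :=
    (Subgroup.mem_normalizer_iff.mp (hN (inv_mem hb₁)) t).mp htm
  obtain ⟨a', ha'⟩ := (mem_rootSubgroup_iff R.xadd _ _).mp m3
  rw [heq] at hcomm
  have key : xGL R.xadd (wW D L (D.nroots - 1)) ((eW D η L (D.nroots - 1) : F) * (c * a)) =
      xGL R.xadd (D.nroots - 1) a' := by
    rw [← m2, ← hc, ← ha, ← ha']
    have h3 : (b₁ * (R.nW L * h' * h₀) * b₂) * t * (b₁ * (R.nW L * h' * h₀) * b₂)⁻¹ = t := by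
      rw [← hcomm]; group
    calc R.nW L * (h' * h₀ * (b₂ * t * b₂⁻¹) * (h' * h₀)⁻¹) * (R.nW L)⁻¹
        = b₁⁻¹ * ((b₁ * (R.nW L * h' * h₀) * b₂) * t * (b₁ * (R.nW L * h' * h₀) * b₂)⁻¹) * b₁⁻¹⁻¹ := by
          group
      _ = b₁⁻¹ * t * b₁⁻¹⁻¹ := by rw [h3]
  have hfix : wW D L (D.nroots - 1) = D.nroots - 1 := by
    by_contra hne
    have h3 := chCent_distinct R hW h2 hgood (R.wf.wW_lt hL hr) hne key
    rw [h3] at ha'
    have h4 : t = 1 := by
      have e : t = b₁ * (b₁⁻¹ * t * b₁⁻¹⁻¹) * b₁⁻¹ := by group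
      rw [e, ha']
      group
    have h5 := congrArg Units.val h4
    rw [ht, Units.val_one] at h5
    exact one_ne_zero (R.xinj _ hr 1 h5)
  have hlet := chCent_red_letters hC R.wf hT h2 L hL hred hfix
  have hnP := chCent_nW_mem J R hJ2 L hL hlet
  have hB : D.borelSubgroup F ≤ (D.posUnipotent F ⊔ Subgroup.closure {g : GL D.Idx F |
      ∃ s ∈ J, ∃ c : F, (g : Matrix D.Idx D.Idx F) = D.x F s c}) ⊔ D.diagonalSubgroup F :=
    sup_le (le_sup_left.trans le_sup_left) le_sup_right
  have hg' : b₁ * (R.nW L * h' * h₀) * b₂ ∈ (D.posUnipotent F ⊔ Subgroup.closure {g : GL D.Idx F |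
      ∃ s ∈ J, ∃ c : F, (g : Matrix D.Idx D.Idx F) = D.x F s c}) ⊔ D.diagonalSubgroup F :=
    mul_mem (mul_mem (hB hb₁) (mul_mem (mul_mem (le_sup_left (a := D.posUnipotent F ⊔ Subgroup.closure
      {g : GL D.Idx F | ∃ s ∈ J, ∃ c : F, (g : Matrix D.Idx D.Idx F) = D.x F s c}) hnP)
      (le_sup_right (b := D.diagonalSubgroup F) hh')) (le_sup_right (b := D.diagonalSubgroup F) hh₀)))
      (hB hb₂)
  obtain ⟨p, hp, hd, hhd, hgeq⟩ := chCent_sup_decomp _ _
    (chCent_H_normalizes J R (fun s hs => (hJ1 s hs).1)) _ hg'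
  have hpc : t * p = p * t := Subgroup.mem_centralizer_iff.mp (hle hp).2 t rfl
  have hdc : t * hd = hd * t := by
    have h3 : p * (t * hd) = p * (hd * t) := by
      calc p * (t * hd) = (p * t) * hd := by group
        _ = (t * p) * hd := by rw [hpc]
        _ = t * (p * hd) := by group
        _ = (p * hd) * t := by rw [← hgeq]; exact hcomm
        _ = p * (hd * t) := by group
    exact mul_left_cancel h3
  have hdP := chCent_torus J R h2 hDiag hTF hsimp hJ2 i0 hi0 hJ3 t ht hhd hdc
  rw [heq, hgeq]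
  exact mul_mem hp hdP

end Chev

end Cfsg.Agent.Helper38
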