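/-
helper38: the centraliser of a root element `x_r(1)` for a dominant root `r` of a Chevalley datum (e.g. the
highest short root in characteristic two), generalising `Helper38/ChevCent` from the last root to a root `r0`
with: `U` centralises `X_{r0}` (`hcomm`), `X_{r0}` meets the other root subgroups trivially (`hdist`), and the
letters of a reduced word fixing `r0` are orthogonal to `r0` (`hlet`).
-/
import Cfsg.Agent.Helper38.ChevCent

set_option autoImplicit false

namespace Cfsg.Agent.Helper38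

open Cfsg Cfsg.Lie Cfsg.Agent.Helper36 Cfsg.Agent.Helper17

section Lin

variable {D : ChevalleyDatum}

/-- A height function for the root `r0` on a set `O` of roots closed under the fundamental reflections:
a combination of the Cartan coordinates, positive on the positive roots, with strict maximum on `O` at `r0`. -/
structure OrbFn (D : ChevalleyDatum) (O : ℕ → Prop) (r0 : ℕ) (h : ℕ → ℤ) : Prop where
  lin : CLin D h
  pos : ∀ x, D.IsPosRoot x → 0 < h x
  mem : O r0
  refl : ∀ i < D.rank, ∀ x < D.nroots, O x → O (D.reflectRoot i x)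
  top : ∀ x < D.nroots, O x → x = r0 ∨ h x < h r0

theorem OrbFn.mem_wW {O : ℕ → Prop} {r0 : ℕ} {h : ℕ → ℤ} (hT : OrbFn D O r0 h) (W : WFacts D)
    (hr : r0 < D.nroots) : ∀ M : List ℕ, ValidW D M → O (wW D M r0) := by
  intro M
  induction M with
  | nil => intro _; exact hT.mem
  | cons j M ih =>
    intro hM
    rw [wW_cons]
    exact hT.refl j hM.head _ (W.wW_lt hM.tail hr) (ih hM.tail)

/-- The letters of a reduced word fixing `r0` are orthogonal to `r0`. -/
theorem chCentG_letters (hC : CReflOK D) (W : WFacts D) {O : ℕ → Prop} {r0 : ℕ} {h : ℕ → ℤ}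
    (hT : OrbFn D O r0 h) (hr : r0 < D.nroots) :
    ∀ L, ValidW D L → RedW D L → wW D L r0 = r0 → ∀ i ∈ L, D.cartan i r0 = 0 := by
  intro L
  induction L with
  | nil =>
    intro _ _ _ i hi
    exact absurd hi List.not_mem_nil
  | cons i L ih =>
    intro hL hred hfix
    have hi := hL.head
    obtain ⟨hred', hβ⟩ := hred
    have hs : wW D L r0 < D.nroots := W.wW_lt hL.tail hr
    rw [wW_cons] at hfix
    have hs_eq : wW D L r0 = D.reflectRoot i r0 := by
      have h1 := W.refl_refl i hi _ hs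
      rw [hfix] at h1
      exact h1.symm
    have hMs : wW D L.reverse (D.reflectRoot i r0) = r0 := by
      rw [← hs_eq]
      exact W.wW_reverse' hL.tail hr
    obtain ⟨h', hh', hcomp⟩ := CLin.comp hC W L.reverse hL.tail.reverse h hT.lin
    have e1 := hh'.refl hC hi hr
    rw [← hcomp _ (W.refl_lt i hi _ hr), ← hcomp _ hr, ← hcomp _ (W.simple_lt i hi), hMs] at e1
    have e2 := hT.lin.refl hC hi hr
    have hpos1 := hT.pos _ hβ
    have hpos2 := hT.pos _ (W.simple_pos i hi)
    have hle1 : h (wW D L.reverse r0) ≤ h r0 := by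
      rcases hT.top _ (W.wW_lt hL.tail.reverse hr) (hT.mem_wW W hr _ hL.tail.reverse) with h3 | h3
      · rw [h3]
      · exact h3.le
    have hO : O (D.reflectRoot i r0) := hT.refl i hi r0 hr hT.mem
    have hle2 : h (D.reflectRoot i r0) ≤ h r0 := by
      rcases hT.top _ (W.refl_lt i hi _ hr) hO with h3 | h3
      · rw [h3]
      · exact h3.le
    have hc : D.cartan i r0 = 0 := by
      have h5 : D.cartan i r0 ≤ 0 := by
        by_contra hcon
        rw [not_le] at hcon
        have h6 := mul_pos hcon hpos1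
        linarith
      have h6 : 0 ≤ D.cartan i r0 := by
        by_contra hcon
        rw [not_le] at hcon
        have h7 := mul_neg_of_neg_of_pos hcon hpos2
        linarith
      omega
    have hfixr : D.reflectRoot i r0 = r0 := by
      rw [hc, zero_mul, sub_zero] at e2
      rcases hT.top _ (W.refl_lt i hi _ hr) hO with h3 | h3
      · exact h3
      · omega
    intro j hj
    rcases List.mem_cons.mp hj with rfl | hj
    · exact hc
    · exact ih hL.tail hred' (by rw [hs_eq, hfixr]) j hj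

end Lin

section Chev

variable {D : ChevalleyDatum} {F : Type*} [Field F] {η : ℕ → ℕ → ℤ}

theorem chCentG_word_one (hX : XAdd D F) (w : List (ℕ × F)) (h : ∀ p ∈ w, p.2 = 0) :
    wordGL hX w = 1 := by
  induction w with
  | nil => exact wordGL_nil hX
  | cons p w ih =>
    rw [wordGL_cons, h p List.mem_cons_self, xGL_zero, one_mul]
    exact ih (fun q hq => h q (List.mem_cons_of_mem _ hq))

/-- In characteristic two root elements commute when the coefficients of their commutator formula are even. -/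
theorem chCentG_comm_even [CharP F 2] (R : BRel D F η) {q r0 : ℕ} (hq : q < D.nroots)
    (hr : r0 < D.nroots) (h1 : r0 ≠ q) (h2 : r0 ≠ D.neg q)
    (heven : ∀ c ∈ D.commTerms q r0, (2 : ℤ) ∣ c.2.1) (u t : F) :
    xGL R.xadd q u * xGL R.xadd r0 t * (xGL R.xadd q u)⁻¹ = xGL R.xadd r0 t := by
  have hcf := R.cf q hq r0 hr h1 h2
  rw [xGL_conj R.xadd hcf]
  have e : wordGL R.xadd (D.commWord F q r0 (-u) t) = 1 := by
    apply chCentG_word_one
    intro p hp
    unfold ChevalleyDatum.commWord at hp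
    rw [List.mem_map] at hp
    obtain ⟨c, hc, rfl⟩ := hp
    obtain ⟨k, hk⟩ := heven c hc
    have e1 : ((c.2.1 : ℤ) : F) = 0 := by
      rw [hk]
      push_cast
      rw [CharTwo.two_eq_zero, zero_mul]
    show ((c.2.1 : ℤ) : F) * (-(-u)) ^ c.2.2.1 * t ^ c.2.2.2 = 0
    rw [e1, zero_mul, zero_mul]
  rw [e, mul_one]

/-- The root subgroup of a positive root `r0` meets the other root subgroups trivially. -/
theorem chCentG_distinct {f : ℕ → ℤ} (R : BRel D F η) (hW : WtFacts D f) {r0 : ℕ} (hr : r0 < D.nroots)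
    (hpos : D.IsPosRoot r0)
    (hgood : ∀ s, s < D.nroots → s ≠ D.neg r0 → s ≠ r0 →
      ∃ g : ℕ → ℤ, Additive D g ∧ 0 < g r0 ∧ 0 < g s)
    {s : ℕ} (hs : s < D.nroots) (hne : s ≠ r0) {a b : F}
    (he : xGL R.xadd s a = xGL R.xadd r0 b) : xGL R.xadd r0 b = 1 := by
  by_cases hs0 : s = D.neg r0
  · have hn : D.IsNegRoot (D.neg r0) := (R.wf.pos_iff_neg _ hr).mp hpos
    have h1 : xGL R.xadd r0 b ∈ D.borelSubgroup F :=
      BRel.U_le_B D F (xGL_mem_posUnipotent R.xadd hpos b)
    have h3 : xGL R.xadd r0 b ∈ D.negUnipotent F := by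
      rw [← he, hs0]
      exact xGL_mem_negUnipotent R.xadd hn a
    have h4 : xGL R.xadd r0 b ∈ D.borelSubgroup F ⊓ D.negUnipotent F := ⟨h1, h3⟩
    rw [R.bv] at h4
    exact Subgroup.mem_bot.mp h4
  · have hns : D.neg s < D.nroots := R.wf.neg_lt s hs
    have hns0 : D.neg s ≠ D.neg r0 := by
      intro e
      have h1 := R.wf.neg_neg s hs
      rw [e, R.wf.neg_neg _ hr] at h1
      exact hne h1.symm
    have hnsr : D.neg s ≠ r0 := by
      intro e
      have h1 := R.wf.neg_neg s hs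
      rw [e] at h1
      exact hs0 h1.symm
    obtain ⟨g, hA, hg1, hg2⟩ := hgood (D.neg s) hns hns0 hnsr
    have hgs : g s < 0 := by
      have h1 := hA.neg s hs
      omega
    have he' : D.x F r0 b = D.x F s a := by
      have h1 := congrArg Units.val he
      rw [xGL_val, xGL_val] at h1
      exact h1.symm
    apply Units.ext
    rw [xGL_val, Units.val_one, ← sub_eq_zero]
    ext row col
    by_contra hne'
    change (D.x F r0 b - 1) row col ≠ 0 at hne'
    obtain ⟨k, hk, e1⟩ := x_sub_one_level hW hA hr b row col hne'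
    rw [he'] at hne'
    obtain ⟨k', hk', e2⟩ := x_sub_one_level hW hA hs a row col hne'
    have p1 : 0 < (k : ℤ) * g r0 := mul_pos (by exact_mod_cast hk) hg1
    have p2 : (k' : ℤ) * g s < 0 := mul_neg_of_pos_of_neg (by exact_mod_cast hk') hgs
    omega

/-- The Borel subgroup normalises `X_{r0}` when `U` centralises it. -/
theorem chCentG_borel_normalizes (R : BRel D F η) {r0 : ℕ} (hr : r0 < D.nroots)
    (hcomm : ∀ q, D.IsPosRoot q → ∀ u t : F,
      xGL R.xadd q u * xGL R.xadd r0 t * (xGL R.xadd q u)⁻¹ = xGL R.xadd r0 t) :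
    D.borelSubgroup F ≤ Subgroup.normalizer (D.rootSubgroup F r0 : Set (GL D.Idx F)) := by
  unfold ChevalleyDatum.borelSubgroup
  apply sup_le
  · unfold ChevalleyDatum.posUnipotent
    rw [Subgroup.closure_le]
    rintro g ⟨q, u, hq, hg⟩
    rw [eq_xGL R.xadd hg]
    unfold ChevalleyDatum.rootSubgroup
    apply mem_normalizer_closure
    · rintro x ⟨t, hx⟩
      rw [eq_xGL R.xadd hx, hcomm q hq]
      exact Subgroup.subset_closure ⟨t, rfl⟩
    · rintro x ⟨t, hx⟩
      rw [eq_xGL R.xadd hx]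
      have h3 := hcomm q hq (-u) t
      rw [xGL_inv, neg_neg] at h3
      rw [xGL_inv, h3]
      exact Subgroup.subset_closure ⟨t, rfl⟩
  · intro h hh
    unfold ChevalleyDatum.rootSubgroup
    apply mem_normalizer_closure
    · rintro x ⟨t, hx⟩
      rw [eq_xGL R.xadd hx]
      obtain ⟨c, hc⟩ := R.hx h hh r0 hr
      rw [hc]
      exact Subgroup.subset_closure ⟨c * t, rfl⟩
    · rintro x ⟨t, hx⟩
      rw [eq_xGL R.xadd hx]
      obtain ⟨c, hc⟩ := R.hx h⁻¹ (inv_mem hh) r0 hr
      have h3 := hc t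
      rw [inv_inv] at h3
      rw [h3]
      exact Subgroup.subset_closure ⟨c * t, rfl⟩

variable (J : List ℕ)

theorem chCentG_le (R : BRel D F η) {r0 : ℕ}
    (hcomm : ∀ q, D.IsPosRoot q → ∀ u t : F,
      xGL R.xadd q u * xGL R.xadd r0 t * (xGL R.xadd q u)⁻¹ = xGL R.xadd r0 t)
    (hJ1 : ∀ s ∈ J, s < D.nroots ∧ ∀ c : F,
      xGL R.xadd s c * xGL R.xadd r0 1 * (xGL R.xadd s c)⁻¹ = xGL R.xadd r0 1)
    (t : GL D.Idx F) (ht : (t : Matrix D.Idx D.Idx F) = D.x F r0 1) :
    D.posUnipotent F ⊔ Subgroup.closure {g : GL D.Idx F | ∃ s ∈ J, ∃ c : F,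
      (g : Matrix D.Idx D.Idx F) = D.x F s c} ≤ D.group F ⊓ Subgroup.centralizer {t} := by
  have htx : t = xGL R.xadd r0 1 := eq_xGL R.xadd ht
  apply sup_le
  · apply le_inf (posUnipotent_le_group R.xadd)
    unfold ChevalleyDatum.posUnipotent
    rw [Subgroup.closure_le]
    rintro g ⟨q, u, hq, hg⟩
    rw [eq_xGL R.xadd hg]
    show _ ∈ Subgroup.centralizer {t}
    rw [Subgroup.mem_centralizer_iff]
    intro y hy
    rw [Set.mem_singleton_iff] at hy
    rw [hy, htx]
    exact chCent_comm_of_conj (hcomm q hq u 1)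
  · rw [Subgroup.closure_le]
    rintro g ⟨s, hs, c, hg⟩
    obtain ⟨hs1, hs2⟩ := hJ1 s hs
    rw [eq_xGL R.xadd hg]
    refine ⟨xGL_mem_group R.xadd s c, ?_⟩
    show _ ∈ Subgroup.centralizer {t}
    rw [Subgroup.mem_centralizer_iff]
    intro y hy
    rw [Set.mem_singleton_iff] at hy
    rw [hy, htx]
    exact chCent_comm_of_conj (hs2 c)

theorem chCentG_word_mem (R : BRel D F η) {i : ℕ} (hi : i < D.rank)
    (hmem : D.neg (D.simple i) ∈ J) (w : List (ℕ × F))
    (hw : ∀ p ∈ w, p.1 = D.simple i ∨ p.1 = D.neg (D.simple i)) :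
    wordGL R.xadd w ∈ D.posUnipotent F ⊔ Subgroup.closure {g : GL D.Idx F | ∃ s ∈ J, ∃ c : F,
      (g : Matrix D.Idx D.Idx F) = D.x F s c} := by
  apply wordGL_mem
  intro p hp
  rcases hw p hp with h | h
  · rw [h]
    exact (le_sup_left : D.posUnipotent F ≤ _) (xGL_mem_posUnipotent R.xadd (R.wf.simple_pos i hi) _)
  · rw [h]
    apply (le_sup_right : Subgroup.closure {g : GL D.Idx F | ∃ s ∈ J, ∃ c : F,
      (g : Matrix D.Idx D.Idx F) = D.x F s c} ≤ _)
    exact Subgroup.subset_closure ⟨_, hmem, _, rfl⟩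

theorem chCentG_nW_mem (R : BRel D F η) :
    ∀ L : List ℕ, ValidW D L → (∀ i ∈ L, D.neg (D.simple i) ∈ J) →
      R.nW L ∈ D.posUnipotent F ⊔ Subgroup.closure {g : GL D.Idx F | ∃ s ∈ J, ∃ c : F,
        (g : Matrix D.Idx D.Idx F) = D.x F s c} := by
  intro L
  induction L with
  | nil =>
    intro _ _
    rw [R.nW_nil]
    exact one_mem _
  | cons i L ih =>
    intro hL hlet
    rw [R.nW_cons]
    refine mul_mem ?_ (ih hL.tail (fun j hj => hlet j (List.mem_cons_of_mem _ hj)))
    apply chCentG_word_mem J R hL.head (hlet i List.mem_cons_self)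
    intro p hp
    unfold ChevalleyDatum.nWord at hp
    simp only [List.mem_cons, List.not_mem_nil, or_false] at hp
    rcases hp with rfl | rfl | rfl
    · exact Or.inl rfl
    · exact Or.inr rfl
    · exact Or.inl rfl

theorem chCentG_torus (R : BRel D F η) {r0 : ℕ} (hr : r0 < D.nroots)
    (hDiag : HDiag D F) (hTF : TorusFacts D) (hsimp : simpleOK D = true)
    (hJ2 : ∀ i < D.rank, D.cartan i r0 = 0 → D.neg (D.simple i) ∈ J)
    (i0 : ℕ) (hi0 : i0 < D.rank)
    (hJ3 : ∀ i < D.rank, D.cartan i r0 = if i = i0 then 1 else 0)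
    (t : GL D.Idx F) (ht : (t : Matrix D.Idx D.Idx F) = D.x F r0 1)
    {h : GL D.Idx F} (hh : h ∈ D.diagonalSubgroup F) (hcomm : t * h = h * t) :
    h ∈ D.posUnipotent F ⊔ Subgroup.closure {g : GL D.Idx F | ∃ s ∈ J, ∃ c : F,
      (g : Matrix D.Idx D.Idx F) = D.x F s c} := by
  obtain ⟨z, hz⟩ := diagonalSubgroup_le_torus hDiag hh
  have hconj := torus_conj_x hTF.chain hTF.cartan hz r0 hr (1 : F)
  have h1 : (h : Matrix D.Idx D.Idx F) * D.x F r0 1 *
      ((h⁻¹ : GL D.Idx F) : Matrix D.Idx D.Idx F) = D.x F r0 1 := by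
    have h3 : h * t * h⁻¹ = t := by rw [← hcomm]; group
    have h4 := congrArg Units.val h3
    rw [Units.val_mul, Units.val_mul, ht] at h4
    exact h4
  rw [h1] at hconj
  have hχ : ((torusChar D z r0 : Fˣ) : F) = 1 := by
    have h3 : D.x F r0 ((torusChar D z r0 : F) * 1 + (-1)) = 1 := by
      rw [← R.xadd.add', ← hconj, R.xadd.mul_neg]
    have h4 := R.xinj _ hr _ h3
    linear_combination h4
  have hz0 : z i0 = 1 := by
    have h4 : torusChar D z r0 = z i0 := by
      unfold torusChar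
      rw [list_prod_map_congr (List.range D.rank) _
        (fun i => z i ^ (if i = i0 then (1 : ℤ) else 0))
        (fun i hi => by rw [hJ3 i (List.mem_range.mp hi)]), chCent_prod_ite, if_pos hi0]
    apply Units.ext
    rw [← h4, hχ, Units.val_one]
  have hw : h = wordGL R.xadd ((List.range D.rank).flatMap fun i => D.hWord (D.simple i) (z i : F)) := by
    apply Units.ext
    rw [wordGL_val, hz, charDiag_torusChar_eq_wordMat hsimp hDiag z]
  rw [hw]
  have key : ∀ Ls : List ℕ, (∀ i ∈ Ls, i < D.rank) →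
      wordGL R.xadd (Ls.flatMap fun i => D.hWord (D.simple i) (z i : F)) ∈
        D.posUnipotent F ⊔ Subgroup.closure {g : GL D.Idx F | ∃ s ∈ J, ∃ c : F,
          (g : Matrix D.Idx D.Idx F) = D.x F s c} := by
    intro Ls
    induction Ls with
    | nil =>
      intro _
      rw [List.flatMap_nil, wordGL_nil]
      exact one_mem _
    | cons i Ls ih =>
      intro hLs
      have hi : i < D.rank := hLs i List.mem_cons_self
      rw [List.flatMap_cons, wordGL_append]
      refine mul_mem ?_ (ih (fun j hj => hLs j (List.mem_cons_of_mem _ hj)))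
      by_cases hii : i = i0
      · have e : wordGL R.xadd (D.hWord (D.simple i) (z i : F)) = 1 := by
          apply Units.ext
          rw [wordGL_val, hii, hz0, Units.val_one, Units.val_one]
          unfold ChevalleyDatum.hWord
          rw [Cfsg.Agent.Helper17.wordMat_append]
          exact R.ninv (D.simple i0) (R.wf.simple_lt i0 hi0) 1 one_ne_zero
        rw [e]
        exact one_mem _
      · have hc : D.cartan i r0 = 0 := by rw [hJ3 i hi, if_neg hii]
        apply chCentG_word_mem J R hi (hJ2 i hi hc)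
        intro p hp
        unfold ChevalleyDatum.hWord ChevalleyDatum.nWord at hp
        simp only [List.mem_append, List.mem_cons, List.not_mem_nil, or_false] at hp
        rcases hp with (rfl | rfl | rfl) | (rfl | rfl | rfl)
        · exact Or.inl rfl
        · exact Or.inr rfl
        · exact Or.inl rfl
        · exact Or.inl rfl
        · exact Or.inr rfl
        · exact Or.inl rfl
  exact key _ (fun i hi => List.mem_range.mp hi)

/-- The centraliser of `x_{r0}(1)` in the Chevalley group is generated by `U` and the root subgroups `X_s`,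
`s ∈ J` (the negative fundamental roots orthogonal to `r0`). -/
theorem chCentG_main (R : BRel D F η) {r0 : ℕ} (hr : r0 < D.nroots)
    (hcomm : ∀ q, D.IsPosRoot q → ∀ u t : F,
      xGL R.xadd q u * xGL R.xadd r0 t * (xGL R.xadd q u)⁻¹ = xGL R.xadd r0 t)
    (hdist : ∀ s < D.nroots, s ≠ r0 → ∀ a b : F,
      xGL R.xadd s a = xGL R.xadd r0 b → xGL R.xadd r0 b = 1)
    (hlet : ∀ L, ValidW D L → RedW D L → wW D L r0 = r0 → ∀ i ∈ L, D.cartan i r0 = 0)
    (hDiag : HDiag D F) (hTF : TorusFacts D) (hsimp : simpleOK D = true)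
    (hJ1 : ∀ s ∈ J, s < D.nroots ∧ ∀ c : F,
      xGL R.xadd s c * xGL R.xadd r0 1 * (xGL R.xadd s c)⁻¹ = xGL R.xadd r0 1)
    (hJ2 : ∀ i < D.rank, D.cartan i r0 = 0 → D.neg (D.simple i) ∈ J)
    (i0 : ℕ) (hi0 : i0 < D.rank)
    (hJ3 : ∀ i < D.rank, D.cartan i r0 = if i = i0 then 1 else 0)
    (t : GL D.Idx F) (ht : (t : Matrix D.Idx D.Idx F) = D.x F r0 1) :
    D.group F ⊓ Subgroup.centralizer {t} =
      D.posUnipotent F ⊔ Subgroup.closure {g : GL D.Idx F | ∃ s ∈ J, ∃ c : F,
        (g : Matrix D.Idx D.Idx F) = D.x F s c} := by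
  have hle := chCentG_le J R hcomm hJ1 t ht
  apply le_antisymm _ hle
  rintro g ⟨hgG, hgC⟩
  have hcomm' : t * g = g * t := Subgroup.mem_centralizer_iff.mp hgC t rfl
  have htx : t = xGL R.xadd r0 1 := eq_xGL R.xadd ht
  have htm : t ∈ D.rootSubgroup F r0 := by
    rw [htx]
    exact xGL_mem_rootSubgroup R.xadd _ _
  obtain ⟨b₁, hb₁, n, hn, b₂, hb₂, rfl⟩ := R.bruhat g hgG
  obtain ⟨L₀, hL₀, h₀, hh₀, rfl⟩ := R.exists_word n hn
  obtain ⟨L, hL, hred, -, h', hh', heq⟩ := R.exists_red L₀ hL₀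
  have hN := chCentG_borel_normalizes R hr hcomm
  have m1 : b₂ * t * b₂⁻¹ ∈ D.rootSubgroup F r0 :=
    (Subgroup.mem_normalizer_iff.mp (hN hb₂) t).mp htm
  obtain ⟨a, ha⟩ := (mem_rootSubgroup_iff R.xadd _ _).mp m1
  obtain ⟨c, hc⟩ := R.hx (h' * h₀) (mul_mem hh' hh₀) r0 hr
  have m2 := R.nW_conj_x hL hr (c * a)
  have m3 : b₁⁻¹ * t * b₁⁻¹⁻¹ ∈ D.rootSubgroup F r0 :=
    (Subgroup.mem_normalizer_iff.mp (hN (inv_mem hb₁)) t).mp htm
  obtain ⟨a', ha'⟩ := (mem_rootSubgroup_iff R.xadd _ _).mp m3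
  rw [heq] at hcomm'
  have key : xGL R.xadd (wW D L r0) ((eW D η L r0 : F) * (c * a)) = xGL R.xadd r0 a' := by
    rw [← m2, ← hc, ← ha, ← ha']
    have h3 : (b₁ * (R.nW L * h' * h₀) * b₂) * t * (b₁ * (R.nW L * h' * h₀) * b₂)⁻¹ = t := by
      rw [← hcomm']; group
    calc R.nW L * (h' * h₀ * (b₂ * t * b₂⁻¹) * (h' * h₀)⁻¹) * (R.nW L)⁻¹
        = b₁⁻¹ * ((b₁ * (R.nW L * h' * h₀) * b₂) * t * (b₁ * (R.nW L * h' * h₀) * b₂)⁻¹) * b₁⁻¹⁻¹ := by
          group
      _ = b₁⁻¹ * t * b₁⁻¹⁻¹ := by rw [h3]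
  have hfix : wW D L r0 = r0 := by
    by_contra hne
    have h3 := hdist _ (R.wf.wW_lt hL hr) hne _ _ key
    rw [h3] at ha'
    have h4 : t = 1 := by
      have e : t = b₁ * (b₁⁻¹ * t * b₁⁻¹⁻¹) * b₁⁻¹ := by group
      rw [e, ha']
      group
    have h5 := congrArg Units.val h4
    rw [ht, Units.val_one] at h5
    exact one_ne_zero (R.xinj _ hr 1 h5)
  have hlet' := hlet L hL hred hfix
  have hnP := chCentG_nW_mem J R L hL (fun i hi => hJ2 i (hL i hi) (hlet' i hi))
  have hB : D.borelSubgroup F ≤ (D.posUnipotent F ⊔ Subgroup.closure {g : GL D.Idx F |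
      ∃ s ∈ J, ∃ c : F, (g : Matrix D.Idx D.Idx F) = D.x F s c}) ⊔ D.diagonalSubgroup F :=
    sup_le (le_sup_left.trans le_sup_left) le_sup_right
  have hg' : b₁ * (R.nW L * h' * h₀) * b₂ ∈ (D.posUnipotent F ⊔ Subgroup.closure {g : GL D.Idx F |
      ∃ s ∈ J, ∃ c : F, (g : Matrix D.Idx D.Idx F) = D.x F s c}) ⊔ D.diagonalSubgroup F :=
    mul_mem (mul_mem (hB hb₁) (mul_mem (mul_mem (le_sup_left (a := D.posUnipotent F ⊔ Subgroup.closure
      {g : GL D.Idx F | ∃ s ∈ J, ∃ c : F, (g : Matrix D.Idx D.Idx F) = D.x F s c}) hnP)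
      (le_sup_right (b := D.diagonalSubgroup F) hh')) (le_sup_right (b := D.diagonalSubgroup F) hh₀)))
      (hB hb₂)
  obtain ⟨p, hp, hd, hhd, hgeq⟩ := chCent_sup_decomp _ _
    (chCent_H_normalizes J R (fun s hs => (hJ1 s hs).1)) _ hg'
  have hpc : t * p = p * t := Subgroup.mem_centralizer_iff.mp (hle hp).2 t rfl
  have hdc : t * hd = hd * t := by
    have h3 : p * (t * hd) = p * (hd * t) := by
      calc p * (t * hd) = (p * t) * hd := by group
        _ = (t * p) * hd := by rw [hpc]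
        _ = t * (p * hd) := by group
        _ = (p * hd) * t := by rw [← hgeq]; exact hcomm'
        _ = p * (hd * t) := by group
    exact mul_left_cancel h3
  have hdP := chCentG_torus J R hr hDiag hTF hsimp hJ2 i0 hi0 hJ3 t ht hhd hdc
  rw [heq, hgeq]
  exact mul_mem hp hdP

/-- The closure of the root elements of the roots of a list is the join of the root subgroups. -/
theorem chCentG_closure3 (a b c : ℕ) :
    Subgroup.closure {g : GL D.Idx F | ∃ s ∈ [a, b, c], ∃ t : F,
      (g : Matrix D.Idx D.Idx F) = D.x F s t} =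
      D.rootSubgroup F a ⊔ D.rootSubgroup F b ⊔ D.rootSubgroup F c := by
  apply le_antisymm
  · rw [Subgroup.closure_le]
    rintro g ⟨s, hs, t, hg⟩
    simp only [List.mem_cons, List.not_mem_nil, or_false] at hs
    rcases hs with rfl | rfl | rfl
    · exact (le_sup_left : D.rootSubgroup F s ≤ D.rootSubgroup F s ⊔ D.rootSubgroup F b).trans
        le_sup_left (Subgroup.subset_closure ⟨t, hg⟩)
    · exact (le_sup_right : D.rootSubgroup F s ≤ D.rootSubgroup F a ⊔ D.rootSubgroup F s).trans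
        le_sup_left (Subgroup.subset_closure ⟨t, hg⟩)
    · exact (le_sup_right : D.rootSubgroup F s ≤ D.rootSubgroup F a ⊔ D.rootSubgroup F b ⊔
        D.rootSubgroup F s) (Subgroup.subset_closure ⟨t, hg⟩)
  · refine sup_le (sup_le ?_ ?_) ?_
    · exact Subgroup.closure_mono (fun g ⟨t, hg⟩ => ⟨a, by simp, t, hg⟩)
    · exact Subgroup.closure_mono (fun g ⟨t, hg⟩ => ⟨b, by simp, t, hg⟩)
    · exact Subgroup.closure_mono (fun g ⟨t, hg⟩ => ⟨c, by simp, t, hg⟩)

end Chev

end Cfsg.Agent.Helper38
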