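/-
helper38: the table facts of `Helper38/ChevCent` for the Chevalley data of types E6, E7, E8: the Cartan
coordinates of reflected roots (`CReflOK`, checked on helper18's fast reflection table `wN`), and a height
function (`TopFn`): `x ↦ ∑ φ_j A_{p_j, x}` with `φ` the coordinates of `2ρ^∨`.
-/
import Cfsg.Agent.Helper38.ChevCent
import Cfsg.Agent.Helper18.NAll

set_option autoImplicit false

namespace Cfsg.Agent.Helper38

open Cfsg Cfsg.Lie Cfsg.Agent.Helper36 Cfsg.Agent.Helper17

/-- Row check of `CReflOK`, on the packed Cartan table `P` (fields `A + 8`). -/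
noncomputable def cReflRow (D : ChevalleyDatum) (P i x : ℕ) : Bool :=
  Cfsg.Agent.Helper17.allBelow D.rank fun j =>
    Nat.beq
      (Nat.add (Nat.add (fld P 5 (D.rank * Cfsg.Agent.Helper18.wN D i x + j))
        (Nat.mul (fld P 5 (D.rank * x + i)) (fld P 5 (D.rank * D.simple i + j)))) 64)
      (Nat.add (Nat.add (fld P 5 (D.rank * x + j)) (Nat.mul 8 (fld P 5 (D.rank * x + i))))
        (Nat.mul 8 (fld P 5 (D.rank * D.simple i + j))))

/-- Check of `CReflOK` for the reflection `i`. -/
noncomputable def cReflChk (D : ChevalleyDatum) (P i : ℕ) : Bool :=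
  Cfsg.Agent.Helper17.allBelow D.nroots fun x => cReflRow D P i x

theorem cRefl_of_chk {D : ChevalleyDatum} {P : ℕ}
    (hD : D ∈ [chevG2, chevB2, chevD4, chevF4, chevE6, chevE7, chevE8])
    (hP : cartanPackOK D P = true)
    (h : Cfsg.Agent.Helper17.allBelow D.rank (fun i => cReflChk D P i) = true) : CReflOK D := by
  intro i hi j hj x hx
  rw [Cfsg.Agent.Helper17.allBelow_iff] at h
  have h1 := h i hi
  unfold cReflChk at h1
  rw [Cfsg.Agent.Helper17.allBelow_iff] at h1
  have h2 := h1 x hx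
  unfold cReflRow at h2
  rw [Cfsg.Agent.Helper17.allBelow_iff] at h2
  have h3 := Nat.eq_of_beq_eq_true (h2 j hj)
  rw [Cfsg.Agent.Helper18.wN_eq D hD i hi x hx] at h3
  simp only [Nat.add_eq, Nat.mul_eq] at h3
  have hw := (Cfsg.Agent.Helper18.reflectRoot_spec D hD i hi x hx).1
  have hp := Cfsg.Agent.Helper18.simple_lt D hD i hi
  have A1 := cartanPackOK_spec hP hj hw
  have A2 := cartanPackOK_spec hP hi hx
  have A3 := cartanPackOK_spec hP hj hp
  have A4 := cartanPackOK_spec hP hj hx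
  have e := congrArg (Nat.cast (R := ℤ)) h3
  push_cast at e
  rw [← A1, ← A2, ← A3, ← A4] at e
  linear_combination e

/-- The combination `x ↦ ∑ φ_k A_{p_(j+k), x}` of the Cartan coordinates. -/
def hLin (D : ChevalleyDatum) : List ℤ → ℕ → ℕ → ℤ
  | [], _, _ => 0
  | a :: φ, j, x => a * D.cartan j x + hLin D φ (j + 1) x

theorem CLin.congr {D : ChevalleyDatum} {u v : ℕ → ℤ} (hu : CLin D u) (h : ∀ x, u x = v x) :
    CLin D v := by
  have e : u = v := funext h
  rw [← e]
  exact hu

theorem hLin_clin (D : ChevalleyDatum) : ∀ (φ : List ℤ) (j : ℕ), j + φ.length ≤ D.rank →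
    CLin D (fun x => hLin D φ j x)
  | [], _, _ => CLin.zero
  | a :: φ, j, h => by
    have h1 : j < D.rank := by simp only [List.length_cons] at h; omega
    have h2 : (j + 1) + φ.length ≤ D.rank := by simp only [List.length_cons] at h; omega
    exact (CLin.comb a 1 _ _ (CLin.coord j h1) (hLin_clin D φ (j + 1) h2)).congr
      (fun x => by simp [hLin])

/-- The same combination on the packed Cartan table `P` (fields `A + 8`), with natural coefficients. -/
def hLinP (D : ChevalleyDatum) (P : ℕ) : List ℕ → ℕ → ℕ → ℕ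
  | [], _, _ => 0
  | a :: φ, j, x => Nat.add (Nat.mul a (fld P 5 (D.rank * x + j))) (hLinP D P φ (j + 1) x)

theorem hLinP_eq {D : ChevalleyDatum} {P : ℕ} (hP : cartanPackOK D P = true) {x : ℕ} (hx : x < D.nroots) :
    ∀ (φ : List ℕ) (j : ℕ), j + φ.length ≤ D.rank →
      ((hLinP D P φ j x : ℕ) : ℤ) = hLin D (φ.map Nat.cast) j x + 8 * ((φ.sum : ℕ) : ℤ)
  | [], _, _ => by simp [hLinP, hLin]
  | a :: φ, j, h => by
    have h1 : j < D.rank := by simp only [List.length_cons] at h; omega
    have h2 : (j + 1) + φ.length ≤ D.rank := by simp only [List.length_cons] at h; omega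
    have ih := hLinP_eq hP hx φ (j + 1) h2
    have A := cartanPackOK_spec hP h1 hx
    show ((Nat.add (Nat.mul a (fld P 5 (D.rank * x + j))) (hLinP D P φ (j + 1) x) : ℕ) : ℤ) =
      ((a : ℤ) * D.cartan j x + hLin D (φ.map Nat.cast) (j + 1) x) + 8 * (((a :: φ).sum : ℕ) : ℤ)
    have hs : (((a :: φ).sum : ℕ) : ℤ) = (a : ℤ) + ((φ.sum : ℕ) : ℤ) := by
      rw [List.sum_cons, Nat.cast_add]
    simp only [Nat.add_eq, Nat.mul_eq]
    rw [hs, Nat.cast_add, Nat.cast_mul, ih, ← A]
    ring

/-- Check of `TopFn` for the combination with coefficients `φ`, on the packed Cartan table `P` and the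
packed weight table `Wf`. -/
def topFnChk (D : ChevalleyDatum) (P Wf : ℕ) (φ : List ℕ) : Bool :=
  Cfsg.Agent.Helper17.allBelow D.nroots fun x =>
    (!Nat.blt 1073741824 (wfld Wf x) || Nat.blt (Nat.mul 8 φ.sum) (hLinP D P φ 0 x)) &&
    (Nat.beq x (Nat.sub D.nroots 1) ||
      Nat.blt (hLinP D P φ 0 x) (hLinP D P φ 0 (Nat.sub D.nroots 1)))

theorem topFn_of_chk {D : ChevalleyDatum} {P Wf : ℕ} {φ : List ℕ} (hP : cartanPackOK D P = true)
    (hWf : WtFacts D (wt Wf)) (h0 : 0 < D.nroots) (hlen : φ.length ≤ D.rank)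
    (h : topFnChk D P Wf φ = true) : TopFn D (fun x => hLin D (φ.map Nat.cast) 0 x) := by
  unfold topFnChk at h
  rw [Cfsg.Agent.Helper17.allBelow_iff] at h
  have hlen' : 0 + φ.length ≤ D.rank := by omega
  refine ⟨hLin_clin D (φ.map Nat.cast) 0 (by simpa using hlen), ?_, ?_⟩
  · intro x hx
    have h1 := h x hx.1
    rw [Bool.and_eq_true, Bool.or_eq_true] at h1
    have hf : 0 < wt Wf x := (hWf.pos x hx.1).mp hx
    rcases h1.1 with h2 | h2
    · exfalso
      have h3 : Nat.blt 1073741824 (wfld Wf x) = true := by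
        rw [Nat.blt_eq]
        unfold wt at hf
        omega
      rw [h3] at h2
      exact absurd h2 (by decide)
    · rw [Nat.blt_eq] at h2
      have e := hLinP_eq hP hx.1 φ 0 hlen'
      simp only [Nat.mul_eq] at h2
      show 0 < hLin D (φ.map Nat.cast) 0 x
      omega
  · intro x hx
    have h1 := h x hx
    rw [Bool.and_eq_true] at h1
    have h3 := h1.2
    rw [Bool.or_eq_true] at h3
    rcases h3 with h2 | h2
    · left
      exact Nat.eq_of_beq_eq_true h2
    · right
      rw [Nat.blt_eq] at h2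
      have hr : Nat.sub D.nroots 1 = D.nroots - 1 := rfl
      rw [hr] at h2
      have e1 := hLinP_eq hP hx φ 0 hlen'
      have e2 := hLinP_eq hP (show D.nroots - 1 < D.nroots by omega) φ 0 hlen'
      show hLin D (φ.map Nat.cast) 0 x < hLin D (φ.map Nat.cast) 0 (D.nroots - 1)
      omega

/-- The coordinates of `2ρ^∨` on the fundamental coroots. -/
def phiE6 : List ℕ := [16, 22, 30, 42, 30, 16]
def phiE7 : List ℕ := [34, 49, 66, 96, 75, 52, 27]
def phiE8 : List ℕ := [92, 136, 182, 270, 220, 168, 114, 58]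

theorem cReflChk_E6 :
    Cfsg.Agent.Helper17.allBelow chevE6.rank (fun i => cReflChk chevE6 cartanPackE6 i) = true := by
  decide +kernel
theorem cReflChk_E7 :
    Cfsg.Agent.Helper17.allBelow chevE7.rank (fun i => cReflChk chevE7 cartanPackE7 i) = true := by
  decide +kernel
theorem cReflChk_E8 :
    Cfsg.Agent.Helper17.allBelow chevE8.rank (fun i => cReflChk chevE8 cartanPackE8 i) = true := by
  decide +kernel

theorem topFnChk_E6 : topFnChk chevE6 cartanPackE6 wtPackE6 phiE6 = true := by decide +kernel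
theorem topFnChk_E7 : topFnChk chevE7 cartanPackE7 wtPackE7 phiE7 = true := by decide +kernel
theorem topFnChk_E8 : topFnChk chevE8 cartanPackE8 wtPackE8 phiE8 = true := by decide +kernel

theorem cartanPackOK_E6 : cartanPackOK chevE6 cartanPackE6 = true := by
  have h := cartanOK_E6
  rw [Bool.and_eq_true, Bool.and_eq_true] at h
  exact h.1.1
theorem cartanPackOK_E7 : cartanPackOK chevE7 cartanPackE7 = true := by
  have h := cartanOK_E7
  rw [Bool.and_eq_true, Bool.and_eq_true] at h
  exact h.1.1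
theorem cartanPackOK_E8 : cartanPackOK chevE8 cartanPackE8 = true := by
  have h := cartanOK_E8
  rw [Bool.and_eq_true, Bool.and_eq_true] at h
  exact h.1.1

theorem cReflOK_E6 : CReflOK chevE6 := cRefl_of_chk (by simp) cartanPackOK_E6 cReflChk_E6
theorem cReflOK_E7 : CReflOK chevE7 := cRefl_of_chk (by simp) cartanPackOK_E7 cReflChk_E7
theorem cReflOK_E8 : CReflOK chevE8 := cRefl_of_chk (by simp) cartanPackOK_E8 cReflChk_E8

theorem topFn_E6 : TopFn chevE6 (fun x => hLin chevE6 (phiE6.map Nat.cast) 0 x) :=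
  topFn_of_chk cartanPackOK_E6 (wtFacts_of_wtOK chainPackOK_E6 wtOK_E6) (by decide) (by decide) topFnChk_E6
theorem topFn_E7 : TopFn chevE7 (fun x => hLin chevE7 (phiE7.map Nat.cast) 0 x) :=
  topFn_of_chk cartanPackOK_E7 (wtFacts_of_wtOK chainPackOK_E7 wtOK_E7) (by decide) (by decide) topFnChk_E7
theorem topFn_E8 : TopFn chevE8 (fun x => hLin chevE8 (phiE8.map Nat.cast) 0 x) :=
  topFn_of_chk cartanPackOK_E8 (wtFacts_of_wtOK chainPackOK_E8 wtOK_E8) (by decide) (by decide) topFnChk_E8

/-! ### The roots orthogonal to the last root -/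

theorem chCentJ1_E6 : ∀ s ∈ [15, 29, 32, 34, 35], s < chevE6.nroots ∧ s ≠ chevE6.nroots - 1 ∧
    chevE6.nroots - 1 ≠ chevE6.neg s ∧ chevE6.commTerms s (chevE6.nroots - 1) = [] := by decide +kernel
theorem chCentJ1_E7 : ∀ s ∈ [47, 52, 56, 59, 61, 62], s < chevE7.nroots ∧ s ≠ chevE7.nroots - 1 ∧
    chevE7.nroots - 1 ≠ chevE7.neg s ∧ chevE7.commTerms s (chevE7.nroots - 1) = [] := by decide +kernel
theorem chCentJ1_E8 : ∀ s ∈ [77, 98, 104, 109, 113, 116, 118], s < chevE8.nroots ∧
    s ≠ chevE8.nroots - 1 ∧ chevE8.nroots - 1 ≠ chevE8.neg s ∧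
    chevE8.commTerms s (chevE8.nroots - 1) = [] := by decide +kernel

theorem chCentJ2_E6 : ∀ i < chevE6.rank, chevE6.cartan i (chevE6.nroots - 1) = 0 →
    chevE6.neg (chevE6.simple i) ∈ [15, 29, 32, 34, 35] := by decide +kernel
theorem chCentJ2_E7 : ∀ i < chevE7.rank, chevE7.cartan i (chevE7.nroots - 1) = 0 →
    chevE7.neg (chevE7.simple i) ∈ [47, 52, 56, 59, 61, 62] := by decide +kernel
theorem chCentJ2_E8 : ∀ i < chevE8.rank, chevE8.cartan i (chevE8.nroots - 1) = 0 →
    chevE8.neg (chevE8.simple i) ∈ [77, 98, 104, 109, 113, 116, 118] := by decide +kernel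

theorem chCentJ3_E6 : ∀ i < chevE6.rank, chevE6.cartan i (chevE6.nroots - 1) = if i = 1 then 1 else 0 := by
  decide +kernel
theorem chCentJ3_E7 : ∀ i < chevE7.rank, chevE7.cartan i (chevE7.nroots - 1) = if i = 0 then 1 else 0 := by
  decide +kernel
theorem chCentJ3_E8 : ∀ i < chevE8.rank, chevE8.cartan i (chevE8.nroots - 1) = if i = 7 then 1 else 0 := by
  decide +kernel

end Cfsg.Agent.Helper38
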