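/-
helper38: for the Chevalley data of types G2, D4, E6, E7, E8: every root `s` other than the first and the last
admits an additive function that is positive on `s` and on the last root (table check on helper17's packed root
coordinates: some 2 x 2 minor of the coordinates of `s` and of the last root does not vanish).
-/
import Cfsg.Agent.Helper17.ChevCoord

set_option autoImplicit false

namespace Cfsg.Agent.Helper38

open Cfsg Cfsg.Lie Cfsg.Agent.Helper17

/-- Integer combinations of additive functions are additive. -/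
theorem chHigh_additive_comb {D : ChevalleyDatum} {u v : ℕ → ℤ} (hu : Additive D u) (hv : Additive D v)
    (A B : ℤ) : Additive D (fun x => A * u x + B * v x) := by
  constructor
  · intro r hr
    show A * u (D.neg r) + B * v (D.neg r) = -(A * u r + B * v r)
    rw [hu.neg r hr, hv.neg r hr]; ring
  · intro r s d w c hr hs hd
    show A * u w + B * v w = (A * u s + B * v s) + (d + 1) * (A * u r + B * v r)
    rw [hu.chain r s d w c hr hs hd, hv.chain r s d w c hr hs hd]; ring

/-- Bounded existential search. -/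
def chHighAny (n : ℕ) (p : ℕ → Bool) : Bool := Nat.rec false (fun k ih => p k || ih) n

theorem chHighAny_iff (n : ℕ) (p : ℕ → Bool) : chHighAny n p = true ↔ ∃ k, k < n ∧ p k = true := by
  induction n with
  | zero => simp [chHighAny]
  | succ n ih =>
    have e : chHighAny (n + 1) p = (p n || chHighAny n p) := rfl
    rw [e, Bool.or_eq_true, ih]
    constructor
    · rintro (h | ⟨k, hk, h⟩)
      · exact ⟨n, Nat.lt_succ_self n, h⟩
      · exact ⟨k, Nat.lt_succ_of_lt hk, h⟩
    · rintro ⟨k, hk, h⟩
      rcases Nat.lt_succ_iff_lt_or_eq.mp hk with h1 | h1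
      · exact Or.inr ⟨k, h1, h⟩
      · subst h1
        exact Or.inl h

/-- The minor of the coordinates `j`, `k` of the roots `r`, `s` does not vanish (fields with offset `2^30`). -/
def chHighMinor (Ws : List ℕ) (r s j k : ℕ) : Bool :=
  !(Nat.beq
    (Nat.add (Nat.mul (wfld (Ws.getD j 0) r) (wfld (Ws.getD k 0) s))
      (Nat.mul 1073741824 (Nat.add (wfld (Ws.getD j 0) s) (wfld (Ws.getD k 0) r))))
    (Nat.add (Nat.mul (wfld (Ws.getD j 0) s) (wfld (Ws.getD k 0) r))
      (Nat.mul 1073741824 (Nat.add (wfld (Ws.getD j 0) r) (wfld (Ws.getD k 0) s)))))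

/-- The check for the root `s`. -/
def chHighRowOK (D : ChevalleyDatum) (Ws : List ℕ) (s : ℕ) : Bool :=
  Nat.beq s 0 || Nat.beq s (Nat.sub D.nroots 1) ||
    chHighAny D.rank fun j => chHighAny D.rank fun k => chHighMinor Ws (Nat.sub D.nroots 1) s j k

/-- The check: every root but the first and the last is linearly independent of the last root. -/
def chHighOK (D : ChevalleyDatum) (Ws : List ℕ) : Bool :=
  allBelow D.nroots fun s => chHighRowOK D Ws s

theorem chHigh_good_of_OK {D : ChevalleyDatum} {packs Ws : List ℕ}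
    (hpack : chainPackOK D packs = true) (hc : coordOK D packs Ws = true) (h : chHighOK D Ws = true) :
    ∀ s, s < D.nroots → s ≠ 0 → s ≠ D.nroots - 1 →
      ∃ g : ℕ → ℤ, Additive D g ∧ 0 < g (D.nroots - 1) ∧ 0 < g s := by
  have hRC := rootCoords_of_OK hpack hc
  intro s hs hs0 hsr
  unfold chHighOK at h
  rw [allBelow_iff] at h
  have h1 := h s hs
  unfold chHighRowOK at h1
  rw [Bool.or_eq_true, Bool.or_eq_true] at h1
  rcases h1 with (h1 | h1) | h1
  · exact absurd (Nat.eq_of_beq_eq_true h1) hs0
  · exact absurd (Nat.eq_of_beq_eq_true h1) hsr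
  · rw [chHighAny_iff] at h1
    obtain ⟨j, hj, h1⟩ := h1
    rw [chHighAny_iff] at h1
    obtain ⟨k, hk, h1⟩ := h1
    have hAj := hRC.add j hj
    have hAk := hRC.add k hk
    have hr : Nat.sub D.nroots 1 = D.nroots - 1 := rfl
    rw [hr] at h1
    have hΔ : wt (Ws.getD j 0) (D.nroots - 1) * wt (Ws.getD k 0) s -
        wt (Ws.getD j 0) s * wt (Ws.getD k 0) (D.nroots - 1) ≠ 0 := by
      intro e
      unfold chHighMinor at h1
      cases hb : Nat.beq
        (Nat.add (Nat.mul (wfld (Ws.getD j 0) (D.nroots - 1)) (wfld (Ws.getD k 0) s))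
          (Nat.mul 1073741824 (Nat.add (wfld (Ws.getD j 0) s) (wfld (Ws.getD k 0) (D.nroots - 1)))))
        (Nat.add (Nat.mul (wfld (Ws.getD j 0) s) (wfld (Ws.getD k 0) (D.nroots - 1)))
          (Nat.mul 1073741824 (Nat.add (wfld (Ws.getD j 0) (D.nroots - 1)) (wfld (Ws.getD k 0) s))))
      · have hne := Nat.ne_of_beq_eq_false hb
        apply hne
        simp only [Nat.add_eq, Nat.mul_eq]
        unfold wt at e
        have e' : ((wfld (Ws.getD j 0) (D.nroots - 1) * wfld (Ws.getD k 0) s +
            1073741824 * (wfld (Ws.getD j 0) s + wfld (Ws.getD k 0) (D.nroots - 1)) : ℕ) : ℤ) =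
            ((wfld (Ws.getD j 0) s * wfld (Ws.getD k 0) (D.nroots - 1) +
            1073741824 * (wfld (Ws.getD j 0) (D.nroots - 1) + wfld (Ws.getD k 0) s) : ℕ) : ℤ) := by
          push_cast
          linear_combination e
        exact_mod_cast e'
      · rw [hb] at h1
        exact absurd h1 (by decide)
    rcases lt_or_gt_of_ne hΔ with hneg | hpos
    · refine ⟨fun x => (wt (Ws.getD k 0) (D.nroots - 1) - wt (Ws.getD k 0) s) * wt (Ws.getD j 0) x +
        (wt (Ws.getD j 0) s - wt (Ws.getD j 0) (D.nroots - 1)) * wt (Ws.getD k 0) x,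
        chHigh_additive_comb hAj hAk _ _, ?_, ?_⟩
      · show 0 < (wt (Ws.getD k 0) (D.nroots - 1) - wt (Ws.getD k 0) s) * wt (Ws.getD j 0) (D.nroots - 1) +
          (wt (Ws.getD j 0) s - wt (Ws.getD j 0) (D.nroots - 1)) * wt (Ws.getD k 0) (D.nroots - 1)
        linarith
      · show 0 < (wt (Ws.getD k 0) (D.nroots - 1) - wt (Ws.getD k 0) s) * wt (Ws.getD j 0) s +
          (wt (Ws.getD j 0) s - wt (Ws.getD j 0) (D.nroots - 1)) * wt (Ws.getD k 0) s
        linarith
    · refine ⟨fun x => (wt (Ws.getD k 0) s - wt (Ws.getD k 0) (D.nroots - 1)) * wt (Ws.getD j 0) x +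
        (wt (Ws.getD j 0) (D.nroots - 1) - wt (Ws.getD j 0) s) * wt (Ws.getD k 0) x,
        chHigh_additive_comb hAj hAk _ _, ?_, ?_⟩
      · show 0 < (wt (Ws.getD k 0) s - wt (Ws.getD k 0) (D.nroots - 1)) * wt (Ws.getD j 0) (D.nroots - 1) +
          (wt (Ws.getD j 0) (D.nroots - 1) - wt (Ws.getD j 0) s) * wt (Ws.getD k 0) (D.nroots - 1)
        linarith
      · show 0 < (wt (Ws.getD k 0) s - wt (Ws.getD k 0) (D.nroots - 1)) * wt (Ws.getD j 0) s +
          (wt (Ws.getD j 0) (D.nroots - 1) - wt (Ws.getD j 0) s) * wt (Ws.getD k 0) s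
        linarith

theorem chHighOK_G2 : chHighOK chevG2 coordWG2 = true := by decide +kernel
theorem chHighOK_D4 : chHighOK chevD4 coordWD4 = true := by decide +kernel
theorem chHighOK_E6 : chHighOK chevE6 coordWE6 = true := by decide +kernel
theorem chHighOK_E7 : chHighOK chevE7 coordWE7 = true := by decide +kernel
theorem chHighOK_E8 : chHighOK chevE8 coordWE8 = true := by decide +kernel

/-- For types G2, D4, E6, E7, E8: every root other than the first and the last admits an additive function
positive on it and on the last root. -/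
theorem chHigh_good_of_mem {D : ChevalleyDatum} (hD : D ∈ [chevG2, chevD4, chevE6, chevE7, chevE8]) :
    ∀ s, s < D.nroots → s ≠ 0 → s ≠ D.nroots - 1 →
      ∃ g : ℕ → ℤ, Additive D g ∧ 0 < g (D.nroots - 1) ∧ 0 < g s := by
  simp only [List.mem_cons, List.not_mem_nil, or_false] at hD
  rcases hD with rfl | rfl | rfl | rfl | rfl
  · exact chHigh_good_of_OK chainPackOK_G2 coordOK_G2 chHighOK_G2
  · exact chHigh_good_of_OK chainPackOK_D4 coordOK_D4 chHighOK_D4
  · exact chHigh_good_of_OK chainPackOK_E6 coordOK_E6 chHighOK_E6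
  · exact chHigh_good_of_OK chainPackOK_E7 coordOK_E7 chHighOK_E7
  · exact chHigh_good_of_OK chainPackOK_E8 coordOK_E8 chHighOK_E8

end Cfsg.Agent.Helper38
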