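/-
helper38: the centralisers of the long root element `x_47(1)` (any field) and of the short root element
`x_44(1)` (characteristic two) in the Chevalley group of type F4: generated by `U` and the root subgroups of
the negative fundamental roots orthogonal to the root.
-/
import Cfsg.Agent.Helper38.ChevCentG
import Cfsg.Agent.Helper38.ChevCentTab
import Cfsg.Agent.Helper38.ChevHighTab
import Cfsg.Agent.Helper36.ChevRelAll

set_option autoImplicit false

namespace Cfsg.Agent.Helper38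

open Cfsg Cfsg.Lie Cfsg.Agent.Helper36 Cfsg.Agent.Helper17

/-- The check for the root `s` relative to the root `r0`. -/
def chPairRowOK (D : ChevalleyDatum) (Ws : List ℕ) (r0 s : ℕ) : Bool :=
  Nat.beq s (D.neg r0) || Nat.beq s r0 ||
    chHighAny D.rank fun j => chHighAny D.rank fun k => chHighMinor Ws r0 s j k

/-- The check: every root but `r0` and `-r0` is linearly independent of `r0`. -/
def chPairOK (D : ChevalleyDatum) (Ws : List ℕ) (r0 : ℕ) : Bool :=
  Cfsg.Agent.Helper17.allBelow D.nroots fun s => chPairRowOK D Ws r0 s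

theorem chPair_good_of_OK {D : ChevalleyDatum} {packs Ws : List ℕ} {r0 : ℕ}
    (hpack : chainPackOK D packs = true) (hc : coordOK D packs Ws = true)
    (h : chPairOK D Ws r0 = true) :
    ∀ s, s < D.nroots → s ≠ D.neg r0 → s ≠ r0 →
      ∃ g : ℕ → ℤ, Additive D g ∧ 0 < g r0 ∧ 0 < g s := by
  have hRC := rootCoords_of_OK hpack hc
  intro s hs hs0 hsr
  unfold chPairOK at h
  rw [Cfsg.Agent.Helper17.allBelow_iff] at h
  have h1 := h s hs
  unfold chPairRowOK at h1
  rw [Bool.or_eq_true, Bool.or_eq_true] at h1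
  rcases h1 with (h1 | h1) | h1
  · exact absurd (Nat.eq_of_beq_eq_true h1) hs0
  · exact absurd (Nat.eq_of_beq_eq_true h1) hsr
  · rw [chHighAny_iff] at h1
    obtain ⟨j, hj, h1⟩ := h1
    rw [chHighAny_iff] at h1
    obtain ⟨k, hk, h1⟩ := h1
    have hAj := hRC.add j hj
    have hAk := hRC.add k hk
    have hΔ : wt (Ws.getD j 0) r0 * wt (Ws.getD k 0) s -
        wt (Ws.getD j 0) s * wt (Ws.getD k 0) r0 ≠ 0 := by
      intro e
      unfold chHighMinor at h1
      cases hb : Nat.beq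
        (Nat.add (Nat.mul (wfld (Ws.getD j 0) r0) (wfld (Ws.getD k 0) s))
          (Nat.mul 1073741824 (Nat.add (wfld (Ws.getD j 0) s) (wfld (Ws.getD k 0) r0))))
        (Nat.add (Nat.mul (wfld (Ws.getD j 0) s) (wfld (Ws.getD k 0) r0))
          (Nat.mul 1073741824 (Nat.add (wfld (Ws.getD j 0) r0) (wfld (Ws.getD k 0) s))))
      · have hne := Nat.ne_of_beq_eq_false hb
        apply hne
        simp only [Nat.add_eq, Nat.mul_eq]
        unfold wt at e
        have e' : ((wfld (Ws.getD j 0) r0 * wfld (Ws.getD k 0) s +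
            1073741824 * (wfld (Ws.getD j 0) s + wfld (Ws.getD k 0) r0) : ℕ) : ℤ) =
            ((wfld (Ws.getD j 0) s * wfld (Ws.getD k 0) r0 +
            1073741824 * (wfld (Ws.getD j 0) r0 + wfld (Ws.getD k 0) s) : ℕ) : ℤ) := by
          push_cast
          linear_combination e
        exact_mod_cast e'
      · rw [hb] at h1
        exact absurd h1 (by decide)
    rcases lt_or_gt_of_ne hΔ with hneg | hpos
    · refine ⟨fun x => (wt (Ws.getD k 0) r0 - wt (Ws.getD k 0) s) * wt (Ws.getD j 0) x +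
        (wt (Ws.getD j 0) s - wt (Ws.getD j 0) r0) * wt (Ws.getD k 0) x,
        chHigh_additive_comb hAj hAk _ _, ?_, ?_⟩
      · show 0 < (wt (Ws.getD k 0) r0 - wt (Ws.getD k 0) s) * wt (Ws.getD j 0) r0 +
          (wt (Ws.getD j 0) s - wt (Ws.getD j 0) r0) * wt (Ws.getD k 0) r0
        linarith
      · show 0 < (wt (Ws.getD k 0) r0 - wt (Ws.getD k 0) s) * wt (Ws.getD j 0) s +
          (wt (Ws.getD j 0) s - wt (Ws.getD j 0) r0) * wt (Ws.getD k 0) s
        linarith
    · refine ⟨fun x => (wt (Ws.getD k 0) s - wt (Ws.getD k 0) r0) * wt (Ws.getD j 0) x +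
        (wt (Ws.getD j 0) r0 - wt (Ws.getD j 0) s) * wt (Ws.getD k 0) x,
        chHigh_additive_comb hAj hAk _ _, ?_, ?_⟩
      · show 0 < (wt (Ws.getD k 0) s - wt (Ws.getD k 0) r0) * wt (Ws.getD j 0) r0 +
          (wt (Ws.getD j 0) r0 - wt (Ws.getD j 0) s) * wt (Ws.getD k 0) r0
        linarith
      · show 0 < (wt (Ws.getD k 0) s - wt (Ws.getD k 0) r0) * wt (Ws.getD j 0) s +
          (wt (Ws.getD j 0) r0 - wt (Ws.getD j 0) s) * wt (Ws.getD k 0) s
        linarith

/-! ### Tables of type F4 -/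

theorem chHighOK_F4 : chHighOK chevF4 coordWF4 = true := by decide +kernel
theorem chPairOK_F4 : chPairOK chevF4 coordWF4 44 = true := by decide +kernel

theorem cartanPackOK_F4 : cartanPackOK chevF4 cartanPackF4 = true := by
  have h := cartanOK_F4
  rw [Bool.and_eq_true, Bool.and_eq_true] at h
  exact h.1.1

theorem cReflChk_F4 :
    Cfsg.Agent.Helper17.allBelow chevF4.rank (fun i => cReflChk chevF4 cartanPackF4 i) = true := by
  decide +kernel

theorem cReflOK_F4 : CReflOK chevF4 := cRefl_of_chk (by simp) cartanPackOK_F4 cReflChk_F4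

/-- The coordinates of `2ρ^∨` on the fundamental coroots. -/
def phiF4 : List ℕ := [16, 30, 42, 22]

theorem topFnChk_F4 : topFnChk chevF4 cartanPackF4 wtPackF4 phiF4 = true := by decide +kernel

theorem topFn_F4 : TopFn chevF4 (fun x => hLin chevF4 (phiF4.map Nat.cast) 0 x) :=
  topFn_of_chk cartanPackOK_F4 (wtFacts_of_wtOK chainPackOK_F4 wtOK_F4) (by decide) (by decide) topFnChk_F4

theorem chCentJ1_F4 : ∀ s ∈ [14, 20, 22], s < chevF4.nroots ∧ s ≠ chevF4.nroots - 1 ∧
    chevF4.nroots - 1 ≠ chevF4.neg s ∧ chevF4.commTerms s (chevF4.nroots - 1) = [] := by decide +kernel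
theorem chCentJ2_F4 : ∀ i < chevF4.rank, chevF4.cartan i (chevF4.nroots - 1) = 0 →
    chevF4.neg (chevF4.simple i) ∈ [14, 20, 22] := by decide +kernel
theorem chCentJ3_F4 : ∀ i < chevF4.rank, chevF4.cartan i (chevF4.nroots - 1) = if i = 3 then 1 else 0 := by
  decide +kernel

/-- The short roots of type F4. -/
def shortF4 : List ℕ :=
  [3, 7, 8, 9, 10, 11, 12, 13, 14, 18, 19, 20, 27, 28, 29, 33, 34, 35, 36, 37, 38, 39, 40, 44]

theorem shortRefl_F4 : ∀ i < chevF4.rank, ∀ x ∈ shortF4, chevF4.reflectRoot i x ∈ shortF4 := by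
  decide +kernel
theorem shortTop_F4 : ∀ x ∈ shortF4, x = 44 ∨
    hLin chevF4 (phiF4.map Nat.cast) 0 x < hLin chevF4 (phiF4.map Nat.cast) 0 44 := by decide +kernel
theorem evenU_F4 : ∀ q < chevF4.nroots, q ≠ 44 → chevF4.IsPosRoot q →
    ∀ c ∈ chevF4.commTerms q 44, c.2.1 % 2 = 0 := by decide +kernel
theorem evenJ_F4 : ∀ s ∈ [20, 22, 23], s < chevF4.nroots ∧ 44 ≠ s ∧ 44 ≠ chevF4.neg s ∧
    ∀ c ∈ chevF4.commTerms s 44, c.2.1 % 2 = 0 := by decide +kernel
theorem chCentJ2s_F4 : ∀ i < chevF4.rank, chevF4.cartan i 44 = 0 →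
    chevF4.neg (chevF4.simple i) ∈ [20, 22, 23] := by decide +kernel
theorem chCentJ3s_F4 : ∀ i < chevF4.rank, chevF4.cartan i 44 = if i = 0 then 1 else 0 := by
  decide +kernel
theorem pos44_F4 : chevF4.IsPosRoot 44 := by decide +kernel

theorem orbFn_F4 : OrbFn chevF4 (fun x => x ∈ shortF4) 44
    (fun x => hLin chevF4 (phiF4.map Nat.cast) 0 x) where
  lin := topFn_F4.lin
  pos := topFn_F4.pos
  mem := by decide
  refl := fun i hi x _ hx => shortRefl_F4 i hi x hx
  top := fun x _ hx => shortTop_F4 x hx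

/-! ### The centralisers -/

variable {F : Type*} [Field F]

theorem chCent_F4_long (t : GL chevF4.Idx F)
    (ht : (t : Matrix chevF4.Idx chevF4.Idx F) = chevF4.x F 47 1) :
    chevF4.group F ⊓ Subgroup.centralizer {t} =
      chevF4.posUnipotent F ⊔ Subgroup.closure {g : GL chevF4.Idx F | ∃ s ∈ [14, 20, 22],
        ∃ c : F, (g : Matrix chevF4.Idx chevF4.Idx F) = chevF4.x F s c} := by
  have hD7 : chevF4 ∈ [chevG2, chevB2, chevD4, chevF4, chevE6, chevE7, chevE8] := by simp
  exact chCent_main [14, 20, 22] (bRel_of_mem (F := F) hD7)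
    (wtFacts_of_wtOK chainPackOK_F4 wtOK_F4) (by decide) cReflOK_F4 topFn_F4
    (chHigh_good_of_OK chainPackOK_F4 coordOK_F4 chHighOK_F4) (hDiag_of_mem hD7)
    (torusFacts_of_mem hD7) simpleOK_F4 chCentJ1_F4 chCentJ2_F4 3 (by decide) chCentJ3_F4 t ht

theorem chCent_F4_short [CharP F 2] (u : GL chevF4.Idx F)
    (hu : (u : Matrix chevF4.Idx chevF4.Idx F) = chevF4.x F 44 1) :
    chevF4.group F ⊓ Subgroup.centralizer {u} =
      chevF4.posUnipotent F ⊔ Subgroup.closure {g : GL chevF4.Idx F | ∃ s ∈ [20, 22, 23],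
        ∃ c : F, (g : Matrix chevF4.Idx chevF4.Idx F) = chevF4.x F s c} := by
  have hD7 : chevF4 ∈ [chevG2, chevB2, chevD4, chevF4, chevE6, chevE7, chevE8] := by simp
  have R := bRel_of_mem (F := F) hD7
  have hW := wtFacts_of_wtOK chainPackOK_F4 wtOK_F4
  have hr : 44 < chevF4.nroots := by decide
  have hcomm : ∀ q, chevF4.IsPosRoot q → ∀ a b : F,
      xGL R.xadd q a * xGL R.xadd 44 b * (xGL R.xadd q a)⁻¹ = xGL R.xadd 44 b := by
    intro q hq a b
    by_cases hq44 : q = 44
    · rw [hq44, xGL_inv, xGL_mul, xGL_mul]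
      congr 1
      ring
    · apply chCentG_comm_even R hq.1 hr (fun e => hq44 e.symm)
      · intro e
        have h1 := R.wf.neg_neg_root hq
        rw [← e] at h1
        exact R.wf.not_pos_and_neg pos44_F4 h1
      · intro c hc
        exact Int.dvd_of_emod_eq_zero (evenU_F4 q hq.1 hq44 hq c hc)
  have hdist : ∀ s < chevF4.nroots, s ≠ 44 → ∀ a b : F,
      xGL R.xadd s a = xGL R.xadd 44 b → xGL R.xadd 44 b = 1 := by
    intro s hs hne a b he
    exact chCentG_distinct R hW hr pos44_F4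
      (chPair_good_of_OK chainPackOK_F4 coordOK_F4 chPairOK_F4) hs hne he
  have hlet := chCentG_letters cReflOK_F4 R.wf orbFn_F4 hr
  have hJ1 : ∀ s ∈ [20, 22, 23], s < chevF4.nroots ∧ ∀ c : F,
      xGL R.xadd s c * xGL R.xadd 44 1 * (xGL R.xadd s c)⁻¹ = xGL R.xadd 44 1 := by
    intro s hs
    obtain ⟨h1, h2, h3, h4⟩ := evenJ_F4 s hs
    exact ⟨h1, fun c => chCentG_comm_even R h1 hr h2 h3
      (fun c hc => Int.dvd_of_emod_eq_zero (h4 c hc)) c 1⟩
  exact chCentG_main [20, 22, 23] R hr hcomm hdist hlet (hDiag_of_mem hD7) (torusFacts_of_mem hD7)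
    simpleOK_F4 hJ1 chCentJ2s_F4 0 (by decide) chCentJ3s_F4 u hu

end Cfsg.Agent.Helper38
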