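/-
helper38: type F4 in characteristic two, the tools for the centralisers of the involutions `x_47(1) x_44(1)`
and `x_39(1) x_45(1)`: conjugation of products of commuting root elements by the Borel subgroup and by the
elements `n_w`, the tables of type F4 (commutation with the roots of `V = X_39 X_40 X_44 X_45 X_46 X_47`, linear
functionals isolating a root, the Weyl group orbit of the pair `(39, 45)`), and the action of `U` on `V`.
-/
import Cfsg.Agent.Helper38.ChevLT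
import Cfsg.Agent.Helper38.ChevCentF4
import Cfsg.Agent.Helper17.ChevLevi
import Cfsg.Agent.Helper17.ChevUniMem
import Cfsg.Agent.Helper18.NPara

set_option autoImplicit false

namespace Cfsg.Agent.Helper38

open Cfsg Cfsg.Lie Cfsg.Agent.Helper36 Cfsg.Agent.Helper17

section Gen

variable {D : ChevalleyDatum} {F : Type*} [Field F] {η : ℕ → ℕ → ℤ}

/-- The product of the root elements `x_γ(c γ)` over a list of roots. -/
noncomputable def chRootProd (R : BRel D F η) (l : List ℕ) (c : ℕ → F) : GL D.Idx F :=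
  wordGL R.xadd (l.map fun γ => (γ, c γ))

/-- A property preserved by the conjugations by the positive root elements and by the torus is preserved by the
conjugations by the Borel subgroup. -/
theorem chLT_conj_B (R : BRel D F η) (P : GL D.Idx F → Prop)
    (hx : ∀ q, D.IsPosRoot q → ∀ (u : F) (y : GL D.Idx F), P y →
      P (xGL R.xadd q u * y * (xGL R.xadd q u)⁻¹))
    (hh : ∀ h ∈ D.diagonalSubgroup F, ∀ y, P y → P (h * y * h⁻¹))
    {b : GL D.Idx F} (hb : b ∈ D.borelSubgroup F) {y : GL D.Idx F} (hy : P y) : P (b * y * b⁻¹) := by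
  have hU : ∀ u ∈ D.posUnipotent F,
      (∀ y, P y → P (u * y * u⁻¹)) ∧ (∀ y, P y → P (u⁻¹ * y * u)) := by
    intro u hu
    unfold ChevalleyDatum.posUnipotent at hu
    refine Subgroup.closure_induction (p := fun u _ => (∀ y, P y → P (u * y * u⁻¹)) ∧
      (∀ y, P y → P (u⁻¹ * y * u))) ?_ ?_ ?_ ?_ hu
    · rintro g ⟨q, t, hq, hg⟩
      rw [eq_xGL R.xadd hg]
      constructor
      · intro y hy
        exact hx q hq t y hy
      · intro y hy
        have h1 := hx q hq (-t) y hy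
        rw [xGL_inv, neg_neg] at h1
        rw [xGL_inv]
        exact h1
    · constructor
      · intro y hy
        rw [one_mul, inv_one, mul_one]
        exact hy
      · intro y hy
        rw [inv_one, one_mul, mul_one]
        exact hy
    · rintro a b - - ⟨ha1, ha2⟩ ⟨hb1, hb2⟩
      constructor
      · intro y hy
        have h1 := ha1 _ (hb1 y hy)
        have e : a * b * y * (a * b)⁻¹ = a * (b * y * b⁻¹) * a⁻¹ := by group
        rw [e]
        exact h1
      · intro y hy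
        have h1 := hb2 _ (ha2 y hy)
        have e : (a * b)⁻¹ * y * (a * b) = b⁻¹ * (a⁻¹ * y * a) * b := by group
        rw [e]
        exact h1
    · rintro a - ⟨ha1, ha2⟩
      constructor
      · intro y hy
        rw [inv_inv]
        exact ha2 y hy
      · intro y hy
        rw [inv_inv]
        exact ha1 y hy
  unfold ChevalleyDatum.borelSubgroup at hb
  obtain ⟨u, hu, h, hh', rfl⟩ := chCent_sup_decomp (D.posUnipotent F) (D.diagonalSubgroup F)
    (fun h hh p hp => (Subgroup.mem_normalizer_iff.mp (R.hU hh) p).mp hp) b hb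
  have e : u * h * y * (u * h)⁻¹ = u * (h * y * h⁻¹) * u⁻¹ := by group
  rw [e]
  exact (hU u hu).1 _ (hh h hh' y hy)

/-- The torus acts on a product of root elements through characters. -/
theorem chLT_h_conj_word (R : BRel D F η) {h : GL D.Idx F} (hh : h ∈ D.diagonalSubgroup F)
    (l : List ℕ) (hl : ∀ γ ∈ l, γ < D.nroots) (c : ℕ → F) :
    ∃ c' : ℕ → F, (∀ γ ∈ l, c γ ≠ 0 → c' γ ≠ 0) ∧
      h * chRootProd R l c * h⁻¹ = chRootProd R l c' := by
  have hex : ∀ γ, ∃ χ : F, γ < D.nroots →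
      ∀ t : F, h * xGL R.xadd γ t * h⁻¹ = xGL R.xadd γ (χ * t) := by
    intro γ
    by_cases hγ : γ < D.nroots
    · obtain ⟨χ, hχ⟩ := R.hx h hh γ hγ
      exact ⟨χ, fun _ => hχ⟩
    · exact ⟨0, fun h' => absurd h' hγ⟩
  choose χ hχ using hex
  refine ⟨fun γ => χ γ * c γ, ?_, ?_⟩
  · intro γ hγ hc
    show χ γ * c γ ≠ 0
    intro e
    have h1 := hχ γ (hl γ hγ) (c γ)
    rw [e, xGL_zero] at h1
    have h2 : xGL R.xadd γ (c γ) = 1 := by
      calc xGL R.xadd γ (c γ) = h⁻¹ * (h * xGL R.xadd γ (c γ) * h⁻¹) * h := by group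
        _ = 1 := by rw [h1]; group
    have h3 := congrArg Units.val h2
    rw [xGL_val, Units.val_one] at h3
    exact hc (R.xinj γ (hl γ hγ) _ h3)
  · unfold chRootProd
    induction l with
    | nil => simp [wordGL_nil]
    | cons γ l ih =>
      simp only [List.map_cons, wordGL_cons]
      have e : h * (xGL R.xadd γ (c γ) * wordGL R.xadd (l.map fun γ => (γ, c γ))) * h⁻¹ =
          (h * xGL R.xadd γ (c γ) * h⁻¹) *
            (h * wordGL R.xadd (l.map fun γ => (γ, c γ)) * h⁻¹) := by group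
      rw [e, hχ γ (hl γ List.mem_cons_self), ih fun x hx => hl x (List.mem_cons_of_mem _ hx)]

theorem chLT_wW_nodup (W : WFacts D) {L : List ℕ} (hL : ValidW D L) (l : List ℕ)
    (hl : ∀ γ ∈ l, γ < D.nroots) (hnd : l.Nodup) : (l.map (wW D L)).Nodup := by
  apply List.Nodup.map_on _ hnd
  intro x hx y hy e
  have h1 := W.wW_reverse' hL (hl x hx)
  have h2 := W.wW_reverse' hL (hl y hy)
  rw [← h1, ← h2, e]

/-- If `n_w` conjugates a product of commuting positive root elements over the roots of `l` to another such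
product, then `w` maps the roots with non-trivial coefficient to positive roots, above a root of the second
product with non-trivial coefficient. -/
theorem chLT_bruhat_word {f : ℕ → ℤ} (R : BRel D F η) (hW : WtFacts D f) (hE : RootElts D F)
    (l : List ℕ) (hnd : l.Nodup) (hpos : ∀ γ ∈ l, D.IsPosRoot γ)
    (hcomm : ∀ γ ∈ l, ∀ γ' ∈ l, ∀ a b : F,
      xGL R.xadd γ a * xGL R.xadd γ' b = xGL R.xadd γ' b * xGL R.xadd γ a)
    {L : List ℕ} (hL : ValidW D L) (c c' : ℕ → F)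
    (h : R.nW L * chRootProd R l c * (R.nW L)⁻¹ = chRootProd R l c') :
    ∀ γ ∈ l, c γ ≠ 0 →
      D.IsPosRoot (wW D L γ) ∧ ∃ γ' ∈ l, c' γ' ≠ 0 ∧ f γ' ≤ f (wW D L γ) := by
  have hl : ∀ γ ∈ l, γ < D.nroots := fun γ hγ => (hpos γ hγ).1
  unfold chRootProd at h
  rw [chLT_nW_conj_word R hL l hl c] at h
  have hnd' : ((l.map fun γ => (wW D L γ, (eW D η L γ : F) * c γ)).map Prod.fst).Nodup := by
    rw [List.map_map]
    exact chLT_wW_nodup R.wf hL l hl hnd
  have hlt₁ : ∀ p ∈ (l.map fun γ => (wW D L γ, (eW D η L γ : F) * c γ)), p.1 < D.nroots := by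
    intro p hp
    rw [List.mem_map] at hp
    obtain ⟨γ, hγ, rfl⟩ := hp
    exact R.wf.wW_lt hL (hl γ hγ)
  have hc₁ : ∀ p ∈ (l.map fun γ => (wW D L γ, (eW D η L γ : F) * c γ)),
      ∀ q ∈ (l.map fun γ => (wW D L γ, (eW D η L γ : F) * c γ)),
      xGL R.xadd p.1 p.2 * xGL R.xadd q.1 q.2 = xGL R.xadd q.1 q.2 * xGL R.xadd p.1 p.2 := by
    intro p hp q hq
    rw [List.mem_map] at hp hq
    obtain ⟨γ, hγ, rfl⟩ := hp
    obtain ⟨γ', hγ', rfl⟩ := hq
    show xGL R.xadd (wW D L γ) ((eW D η L γ : F) * c γ) *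
      xGL R.xadd (wW D L γ') ((eW D η L γ' : F) * c γ') =
      xGL R.xadd (wW D L γ') ((eW D η L γ' : F) * c γ') *
      xGL R.xadd (wW D L γ) ((eW D η L γ : F) * c γ)
    rw [← R.nW_conj_x hL (hl γ hγ), ← R.nW_conj_x hL (hl γ' hγ')]
    have e := hcomm γ hγ γ' hγ' (c γ) (c γ')
    calc R.nW L * xGL R.xadd γ (c γ) * (R.nW L)⁻¹ * (R.nW L * xGL R.xadd γ' (c γ') * (R.nW L)⁻¹)
        = R.nW L * (xGL R.xadd γ (c γ) * xGL R.xadd γ' (c γ')) * (R.nW L)⁻¹ := by group
      _ = R.nW L * (xGL R.xadd γ' (c γ') * xGL R.xadd γ (c γ)) * (R.nW L)⁻¹ := by rw [e]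
      _ = _ := by group
  have hB : wordGL R.xadd (l.map fun γ => (wW D L γ, (eW D η L γ : F) * c γ)) ∈
      D.borelSubgroup F := by
    rw [h]
    apply BRel.U_le_B D F
    apply wordGL_mem
    intro p hp
    rw [List.mem_map] at hp
    obtain ⟨γ, hγ, rfl⟩ := hp
    exact xGL_mem_posUnipotent R.xadd (hpos γ hγ) _
  have hP := chLT_pos R hW hE _ hlt₁ hnd' hc₁ hB
  have hne : ∀ γ ∈ l, c γ ≠ 0 → (eW D η L γ : F) * c γ ≠ 0 :=
    fun γ hγ hc => mul_ne_zero (R.eW_ne_zero hL (hl γ hγ)) hc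
  have hM := chLT_min hW (goodFn_of_wt hW) R.xadd hE _ (l.map fun γ => (γ, c' γ)) hnd'
    (fun p hp hp0 => ⟨hlt₁ p hp, (hW.pos _ (hlt₁ p hp)).mp (hP p hp hp0)⟩)
    (fun p hp _ => by
      rw [List.mem_map] at hp
      obtain ⟨γ, hγ, rfl⟩ := hp
      exact hl γ hγ) h
  intro γ hγ hc
  have hmem : (wW D L γ, (eW D η L γ : F) * c γ) ∈
      (l.map fun γ => (wW D L γ, (eW D η L γ : F) * c γ)) := List.mem_map.mpr ⟨γ, hγ, rfl⟩
  refine ⟨hP _ hmem (hne γ hγ hc), ?_⟩
  obtain ⟨q, hq, hq0, hle⟩ := hM _ hmem (hne γ hγ hc)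
  rw [List.mem_map] at hq
  obtain ⟨γ', hγ', rfl⟩ := hq
  exact ⟨γ', hγ', hq0, hle⟩

/-- In the situation of `chLT_bruhat_word`, `w` maps no root with non-trivial coefficient to a root `ρ` that a
linear functional isolates from the other possible roots. -/
theorem chLT_bruhat_excl {f g : ℕ → ℤ} (R : BRel D F η) (hW : WtFacts D f) (hA : Additive D g)
    (hE : RootElts D F) (l : List ℕ) (hnd : l.Nodup) (hl : ∀ γ ∈ l, γ < D.nroots)
    {L : List ℕ} (hL : ValidW D L) (c c' : ℕ → F)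
    (h : R.nW L * chRootProd R l c * (R.nW L)⁻¹ = chRootProd R l c')
    (S : List ℕ) {ρ : ℕ} (hρ : ρ < D.nroots) (ha : 0 < g ρ)
    (hS : ∀ x ∈ S, x < D.nroots ∧ g ρ < g x ∧ g x ≠ 2 * g ρ)
    (h₁ : ∀ γ ∈ l, c γ ≠ 0 → wW D L γ = ρ ∨ wW D L γ ∈ S)
    (h₂ : ∀ γ ∈ l, γ ∈ S) :
    ∀ γ ∈ l, wW D L γ = ρ → c γ = 0 := by
  unfold chRootProd at h
  rw [chLT_nW_conj_word R hL l hl c] at h
  have hnd' : ((l.map fun γ => (wW D L γ, (eW D η L γ : F) * c γ)).map Prod.fst).Nodup := by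
    rw [List.map_map]
    exact chLT_wW_nodup R.wf hL l hl hnd
  have hX := chLT_excl hW hA R.xadd hE S hρ ha hS _ (l.map fun γ => (γ, c' γ)) hnd'
    (fun p hp hp0 => by
      rw [List.mem_map] at hp
      obtain ⟨γ, hγ, rfl⟩ := hp
      apply h₁ γ hγ
      intro e
      apply hp0
      show (eW D η L γ : F) * c γ = 0
      rw [e, mul_zero])
    (fun p hp _ => by
      rw [List.mem_map] at hp
      obtain ⟨γ, hγ, rfl⟩ := hp
      exact h₂ γ hγ) h
  intro γ hγ hw
  have h3 : (eW D η L γ : F) * c γ = 0 :=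
    hX (wW D L γ, (eW D η L γ : F) * c γ) (List.mem_map.mpr ⟨γ, hγ, rfl⟩) hw
  rcases mul_eq_zero.mp h3 with h4 | h4
  · exact absurd h4 (R.eW_ne_zero hL (hl γ hγ))
  · exact h4

end Gen

/-! ### Tables of type F4 -/

/-- The roots of the abelian subgroup `V`. -/
def gamF4 : List ℕ := [39, 40, 44, 45, 46, 47]

/-- The positive roots. -/
def posF4 : List ℕ :=
  [24, 25, 26, 27, 28, 29, 30, 31, 32, 33, 34, 35, 36, 37, 38, 39, 40, 41, 42, 43, 44, 45, 46, 47]

theorem chPosRoots_F4 : chevF4.posRoots = posF4 := by decide +kernel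

/-- The pairs `(q, γ)` with a commutator of odd coefficient. -/
def oddF4 : List (ℕ × ℕ) := [(24, 46), (25, 45), (26, 45), (27, 39), (33, 40), (34, 39)]

theorem chFixTab_F4 : ∀ q ∈ posF4, ∀ γ ∈ gamF4, (q, γ) ∈ oddF4 ∨ q = γ ∨
    (q < chevF4.nroots ∧ γ < chevF4.nroots ∧ γ ≠ q ∧ γ ≠ chevF4.neg q ∧
      ∀ c ∈ chevF4.commTerms q γ, c.2.1 % 2 = 0) := by decide +kernel

theorem chFixNeg_F4 : ∀ q ∈ [14, 23], ∀ γ ∈ [39, 45],
    q < chevF4.nroots ∧ γ < chevF4.nroots ∧ γ ≠ q ∧ γ ≠ chevF4.neg q ∧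
      ∀ c ∈ chevF4.commTerms q γ, c.2.1 % 2 = 0 := by decide +kernel

theorem chOne2446_F4 : chevF4.commTerms 24 46 = [(47, 1, 1, 1)] := by decide +kernel
theorem chOne2545_F4 : chevF4.commTerms 25 45 = [(46, 1, 1, 1)] := by decide +kernel
theorem chOne2645_F4 : chevF4.commTerms 26 45 = [(47, 1, 1, 1)] := by decide +kernel
theorem chOne2739_F4 : chevF4.commTerms 27 39 = [(40, 1, 1, 1)] := by decide +kernel
theorem chOne3340_F4 : chevF4.commTerms 33 40 = [(44, 1, 1, 1)] := by decide +kernel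
theorem chOne3439_F4 : chevF4.commTerms 34 39 = [(44, 1, 1, 1)] := by decide +kernel

/-- The linear functional on the roots with the coordinates `A, B, C, E` on the fundamental roots. -/
def fnF4 (A B C E : ℤ) (x : ℕ) : ℤ :=
  1 * (A * wt (coordWF4.getD 0 0) x + B * wt (coordWF4.getD 1 0) x) +
    1 * (C * wt (coordWF4.getD 2 0) x + E * wt (coordWF4.getD 3 0) x)

theorem fnF4_additive (A B C E : ℤ) : Additive chevF4 (fnF4 A B C E) :=
  chHigh_additive_comb
    (chHigh_additive_comb ((rootCoords_of_OK chainPackOK_F4 coordOK_F4).add 0 (by decide))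
      ((rootCoords_of_OK chainPackOK_F4 coordOK_F4).add 1 (by decide)) A B)
    (chHigh_additive_comb ((rootCoords_of_OK chainPackOK_F4 coordOK_F4).add 2 (by decide))
      ((rootCoords_of_OK chainPackOK_F4 coordOK_F4).add 3 (by decide)) C E) 1 1

/-- The functional isolates the root `ρ` from the roots of `S`. -/
def ExclF4 (A B C E : ℤ) (ρ : ℕ) (S : List ℕ) : Prop :=
  ρ < chevF4.nroots ∧ 0 < fnF4 A B C E ρ ∧ ∀ x ∈ S, x < chevF4.nroots ∧
    fnF4 A B C E ρ < fnF4 A B C E x ∧ fnF4 A B C E x ≠ 2 * fnF4 A B C E ρ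

theorem chExcl41_F4 : ExclF4 1 10 10 10 41 [39, 40, 42, 43, 44, 45, 46, 47] := by
  unfold ExclF4; decide +kernel
theorem chExcl42_F4 : ExclF4 1 10 10 (-1) 42 [39, 40, 41, 43, 44, 45, 46, 47] := by
  unfold ExclF4; decide +kernel
theorem chExcl43_F4 : ExclF4 (-1) 20 (-2) 1 43 [39, 40, 41, 42, 44, 45, 46, 47] := by
  unfold ExclF4; decide +kernel
theorem chExcl45_F4 : ExclF4 10 (-1) 10 10 45 [44, 46, 47] := by
  unfold ExclF4; decide +kernel
theorem chExcl46_F4 : ExclF4 10 (-1) (-1) 30 46 [44, 45, 47] := by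
  unfold ExclF4; decide +kernel

/-- The orbit of the pair `(39, 45)` under the Weyl group. -/
def pairOrbF4 : List (ℕ × ℕ) :=
  [(3, 15), (3, 16), (3, 17), (3, 21), (3, 22), (3, 23), (3, 24), (3, 25), (3, 26), (3, 30), (3, 31), (3, 32), (7, 4), (7, 5), (7, 6), (7, 21), (7, 22), (7, 23), (7, 24), (7, 25), (7, 26), (7, 41), (7, 42), (7, 43), (8, 2), (8, 5), (8, 6), (8, 16), (8, 17), (8, 23), (8, 24), (8, 30), (8, 31), (8, 41), (8, 42), (8, 45), (9, 1), (9, 4), (9, 6), (9, 15), (9, 17), (9, 21), (9, 26), (9, 30), (9, 32), (9, 41), (9, 43), (9, 46), (10, 0), (10, 4), (10, 5), (10, 15), (10, 16), (10, 22), (10, 25), (10, 31), (10, 32), (10, 42), (10, 43), (10, 47), (11, 1), (11, 2), (11, 6), (11, 15), (11, 16), (11, 22), (11, 25), (11, 31), (11, 32), (11, 41), (11, 45), (11, 46), (12, 0), (12, 2), (12, 5), (12, 15), (12, 17), (12, 21), (12, 26), (12, 30), (12, 32), (12, 42), (12, 45), (12, 47), (13, 0), (13, 1), (13, 4), (13, 16),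 (13, 17), (13, 23), (13, 24), (13, 30), (13, 31), (13, 43), (13, 46), (13, 47), (14, 0), (14, 1), (14, 2), (14, 21), (14, 22), (14, 23), (14, 24), (14, 25), (14, 26), (14, 45), (14, 46), (14, 47), (18, 1), (18, 2), (18, 4), (18, 5), (18, 17), (18, 22), (18, 25), (18, 30), (18, 42), (18, 43), (18, 45), (18, 46), (19, 0), (19, 2), (19, 4), (19, 6), (19, 16), (19, 21), (19, 26), (19, 31), (19, 41), (19, 43), (19, 45), (19, 47), (20, 0), (20, 1), (20, 5), (20, 6), (20, 15), (20, 23), (20, 24), (20, 32), (20, 41), (20, 42), (20, 46), (20, 47), (27, 0), (27, 1), (27, 5), (27, 6), (27, 15), (27, 23), (27, 24), (27, 32), (27, 41), (27, 42), (27, 46), (27, 47), (28, 0), (28, 2), (28, 4), (28, 6), (28, 16), (28, 21), (28, 26), (28, 31), (28, 41), (28, 43), (28, 45), (28, 47), (29, 1), (29, 2), (29, 4), (29, 5), (29, 17), (29, 22), (29, 25), (29, 30), (29, 42), (29, 43), (29, 45), (29, 46), (33, 0), (33, 1), (33, 2), (33, 21), (33, 22),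 (33, 23), (33, 24), (33, 25), (33, 26), (33, 45), (33, 46), (33, 47), (34, 0), (34, 1), (34, 4), (34, 16), (34, 17), (34, 23), (34, 24), (34, 30), (34, 31), (34, 43), (34, 46), (34, 47), (35, 0), (35, 2), (35, 5), (35, 15), (35, 17), (35, 21), (35, 26), (35, 30), (35, 32), (35, 42), (35, 45), (35, 47), (36, 1), (36, 2), (36, 6), (36, 15), (36, 16), (36, 22), (36, 25), (36, 31), (36, 32), (36, 41), (36, 45), (36, 46), (37, 0), (37, 4), (37, 5), (37, 15), (37, 16), (37, 22), (37, 25), (37, 31), (37, 32), (37, 42), (37, 43), (37, 47), (38, 1), (38, 4), (38, 6), (38, 15), (38, 17), (38, 21), (38, 26), (38, 30), (38, 32), (38, 41), (38, 43), (38, 46), (39, 2), (39, 5), (39, 6), (39, 16), (39, 17), (39, 23), (39, 24), (39, 30), (39, 31), (39, 41), (39, 42), (39, 45), (40, 4), (40, 5), (40, 6), (40, 21), (40, 22), (40, 23), (40, 24), (40, 25), (40, 26), (40, 41), (40, 42), (40, 43), (44, 15), (44, 16), (44, 17), (44, 21), (44, 22), (44,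 23), (44, 24), (44, 25), (44, 26), (44, 30), (44, 31), (44, 32)]

theorem pairRefl0_F4 : ∀ p ∈ pairOrbF4,
    (chevF4.reflectRoot 0 p.1, chevF4.reflectRoot 0 p.2) ∈ pairOrbF4 := by decide +kernel
theorem pairRefl1_F4 : ∀ p ∈ pairOrbF4,
    (chevF4.reflectRoot 1 p.1, chevF4.reflectRoot 1 p.2) ∈ pairOrbF4 := by decide +kernel
theorem pairRefl2_F4 : ∀ p ∈ pairOrbF4,
    (chevF4.reflectRoot 2 p.1, chevF4.reflectRoot 2 p.2) ∈ pairOrbF4 := by decide +kernel
theorem pairRefl3_F4 : ∀ p ∈ pairOrbF4,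
    (chevF4.reflectRoot 3 p.1, chevF4.reflectRoot 3 p.2) ∈ pairOrbF4 := by decide +kernel

theorem pairRefl_F4 : ∀ i < chevF4.rank, ∀ p ∈ pairOrbF4,
    (chevF4.reflectRoot i p.1, chevF4.reflectRoot i p.2) ∈ pairOrbF4 := by
  intro i hi
  have hr4 : chevF4.rank = 4 := by decide
  rw [hr4] at hi
  have h4 : i = 0 ∨ i = 1 ∨ i = 2 ∨ i = 3 := by omega
  rcases h4 with rfl | rfl | rfl | rfl
  · exact pairRefl0_F4
  · exact pairRefl1_F4
  · exact pairRefl2_F4
  · exact pairRefl3_F4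

theorem pairTop_F4 : ∀ p ∈ pairOrbF4, p = (39, 45) ∨
    3 * hLin chevF4 (phiF4.map Nat.cast) 0 p.1 + 2 * hLin chevF4 (phiF4.map Nat.cast) 0 p.2 <
      3 * hLin chevF4 (phiF4.map Nat.cast) 0 39 + 2 * hLin chevF4 (phiF4.map Nat.cast) 0 45 := by
  decide +kernel

theorem pairGam_F4 : ∀ a ∈ gamF4, ∀ b ∈ gamF4, (a, b) ∈ pairOrbF4 → a = 39 ∧ b = 45 := by
  decide +kernel

theorem pairLet_F4 : ∀ i < chevF4.rank, 3 * chevF4.cartan i 39 + 2 * chevF4.cartan i 45 = 0 →
    i = 0 ∨ i = 3 := by decide +kernel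

theorem orbFn2_F4 : OrbFn2 chevF4 (fun x y => (x, y) ∈ pairOrbF4) 39 45 3 2
    (fun x => hLin chevF4 (phiF4.map Nat.cast) 0 x) where
  lin := topFn_F4.lin
  pos := topFn_F4.pos
  mem := by decide
  refl := fun i hi x _ y _ hxy => pairRefl_F4 i hi (x, y) hxy
  top := fun x _ y _ hxy => by
    rcases pairTop_F4 (x, y) hxy with h | h
    · exact Or.inl ⟨(Prod.mk.inj h).1, (Prod.mk.inj h).2⟩
    · exact Or.inr h

theorem chCor12_F4 : ∀ r < chevF4.nroots, (chevF4.coroot.getD r #[]).getD 1 0 = 0 →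
    (chevF4.coroot.getD r #[]).getD 2 0 = 0 → r ∈ [33, 14, 24, 23] := by decide +kernel
theorem chCor12'_F4 : ∀ r ∈ [33, 14, 24, 23], r < chevF4.nroots ∧
    (chevF4.coroot.getD r #[]).getD 1 0 = 0 ∧ (chevF4.coroot.getD r #[]).getD 2 0 = 0 := by
  decide +kernel

theorem chInRootSub_F4 (r : ℕ) : chevF4.InRootSub {0, 3} r ↔ r ∈ [33, 14, 24, 23] := by
  unfold ChevalleyDatum.InRootSub
  constructor
  · rintro ⟨hr, h⟩
    exact chCor12_F4 r hr (h 1 (by decide) (by simp)) (h 2 (by decide) (by simp))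
  · intro h
    obtain ⟨h1, h2, h3⟩ := chCor12'_F4 r h
    refine ⟨h1, fun i hi hiJ => ?_⟩
    have hr4 : chevF4.rank = 4 := by decide
    rw [hr4] at hi
    have h0 : i ≠ 0 := fun e => hiJ (by rw [e]; simp)
    have h3' : i ≠ 3 := fun e => hiJ (by rw [e]; simp)
    have h12 : i = 1 ∨ i = 2 := by omega
    rcases h12 with rfl | rfl
    · exact h2
    · exact h3

theorem chSimple_F4 : chevF4.simple 0 = 33 ∧ chevF4.neg 33 = 14 ∧ chevF4.simple 3 = 24 ∧
    chevF4.neg 24 = 23 ∧ chevF4.simple 1 = 27 ∧ chevF4.neg 27 = 20 ∧ chevF4.simple 2 = 25 ∧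
    chevF4.neg 25 = 22 := by decide +kernel

theorem chCartan39_F4 : chevF4.cartan 0 39 = 0 ∧ chevF4.cartan 1 39 = -1 ∧ chevF4.cartan 2 39 = 1 ∧
    chevF4.cartan 3 39 = 0 := by decide +kernel
theorem chCartan45_F4 : chevF4.cartan 0 45 = 0 ∧ chevF4.cartan 1 45 = 2 ∧ chevF4.cartan 2 45 = -1 ∧
    chevF4.cartan 3 45 = 0 := by decide +kernel
theorem chCartan47_F4 : chevF4.cartan 0 47 = 0 ∧ chevF4.cartan 1 47 = 0 ∧ chevF4.cartan 2 47 = 0 ∧
    chevF4.cartan 3 47 = 1 := by decide +kernel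
theorem chCartan44_F4 : chevF4.cartan 0 44 = 1 ∧ chevF4.cartan 1 44 = 0 ∧ chevF4.cartan 2 44 = 0 ∧
    chevF4.cartan 3 44 = 0 := by decide +kernel

theorem chPos_F4 : ∀ r ∈ posF4, chevF4.IsPosRoot r := by
  intro r hr
  rw [← chPosRoots_F4] at hr
  exact mem_posRoots.mp hr

end Cfsg.Agent.Helper38
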