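/-
helper38: type F4 in characteristic two, the action of the Borel subgroup on the abelian subgroup
`V = X_39 X_40 X_44 X_45 X_46 X_47`.
-/
import Cfsg.Agent.Helper38.ChevCentF4b

set_option autoImplicit false

namespace Cfsg.Agent.Helper38

open Cfsg Cfsg.Lie Cfsg.Agent.Helper36 Cfsg.Agent.Helper17

section F4

variable {F : Type*} [Field F] {η : ℕ → ℕ → ℤ}

theorem gam_sub_pos_F4 : ∀ γ ∈ gamF4, γ ∈ posF4 := by decide
theorem gam_not_odd_F4 : ∀ q ∈ gamF4, ∀ γ ∈ gamF4, (q, γ) ∉ oddF4 := by decide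

theorem chF4_fix [CharP F 2] (R : BRel chevF4 F η) {q γ : ℕ} (hq : q ∈ posF4) (hγ : γ ∈ gamF4)
    (hne : (q, γ) ∉ oddF4) (u c : F) :
    xGL R.xadd q u * xGL R.xadd γ c * (xGL R.xadd q u)⁻¹ = xGL R.xadd γ c := by
  rcases chFixTab_F4 q hq γ hγ with h | rfl | ⟨h0, h0', h1, h2, h3⟩
  · exact absurd h hne
  · rw [xGL_inv, xGL_mul, xGL_mul]
    congr 1
    ring
  · exact chCentG_comm_even R h0 h0' h1 h2 (fun c hc => Int.dvd_of_emod_eq_zero (h3 c hc)) u c

theorem chF4_comm [CharP F 2] (R : BRel chevF4 F η) {γ γ' : ℕ} (hγ : γ ∈ gamF4) (hγ' : γ' ∈ gamF4)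
    (a b : F) : xGL R.xadd γ a * xGL R.xadd γ' b = xGL R.xadd γ' b * xGL R.xadd γ a :=
  chCent_comm_of_conj (chF4_fix R (gam_sub_pos_F4 γ' hγ') hγ (gam_not_odd_F4 γ' hγ' γ hγ) b a)

theorem chF4_V_eq (R : BRel chevF4 F η) (c : ℕ → F) : chRootProd R gamF4 c =
    xGL R.xadd 39 (c 39) * (xGL R.xadd 40 (c 40) * (xGL R.xadd 44 (c 44) * (xGL R.xadd 45 (c 45) *
      (xGL R.xadd 46 (c 46) * xGL R.xadd 47 (c 47))))) := by
  unfold chRootProd gamF4
  simp only [List.map_cons, List.map_nil, wordGL_cons, wordGL_nil, mul_one]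

theorem chF4_conj6 {G : Type*} [Group G] (g a1 a2 a3 a4 a5 a6 : G) :
    g * (a1 * (a2 * (a3 * (a4 * (a5 * a6))))) * g⁻¹ =
      (g * a1 * g⁻¹) * ((g * a2 * g⁻¹) * ((g * a3 * g⁻¹) * ((g * a4 * g⁻¹) * ((g * a5 * g⁻¹) *
        (g * a6 * g⁻¹))))) := by group

theorem chF4_step24 [CharP F 2] (R : BRel chevF4 F η) (τ : F) (c : ℕ → F) :
    xGL R.xadd 24 τ * chRootProd R gamF4 c * (xGL R.xadd 24 τ)⁻¹ =
      chRootProd R gamF4 (fun γ => if γ = 47 then τ * c 46 + c 47 else c γ) := by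
  rw [chF4_V_eq, chF4_V_eq, chF4_conj6,
    chF4_fix R (q := 24) (γ := 39) (by decide) (by decide) (by decide),
    chF4_fix R (q := 24) (γ := 40) (by decide) (by decide) (by decide),
    chF4_fix R (q := 24) (γ := 44) (by decide) (by decide) (by decide),
    chF4_fix R (q := 24) (γ := 45) (by decide) (by decide) (by decide),
    chF4_fix R (q := 24) (γ := 47) (by decide) (by decide) (by decide),
    chSep_conj_one R (q := 24) (s := 46) (by decide) (by decide) (by decide) (by decide) chOne2446_F4]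
  simp [mul_assoc, xGL_mul]

theorem chF4_xmul {D : ChevalleyDatum} (hX : XAdd D F) (r : ℕ) (t u : F) (z : GL D.Idx F) :
    xGL hX r t * (xGL hX r u * z) = xGL hX r (t + u) * z := by
  rw [← mul_assoc, xGL_mul]

theorem chF4_comm' [CharP F 2] (R : BRel chevF4 F η) {γ γ' : ℕ} (hγ : γ ∈ gamF4) (hγ' : γ' ∈ gamF4)
    (a b : F) (z : GL chevF4.Idx F) :
    xGL R.xadd γ a * (xGL R.xadd γ' b * z) = xGL R.xadd γ' b * (xGL R.xadd γ a * z) := by
  rw [← mul_assoc, chF4_comm R hγ hγ', mul_assoc]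

theorem chF4_step25 [CharP F 2] (R : BRel chevF4 F η) (τ : F) (c : ℕ → F) :
    xGL R.xadd 25 τ * chRootProd R gamF4 c * (xGL R.xadd 25 τ)⁻¹ =
      chRootProd R gamF4 (fun γ => if γ = 46 then τ * c 45 + c 46 else c γ) := by
  rw [chF4_V_eq, chF4_V_eq, chF4_conj6,
    chF4_fix R (q := 25) (γ := 39) (by decide) (by decide) (by decide),
    chF4_fix R (q := 25) (γ := 40) (by decide) (by decide) (by decide),
    chF4_fix R (q := 25) (γ := 44) (by decide) (by decide) (by decide),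
    chF4_fix R (q := 25) (γ := 46) (by decide) (by decide) (by decide),
    chF4_fix R (q := 25) (γ := 47) (by decide) (by decide) (by decide),
    chSep_conj_one R (q := 25) (s := 45) (by decide) (by decide) (by decide) (by decide) chOne2545_F4]
  simp [mul_assoc, chF4_xmul]

theorem chF4_step26 [CharP F 2] (R : BRel chevF4 F η) (τ : F) (c : ℕ → F) :
    xGL R.xadd 26 τ * chRootProd R gamF4 c * (xGL R.xadd 26 τ)⁻¹ =
      chRootProd R gamF4 (fun γ => if γ = 47 then τ * c 45 + c 47 else c γ) := by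
  rw [chF4_V_eq, chF4_V_eq, chF4_conj6,
    chF4_fix R (q := 26) (γ := 39) (by decide) (by decide) (by decide),
    chF4_fix R (q := 26) (γ := 40) (by decide) (by decide) (by decide),
    chF4_fix R (q := 26) (γ := 44) (by decide) (by decide) (by decide),
    chF4_fix R (q := 26) (γ := 46) (by decide) (by decide) (by decide),
    chF4_fix R (q := 26) (γ := 47) (by decide) (by decide) (by decide),
    chSep_conj_one R (q := 26) (s := 45) (by decide) (by decide) (by decide) (by decide) chOne2645_F4]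
  have hcm := chF4_comm' R (γ := 47) (γ' := 46) (by decide) (by decide) (((1 : ℤ) : F) * τ * c 45) (c 46)
    (xGL R.xadd 47 (c 47))
  rw [mul_assoc (xGL R.xadd 45 (c 45)), hcm]
  simp [xGL_mul]

theorem chF4_step27 [CharP F 2] (R : BRel chevF4 F η) (τ : F) (c : ℕ → F) :
    xGL R.xadd 27 τ * chRootProd R gamF4 c * (xGL R.xadd 27 τ)⁻¹ =
      chRootProd R gamF4 (fun γ => if γ = 40 then τ * c 39 + c 40 else c γ) := by
  rw [chF4_V_eq, chF4_V_eq, chF4_conj6,
    chF4_fix R (q := 27) (γ := 40) (by decide) (by decide) (by decide),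
    chF4_fix R (q := 27) (γ := 44) (by decide) (by decide) (by decide),
    chF4_fix R (q := 27) (γ := 45) (by decide) (by decide) (by decide),
    chF4_fix R (q := 27) (γ := 46) (by decide) (by decide) (by decide),
    chF4_fix R (q := 27) (γ := 47) (by decide) (by decide) (by decide),
    chSep_conj_one R (q := 27) (s := 39) (by decide) (by decide) (by decide) (by decide) chOne2739_F4]
  simp [mul_assoc, chF4_xmul]

theorem chF4_step33 [CharP F 2] (R : BRel chevF4 F η) (τ : F) (c : ℕ → F) :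
    xGL R.xadd 33 τ * chRootProd R gamF4 c * (xGL R.xadd 33 τ)⁻¹ =
      chRootProd R gamF4 (fun γ => if γ = 44 then τ * c 40 + c 44 else c γ) := by
  rw [chF4_V_eq, chF4_V_eq, chF4_conj6,
    chF4_fix R (q := 33) (γ := 39) (by decide) (by decide) (by decide),
    chF4_fix R (q := 33) (γ := 44) (by decide) (by decide) (by decide),
    chF4_fix R (q := 33) (γ := 45) (by decide) (by decide) (by decide),
    chF4_fix R (q := 33) (γ := 46) (by decide) (by decide) (by decide),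
    chF4_fix R (q := 33) (γ := 47) (by decide) (by decide) (by decide),
    chSep_conj_one R (q := 33) (s := 40) (by decide) (by decide) (by decide) (by decide) chOne3340_F4]
  simp [mul_assoc, chF4_xmul]

theorem chF4_step34 [CharP F 2] (R : BRel chevF4 F η) (τ : F) (c : ℕ → F) :
    xGL R.xadd 34 τ * chRootProd R gamF4 c * (xGL R.xadd 34 τ)⁻¹ =
      chRootProd R gamF4 (fun γ => if γ = 44 then τ * c 39 + c 44 else c γ) := by
  rw [chF4_V_eq, chF4_V_eq, chF4_conj6,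
    chF4_fix R (q := 34) (γ := 40) (by decide) (by decide) (by decide),
    chF4_fix R (q := 34) (γ := 44) (by decide) (by decide) (by decide),
    chF4_fix R (q := 34) (γ := 45) (by decide) (by decide) (by decide),
    chF4_fix R (q := 34) (γ := 46) (by decide) (by decide) (by decide),
    chF4_fix R (q := 34) (γ := 47) (by decide) (by decide) (by decide),
    chSep_conj_one R (q := 34) (s := 39) (by decide) (by decide) (by decide) (by decide) chOne3439_F4]
  have hcm := chF4_comm' R (γ := 44) (γ' := 40) (by decide) (by decide) (((1 : ℤ) : F) * τ * c 39) (c 40)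
    (xGL R.xadd 44 (c 44) * (xGL R.xadd 45 (c 45) * (xGL R.xadd 46 (c 46) * xGL R.xadd 47 (c 47))))
  rw [mul_assoc (xGL R.xadd 39 (c 39)), hcm]
  simp [chF4_xmul]

/-- The action of `x_q(τ)` on the coefficients of the elements of `V`. -/
def actF4 (q : ℕ) (τ : F) (c : ℕ → F) : ℕ → F :=
  if q = 24 then fun γ => if γ = 47 then τ * c 46 + c 47 else c γ
  else if q = 25 then fun γ => if γ = 46 then τ * c 45 + c 46 else c γ
  else if q = 26 then fun γ => if γ = 47 then τ * c 45 + c 47 else c γ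
  else if q = 27 then fun γ => if γ = 40 then τ * c 39 + c 40 else c γ
  else if q = 33 then fun γ => if γ = 44 then τ * c 40 + c 44 else c γ
  else if q = 34 then fun γ => if γ = 44 then τ * c 39 + c 44 else c γ
  else c

theorem actF4_39 (q : ℕ) (τ : F) (c : ℕ → F) : actF4 q τ c 39 = c 39 := by
  unfold actF4
  split_ifs <;> simp

theorem actF4_45 (q : ℕ) (τ : F) (c : ℕ → F) : actF4 q τ c 45 = c 45 := by
  unfold actF4
  split_ifs <;> simp

theorem chF4_act [CharP F 2] (R : BRel chevF4 F η) {q : ℕ} (hq : q ∈ posF4) (τ : F) (c : ℕ → F) :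
    xGL R.xadd q τ * chRootProd R gamF4 c * (xGL R.xadd q τ)⁻¹ = chRootProd R gamF4 (actF4 q τ c) := by
  unfold actF4
  by_cases h24 : q = 24
  · rw [if_pos h24, h24]
    exact chF4_step24 R τ c
  rw [if_neg h24]
  by_cases h25 : q = 25
  · rw [if_pos h25, h25]
    exact chF4_step25 R τ c
  rw [if_neg h25]
  by_cases h26 : q = 26
  · rw [if_pos h26, h26]
    exact chF4_step26 R τ c
  rw [if_neg h26]
  by_cases h27 : q = 27
  · rw [if_pos h27, h27]
    exact chF4_step27 R τ c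
  rw [if_neg h27]
  by_cases h33 : q = 33
  · rw [if_pos h33, h33]
    exact chF4_step33 R τ c
  rw [if_neg h33]
  by_cases h34 : q = 34
  · rw [if_pos h34, h34]
    exact chF4_step34 R τ c
  rw [if_neg h34]
  unfold chRootProd
  apply chLT_conj_fix_word
  intro p hp
  rw [List.mem_map] at hp
  obtain ⟨γ, hγ, rfl⟩ := hp
  apply chF4_fix R hq hγ
  intro hmem
  unfold oddF4 at hmem
  simp only [List.mem_cons, Prod.mk.injEq, List.not_mem_nil, or_false] at hmem
  omega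

theorem chF4_act_word [CharP F 2] (R : BRel chevF4 F η) (w : List (ℕ × F))
    (hw : ∀ p ∈ w, p.1 ∈ posF4) (c : ℕ → F) :
    wordGL R.xadd w * chRootProd R gamF4 c * (wordGL R.xadd w)⁻¹ =
      chRootProd R gamF4 (w.foldr (fun p c => actF4 p.1 p.2 c) c) := by
  induction w with
  | nil => simp [wordGL_nil]
  | cons p w ih =>
    rw [wordGL_cons, List.foldr_cons]
    have e : xGL R.xadd p.1 p.2 * wordGL R.xadd w * chRootProd R gamF4 c *
        (xGL R.xadd p.1 p.2 * wordGL R.xadd w)⁻¹ =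
        xGL R.xadd p.1 p.2 * (wordGL R.xadd w * chRootProd R gamF4 c * (wordGL R.xadd w)⁻¹) *
          (xGL R.xadd p.1 p.2)⁻¹ := by group
    rw [e, ih fun q hq => hw q (List.mem_cons_of_mem _ hq), chF4_act R (hw p List.mem_cons_self)]

/-- The elements of `V` with non-trivial components at the roots `39` and `45`. -/
def F4P (R : BRel chevF4 F η) (y : GL chevF4.Idx F) : Prop :=
  ∃ c : ℕ → F, c 39 ≠ 0 ∧ c 45 ≠ 0 ∧ y = chRootProd R gamF4 c

theorem F4P_conj_B [CharP F 2] (R : BRel chevF4 F η) {b : GL chevF4.Idx F}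
    (hb : b ∈ chevF4.borelSubgroup F) {y : GL chevF4.Idx F} (hy : F4P R y) : F4P R (b * y * b⁻¹) := by
  apply chLT_conj_B R (F4P R) _ _ hb hy
  · rintro q hq u y ⟨c, h1, h2, rfl⟩
    have hq' : q ∈ posF4 := by
      rw [← chPosRoots_F4]
      exact mem_posRoots.mpr hq
    exact ⟨actF4 q u c, by rw [actF4_39]; exact h1, by rw [actF4_45]; exact h2, chF4_act R hq' u c⟩
  · rintro h hh y ⟨c, h1, h2, rfl⟩
    obtain ⟨c', hc', e⟩ := chLT_h_conj_word R hh gamF4 (by decide) c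
    exact ⟨c', hc' 39 (by decide) h1, hc' 45 (by decide) h2, e⟩

theorem chF4_V_unique (R : BRel chevF4 F η) {c c' : ℕ → F}
    (h : chRootProd R gamF4 c = chRootProd R gamF4 c') : ∀ γ ∈ gamF4, c γ = c' γ := by
  have hD7 : chevF4 ∈ [chevG2, chevB2, chevD4, chevF4, chevE6, chevE7, chevE8] := by simp
  have hW := wtFacts_of_wtOK chainPackOK_F4 wtOK_F4
  have h1 := congrArg Units.val h
  unfold chRootProd at h1
  rw [wordGL_val, wordGL_val] at h1
  exact coeff_unique hW (rootElts_of_mem hD7) gamF4 (by decide)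
    (fun r hr => ⟨(chPos_F4 r (gam_sub_pos_F4 r hr)).1,
      (hW.pos r (chPos_F4 r (gam_sub_pos_F4 r hr)).1).mp (chPos_F4 r (gam_sub_pos_F4 r hr))⟩) c c' h1

/-- The subgroup generated by `X_33`, `X_14`, `X_24`, `X_23` and the root subgroups of the positive roots other than
`27`, `25`, `34`, `26`. -/
def F4T (F : Type*) [Field F] : Subgroup (GL chevF4.Idx F) :=
  chevF4.rootSubgroup F 33 ⊔ chevF4.rootSubgroup F 14 ⊔ chevF4.rootSubgroup F 24 ⊔
    chevF4.rootSubgroup F 23 ⊔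
    Subgroup.closure {g : GL chevF4.Idx F | ∃ (r : ℕ) (c : F), chevF4.IsPosRoot r ∧
      r ∉ [27, 25, 34, 26] ∧ (g : Matrix chevF4.Idx chevF4.Idx F) = chevF4.x F r c}

theorem chTodd_F4 : ∀ s ∈ posF4, s ∉ [27, 25, 34, 26] → ∀ γ ∈ [39, 45],
    γ ∈ gamF4 ∧ (s, γ) ∉ oddF4 := by decide

theorem chF4_T_mem (R : BRel chevF4 F η) {s : ℕ}
    (hs : s ∈ [33, 14, 24, 23] ∨ (s ∈ posF4 ∧ s ∉ [27, 25, 34, 26])) (c : F) :
    xGL R.xadd s c ∈ F4T F := by
  unfold F4T
  rcases hs with hs | ⟨h1, h2⟩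
  · simp only [List.mem_cons, List.not_mem_nil, or_false] at hs
    rcases hs with rfl | rfl | rfl | rfl
    · exact Subgroup.mem_sup_left (Subgroup.mem_sup_left (Subgroup.mem_sup_left
        (Subgroup.mem_sup_left (xGL_mem_rootSubgroup R.xadd _ c))))
    · exact Subgroup.mem_sup_left (Subgroup.mem_sup_left (Subgroup.mem_sup_left
        (Subgroup.mem_sup_right (xGL_mem_rootSubgroup R.xadd _ c))))
    · exact Subgroup.mem_sup_left (Subgroup.mem_sup_left (Subgroup.mem_sup_right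
        (xGL_mem_rootSubgroup R.xadd _ c)))
    · exact Subgroup.mem_sup_left (Subgroup.mem_sup_right (xGL_mem_rootSubgroup R.xadd _ c))
  · exact Subgroup.mem_sup_right
      (Subgroup.subset_closure ⟨s, c, chPos_F4 s h1, h2, xGL_val R.xadd s c⟩)

theorem chF4_T_fix [CharP F 2] (R : BRel chevF4 F η) {s : ℕ}
    (hs : s ∈ [33, 14, 24, 23] ∨ (s ∈ posF4 ∧ s ∉ [27, 25, 34, 26])) {γ : ℕ} (hγ : γ ∈ [39, 45])
    (u c : F) : xGL R.xadd s u * xGL R.xadd γ c * (xGL R.xadd s u)⁻¹ = xGL R.xadd γ c := by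
  have hpos : ∀ s ∈ posF4, s ∉ [27, 25, 34, 26] →
      xGL R.xadd s u * xGL R.xadd γ c * (xGL R.xadd s u)⁻¹ = xGL R.xadd γ c := by
    intro s h1 h2
    obtain ⟨h3, h4⟩ := chTodd_F4 s h1 h2 γ hγ
    exact chF4_fix R h1 h3 h4 u c
  have hneg : ∀ s ∈ [14, 23],
      xGL R.xadd s u * xGL R.xadd γ c * (xGL R.xadd s u)⁻¹ = xGL R.xadd γ c := by
    intro s h1
    obtain ⟨h0, h0', h2, h3, h4⟩ := chFixNeg_F4 s h1 γ hγ
    exact chCentG_comm_even R h0 h0' h2 h3 (fun c hc => Int.dvd_of_emod_eq_zero (h4 c hc)) u c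
  rcases hs with hs | ⟨h1, h2⟩
  · simp only [List.mem_cons, List.not_mem_nil, or_false] at hs
    rcases hs with rfl | rfl | rfl | rfl
    · exact hpos 33 (by decide) (by decide)
    · exact hneg 14 (by decide)
    · exact hpos 24 (by decide) (by decide)
    · exact hneg 23 (by decide)
  · exact hpos s h1 h2

theorem chF4_T_gen [CharP F 2] (R : BRel chevF4 F η) (a b : F) {s : ℕ}
    (hs : s ∈ [33, 14, 24, 23] ∨ (s ∈ posF4 ∧ s ∉ [27, 25, 34, 26])) (c : F) :
    xGL R.xadd s c ∈ chevF4.group F ⊓ Subgroup.centralizer {xGL R.xadd 39 a * xGL R.xadd 45 b} := by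
  refine ⟨xGL_mem_group R.xadd s c, ?_⟩
  show _ ∈ Subgroup.centralizer {xGL R.xadd 39 a * xGL R.xadd 45 b}
  rw [Subgroup.mem_centralizer_iff]
  intro y hy
  rw [Set.mem_singleton_iff] at hy
  rw [hy]
  apply chCent_comm_of_conj
  have e : xGL R.xadd s c * (xGL R.xadd 39 a * xGL R.xadd 45 b) * (xGL R.xadd s c)⁻¹ =
      (xGL R.xadd s c * xGL R.xadd 39 a * (xGL R.xadd s c)⁻¹) *
        (xGL R.xadd s c * xGL R.xadd 45 b * (xGL R.xadd s c)⁻¹) := by group
  rw [e, chF4_T_fix R hs (by decide), chF4_T_fix R hs (by decide)]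

theorem chF4_T_le [CharP F 2] (R : BRel chevF4 F η) (a b : F) :
    F4T F ≤ chevF4.group F ⊓ Subgroup.centralizer {xGL R.xadd 39 a * xGL R.xadd 45 b} := by
  have hX : ∀ s ∈ [33, 14, 24, 23], chevF4.rootSubgroup F s ≤
      chevF4.group F ⊓ Subgroup.centralizer {xGL R.xadd 39 a * xGL R.xadd 45 b} := by
    intro s hs
    unfold ChevalleyDatum.rootSubgroup
    rw [Subgroup.closure_le]
    rintro g ⟨c, hg⟩
    rw [SetLike.mem_coe, eq_xGL R.xadd hg]
    exact chF4_T_gen R a b (Or.inl hs) c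
  unfold F4T
  refine sup_le (sup_le (sup_le (sup_le (hX 33 (by simp)) (hX 14 (by simp))) (hX 24 (by simp)))
    (hX 23 (by simp))) ?_
  rw [Subgroup.closure_le]
  rintro g ⟨r, c, hr, hr', hg⟩
  rw [SetLike.mem_coe, eq_xGL R.xadd hg]
  refine chF4_T_gen R a b (Or.inr ⟨?_, hr'⟩) c
  rw [← chPosRoots_F4]
  exact mem_posRoots.mpr hr

theorem chChar39_F4 (z : ℕ → Fˣ) : torusChar chevF4 z 39 = (z 1)⁻¹ * z 2 := by
  unfold torusChar
  have hr : chevF4.rank = 4 := by decide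
  have e : List.range 4 = [0, 1, 2, 3] := by decide
  rw [hr, e]
  simp only [List.map_cons, List.map_nil, List.prod_cons, List.prod_nil]
  rw [chCartan39_F4.1, chCartan39_F4.2.1, chCartan39_F4.2.2.1, chCartan39_F4.2.2.2]
  simp

theorem chChar45_F4 (z : ℕ → Fˣ) : torusChar chevF4 z 45 = z 1 ^ (2 : ℤ) * (z 2)⁻¹ := by
  unfold torusChar
  have hr : chevF4.rank = 4 := by decide
  have e : List.range 4 = [0, 1, 2, 3] := by decide
  rw [hr, e]
  simp only [List.map_cons, List.map_nil, List.prod_cons, List.prod_nil]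
  rw [chCartan45_F4.1, chCartan45_F4.2.1, chCartan45_F4.2.2.1, chCartan45_F4.2.2.2]
  simp

theorem chChar47_F4 (z : ℕ → Fˣ) : torusChar chevF4 z 47 = z 3 := by
  unfold torusChar
  have hr : chevF4.rank = 4 := by decide
  have e : List.range 4 = [0, 1, 2, 3] := by decide
  rw [hr, e]
  simp only [List.map_cons, List.map_nil, List.prod_cons, List.prod_nil]
  rw [chCartan47_F4.1, chCartan47_F4.2.1, chCartan47_F4.2.2.1, chCartan47_F4.2.2.2]
  simp

theorem chChar44_F4 (z : ℕ → Fˣ) : torusChar chevF4 z 44 = z 0 := by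
  unfold torusChar
  have hr : chevF4.rank = 4 := by decide
  have e : List.range 4 = [0, 1, 2, 3] := by decide
  rw [hr, e]
  simp only [List.map_cons, List.map_nil, List.prod_cons, List.prod_nil]
  rw [chCartan44_F4.1, chCartan44_F4.2.1, chCartan44_F4.2.2.1, chCartan44_F4.2.2.2]
  simp

theorem chLT_mono_le {D : ChevalleyDatum} {f : ℕ → ℤ} (hW : WtFacts D f) {r s : ℕ} (h : r ≤ s)
    (hs : s < D.nroots) : f r ≤ f s := by
  rcases Nat.eq_or_lt_of_le h with h1 | h1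
  · rw [h1]
  · exact (hW.mono r s h1 hs).le

/-- The coefficients with the given values at the roots of `V`. -/
def c6F4 (a1 a2 a3 a4 a5 a6 : F) : ℕ → F := fun γ =>
  if γ = 39 then a1 else if γ = 40 then a2 else if γ = 44 then a3 else if γ = 45 then a4
  else if γ = 46 then a5 else if γ = 47 then a6 else 0

theorem c6F4_39 (a1 a2 a3 a4 a5 a6 : F) : c6F4 a1 a2 a3 a4 a5 a6 39 = a1 := by simp [c6F4]
theorem c6F4_40 (a1 a2 a3 a4 a5 a6 : F) : c6F4 a1 a2 a3 a4 a5 a6 40 = a2 := by simp [c6F4]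
theorem c6F4_44 (a1 a2 a3 a4 a5 a6 : F) : c6F4 a1 a2 a3 a4 a5 a6 44 = a3 := by simp [c6F4]
theorem c6F4_45 (a1 a2 a3 a4 a5 a6 : F) : c6F4 a1 a2 a3 a4 a5 a6 45 = a4 := by simp [c6F4]
theorem c6F4_46 (a1 a2 a3 a4 a5 a6 : F) : c6F4 a1 a2 a3 a4 a5 a6 46 = a5 := by simp [c6F4]
theorem c6F4_47 (a1 a2 a3 a4 a5 a6 : F) : c6F4 a1 a2 a3 a4 a5 a6 47 = a6 := by simp [c6F4]

theorem chF4_V_congr (R : BRel chevF4 F η) {c c' : ℕ → F} (h : ∀ γ ∈ gamF4, c γ = c' γ) :
    chRootProd R gamF4 c = chRootProd R gamF4 c' := by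
  rw [chF4_V_eq, chF4_V_eq, h 39 (by decide), h 40 (by decide), h 44 (by decide), h 45 (by decide),
    h 46 (by decide), h 47 (by decide)]

theorem chF4_c6_24 [CharP F 2] (R : BRel chevF4 F η) (τ a1 a2 a3 a4 a5 a6 : F) :
    xGL R.xadd 24 τ * chRootProd R gamF4 (c6F4 a1 a2 a3 a4 a5 a6) * (xGL R.xadd 24 τ)⁻¹ =
      chRootProd R gamF4 (c6F4 a1 a2 a3 a4 a5 (τ * a5 + a6)) := by
  rw [chF4_step24]
  apply chF4_V_congr
  intro γ hγ
  unfold gamF4 at hγ
  simp only [List.mem_cons, List.not_mem_nil, or_false] at hγ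
  rcases hγ with rfl | rfl | rfl | rfl | rfl | rfl <;> simp [c6F4]

theorem chF4_c6_25 [CharP F 2] (R : BRel chevF4 F η) (τ a1 a2 a3 a4 a5 a6 : F) :
    xGL R.xadd 25 τ * chRootProd R gamF4 (c6F4 a1 a2 a3 a4 a5 a6) * (xGL R.xadd 25 τ)⁻¹ =
      chRootProd R gamF4 (c6F4 a1 a2 a3 a4 (τ * a4 + a5) a6) := by
  rw [chF4_step25]
  apply chF4_V_congr
  intro γ hγ
  unfold gamF4 at hγ
  simp only [List.mem_cons, List.not_mem_nil, or_false] at hγ
  rcases hγ with rfl | rfl | rfl | rfl | rfl | rfl <;> simp [c6F4]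

theorem chF4_c6_26 [CharP F 2] (R : BRel chevF4 F η) (τ a1 a2 a3 a4 a5 a6 : F) :
    xGL R.xadd 26 τ * chRootProd R gamF4 (c6F4 a1 a2 a3 a4 a5 a6) * (xGL R.xadd 26 τ)⁻¹ =
      chRootProd R gamF4 (c6F4 a1 a2 a3 a4 a5 (τ * a4 + a6)) := by
  rw [chF4_step26]
  apply chF4_V_congr
  intro γ hγ
  unfold gamF4 at hγ
  simp only [List.mem_cons, List.not_mem_nil, or_false] at hγ
  rcases hγ with rfl | rfl | rfl | rfl | rfl | rfl <;> simp [c6F4]

theorem chF4_c6_27 [CharP F 2] (R : BRel chevF4 F η) (τ a1 a2 a3 a4 a5 a6 : F) :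
    xGL R.xadd 27 τ * chRootProd R gamF4 (c6F4 a1 a2 a3 a4 a5 a6) * (xGL R.xadd 27 τ)⁻¹ =
      chRootProd R gamF4 (c6F4 a1 (τ * a1 + a2) a3 a4 a5 a6) := by
  rw [chF4_step27]
  apply chF4_V_congr
  intro γ hγ
  unfold gamF4 at hγ
  simp only [List.mem_cons, List.not_mem_nil, or_false] at hγ
  rcases hγ with rfl | rfl | rfl | rfl | rfl | rfl <;> simp [c6F4]

theorem chF4_c6_33 [CharP F 2] (R : BRel chevF4 F η) (τ a1 a2 a3 a4 a5 a6 : F) :
    xGL R.xadd 33 τ * chRootProd R gamF4 (c6F4 a1 a2 a3 a4 a5 a6) * (xGL R.xadd 33 τ)⁻¹ =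
      chRootProd R gamF4 (c6F4 a1 a2 (τ * a2 + a3) a4 a5 a6) := by
  rw [chF4_step33]
  apply chF4_V_congr
  intro γ hγ
  unfold gamF4 at hγ
  simp only [List.mem_cons, List.not_mem_nil, or_false] at hγ
  rcases hγ with rfl | rfl | rfl | rfl | rfl | rfl <;> simp [c6F4]

theorem chF4_c6_34 [CharP F 2] (R : BRel chevF4 F η) (τ a1 a2 a3 a4 a5 a6 : F) :
    xGL R.xadd 34 τ * chRootProd R gamF4 (c6F4 a1 a2 a3 a4 a5 a6) * (xGL R.xadd 34 τ)⁻¹ =
      chRootProd R gamF4 (c6F4 a1 a2 (τ * a1 + a3) a4 a5 a6) := by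
  rw [chF4_step34]
  apply chF4_V_congr
  intro γ hγ
  unfold gamF4 at hγ
  simp only [List.mem_cons, List.not_mem_nil, or_false] at hγ
  rcases hγ with rfl | rfl | rfl | rfl | rfl | rfl <;> simp [c6F4]

theorem chLT_word_conj_fix {D : ChevalleyDatum} (hX : XAdd D F) (w : List (ℕ × F)) (y : GL D.Idx F)
    (h : ∀ p ∈ w, xGL hX p.1 p.2 * y * (xGL hX p.1 p.2)⁻¹ = y) :
    wordGL hX w * y * (wordGL hX w)⁻¹ = y := by
  induction w with
  | nil => rw [wordGL_nil, one_mul, inv_one, mul_one]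
  | cons p w ih =>
    rw [wordGL_cons]
    have e : xGL hX p.1 p.2 * wordGL hX w * y * (xGL hX p.1 p.2 * wordGL hX w)⁻¹ =
        xGL hX p.1 p.2 * (wordGL hX w * y * (wordGL hX w)⁻¹) * (xGL hX p.1 p.2)⁻¹ := by group
    rw [e, ih fun q hq => h q (List.mem_cons_of_mem _ hq), h p List.mem_cons_self]

theorem chF4_fix_V [CharP F 2] (R : BRel chevF4 F η) {q : ℕ} (hq : q ∈ posF4)
    (hq' : q ∉ [24, 25, 26, 27, 33, 34]) (τ : F) (c : ℕ → F) :
    xGL R.xadd q τ * chRootProd R gamF4 c * (xGL R.xadd q τ)⁻¹ = chRootProd R gamF4 c := by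
  unfold chRootProd
  apply chLT_conj_fix_word
  intro p hp
  rw [List.mem_map] at hp
  obtain ⟨γ, hγ, rfl⟩ := hp
  apply chF4_fix R hq hγ
  intro hmem
  unfold oddF4 at hmem
  simp only [List.mem_cons, Prod.mk.injEq, List.not_mem_nil, or_false] at hmem hq'
  omega

end F4

end Cfsg.Agent.Helper38
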