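/-
helper38: type F4 in characteristic two, the centraliser of the involution `x_47(1) x_44(1)` (the highest root and
the highest short root): it is generated by `U`, `X_20` and `X_22`.
-/
import Cfsg.Agent.Helper38.ChevCentF4c

set_option autoImplicit false

namespace Cfsg.Agent.Helper38

open Cfsg Cfsg.Lie Cfsg.Agent.Helper36 Cfsg.Agent.Helper17

theorem chFixNeg1_F4 : ∀ q ∈ [20, 22], ∀ γ ∈ [44, 47],
    q < chevF4.nroots ∧ γ < chevF4.nroots ∧ γ ≠ q ∧ γ ≠ chevF4.neg q ∧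
      ∀ c ∈ chevF4.commTerms q γ, c.2.1 % 2 = 0 := by decide +kernel

theorem chLet1_F4 : ∀ i < chevF4.rank, chevF4.cartan i 44 = 0 → chevF4.cartan i 47 = 0 →
    chevF4.neg (chevF4.simple i) ∈ [20, 22] := by decide +kernel

theorem chK1odd_F4 : ∀ s ∈ posF4, ∀ γ ∈ [44, 47], γ ∈ gamF4 ∧ (s, γ) ∉ oddF4 := by decide

theorem chK1pos_F4 : ∀ γ ∈ [44, 47], γ ∈ posF4 ∧ γ ∈ gamF4 ∧ 44 ≤ γ := by decide

section F4

variable {F : Type*} [Field F] {η : ℕ → ℕ → ℤ}

theorem chF4_K_fix [CharP F 2] (R : BRel chevF4 F η) {s : ℕ} (hs : s ∈ posF4 ∨ s ∈ [20, 22]) {γ : ℕ}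
    (hγ : γ ∈ [44, 47]) (u c : F) :
    xGL R.xadd s u * xGL R.xadd γ c * (xGL R.xadd s u)⁻¹ = xGL R.xadd γ c := by
  rcases hs with hs | hs
  · obtain ⟨h3, h4⟩ := chK1odd_F4 s hs γ hγ
    exact chF4_fix R hs h3 h4 u c
  · obtain ⟨h0, h0', h2, h3, h4⟩ := chFixNeg1_F4 s hs γ hγ
    exact chCentG_comm_even R h0 h0' h2 h3 (fun c hc => Int.dvd_of_emod_eq_zero (h4 c hc)) u c

theorem chF4_V1_eq (R : BRel chevF4 F η) (c : ℕ → F) :
    chRootProd R [44, 47] c = xGL R.xadd 44 (c 44) * xGL R.xadd 47 (c 47) := by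
  unfold chRootProd
  simp only [List.map_cons, List.map_nil, wordGL_cons, wordGL_nil, mul_one]

theorem chF4_K_gen [CharP F 2] (R : BRel chevF4 F η) (a b : F) {s : ℕ}
    (hs : s ∈ posF4 ∨ s ∈ [20, 22]) (c : F) :
    xGL R.xadd s c ∈ chevF4.group F ⊓ Subgroup.centralizer {xGL R.xadd 44 a * xGL R.xadd 47 b} := by
  refine ⟨xGL_mem_group R.xadd s c, ?_⟩
  show _ ∈ Subgroup.centralizer {xGL R.xadd 44 a * xGL R.xadd 47 b}
  rw [Subgroup.mem_centralizer_iff]
  intro y hy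
  rw [Set.mem_singleton_iff] at hy
  rw [hy]
  apply chCent_comm_of_conj
  have e : xGL R.xadd s c * (xGL R.xadd 44 a * xGL R.xadd 47 b) * (xGL R.xadd s c)⁻¹ =
      (xGL R.xadd s c * xGL R.xadd 44 a * (xGL R.xadd s c)⁻¹) *
        (xGL R.xadd s c * xGL R.xadd 47 b * (xGL R.xadd s c)⁻¹) := by group
  rw [e, chF4_K_fix R hs (by decide), chF4_K_fix R hs (by decide)]

theorem chF4_K_le [CharP F 2] (R : BRel chevF4 F η) (a b : F) :
    chevF4.posUnipotent F ⊔ Subgroup.closure {g : GL chevF4.Idx F | ∃ s ∈ [20, 22], ∃ c : F,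
      (g : Matrix chevF4.Idx chevF4.Idx F) = chevF4.x F s c} ≤
      chevF4.group F ⊓ Subgroup.centralizer {xGL R.xadd 44 a * xGL R.xadd 47 b} := by
  apply sup_le
  · unfold ChevalleyDatum.posUnipotent
    rw [Subgroup.closure_le]
    rintro g ⟨q, u, hq, hg⟩
    rw [SetLike.mem_coe, eq_xGL R.xadd hg]
    refine chF4_K_gen R a b (Or.inl ?_) u
    rw [← chPosRoots_F4]
    exact mem_posRoots.mpr hq
  · rw [Subgroup.closure_le]
    rintro g ⟨s, hs, c, hg⟩
    rw [SetLike.mem_coe, eq_xGL R.xadd hg]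
    exact chF4_K_gen R a b (Or.inr hs) c

/-- The products `x_44(a) x_47(b)` with `a, b ≠ 0`. -/
def F4P1 (R : BRel chevF4 F η) (y : GL chevF4.Idx F) : Prop :=
  ∃ c : ℕ → F, c 44 ≠ 0 ∧ c 47 ≠ 0 ∧ y = chRootProd R [44, 47] c

theorem F4P1_conj_B [CharP F 2] (R : BRel chevF4 F η) {b : GL chevF4.Idx F}
    (hb : b ∈ chevF4.borelSubgroup F) {y : GL chevF4.Idx F} (hy : F4P1 R y) :
    F4P1 R (b * y * b⁻¹) := by
  apply chLT_conj_B R (F4P1 R) _ _ hb hy
  · rintro q hq u y ⟨c, h1, h2, rfl⟩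
    have hq' : q ∈ posF4 := by
      rw [← chPosRoots_F4]
      exact mem_posRoots.mpr hq
    refine ⟨c, h1, h2, ?_⟩
    unfold chRootProd
    apply chLT_conj_fix_word
    intro p hp
    rw [List.mem_map] at hp
    obtain ⟨γ, hγ, rfl⟩ := hp
    exact chF4_K_fix R (Or.inl hq') hγ u (c γ)
  · rintro h hh y ⟨c, h1, h2, rfl⟩
    obtain ⟨c', hc', e⟩ := chLT_h_conj_word R hh [44, 47] (by decide) c
    exact ⟨c', hc' 44 (by decide) h1, hc' 47 (by decide) h2, e⟩

theorem chF4_V1_unique (R : BRel chevF4 F η) {c c' : ℕ → F}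
    (h : chRootProd R [44, 47] c = chRootProd R [44, 47] c') : ∀ γ ∈ [44, 47], c γ = c' γ := by
  have hD7 : chevF4 ∈ [chevG2, chevB2, chevD4, chevF4, chevE6, chevE7, chevE8] := by simp
  have hW := wtFacts_of_wtOK chainPackOK_F4 wtOK_F4
  have h1 := congrArg Units.val h
  unfold chRootProd at h1
  rw [wordGL_val, wordGL_val] at h1
  exact coeff_unique hW (rootElts_of_mem hD7) [44, 47] (by decide)
    (fun r hr => ⟨(chPos_F4 r (chK1pos_F4 r hr).1).1,
      (hW.pos r (chPos_F4 r (chK1pos_F4 r hr).1).1).mp (chPos_F4 r (chK1pos_F4 r hr).1)⟩) c c' h1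

theorem chCent_F4_mixed1_aux [CharP F 2] (R : BRel chevF4 F η) (w : GL chevF4.Idx F)
    (hw : (w : Matrix chevF4.Idx chevF4.Idx F) = chevF4.x F 47 1 * chevF4.x F 44 1) :
    chevF4.group F ⊓ Subgroup.centralizer {w} =
      chevF4.posUnipotent F ⊔ Subgroup.closure {g : GL chevF4.Idx F | ∃ s ∈ [20, 22], ∃ c : F,
        (g : Matrix chevF4.Idx chevF4.Idx F) = chevF4.x F s c} := by
  have hD7 : chevF4 ∈ [chevG2, chevB2, chevD4, chevF4, chevE6, chevE7, chevE8] := by simp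
  have hW := wtFacts_of_wtOK chainPackOK_F4 wtOK_F4
  have hDiag : HDiag chevF4 F := hDiag_of_mem hD7
  have hE : RootElts chevF4 F := rootElts_of_mem hD7
  have hwx : w = xGL R.xadd 44 1 * xGL R.xadd 47 1 := by
    have h1 : w = xGL R.xadd 47 1 * xGL R.xadd 44 1 :=
      Units.ext (by rw [hw, Units.val_mul, xGL_val, xGL_val])
    rw [h1]
    exact chF4_comm R (by decide) (by decide) 1 1
  have hle := chF4_K_le R (1 : F) 1
  rw [← hwx] at hle
  apply le_antisymm _ hle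
  rintro g ⟨hgG, hgC⟩
  have hcomm' : w * g = g * w := Subgroup.mem_centralizer_iff.mp hgC w rfl
  obtain ⟨b₁, hb₁, n, hn, b₂, hb₂, rfl⟩ := R.bruhat g hgG
  obtain ⟨L₀, hL₀, h₀, hh₀, rfl⟩ := R.exists_word n hn
  obtain ⟨L, hL, hred, -, h', hh', heq⟩ := R.exists_red L₀ hL₀
  rw [heq] at hcomm' ⊢
  have hPw : F4P1 R w := ⟨fun _ => 1, one_ne_zero, one_ne_zero, by rw [hwx, chF4_V1_eq]⟩
  have hHB : chevF4.diagonalSubgroup F ≤ chevF4.borelSubgroup F := le_sup_right
  have hb : h' * h₀ * b₂ ∈ chevF4.borelSubgroup F := mul_mem (hHB (mul_mem hh' hh₀)) hb₂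
  obtain ⟨c, hc44, hc47, hy⟩ := F4P1_conj_B R hb hPw
  obtain ⟨c', hc'44, hc'47, hy'⟩ := F4P1_conj_B R (inv_mem hb₁) hPw
  have key : R.nW L * chRootProd R [44, 47] c * (R.nW L)⁻¹ = chRootProd R [44, 47] c' := by
    rw [← hy, ← hy']
    have h4 : (b₁ * (R.nW L * h' * h₀) * b₂) * w * (b₁ * (R.nW L * h' * h₀) * b₂)⁻¹ = w := by
      rw [← hcomm']; group
    calc R.nW L * (h' * h₀ * b₂ * w * (h' * h₀ * b₂)⁻¹) * (R.nW L)⁻¹
        = b₁⁻¹ * ((b₁ * (R.nW L * h' * h₀) * b₂) * w * (b₁ * (R.nW L * h' * h₀) * b₂)⁻¹) *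
          b₁⁻¹⁻¹ := by group
      _ = b₁⁻¹ * w * b₁⁻¹⁻¹ := by rw [h4]
  have hbw := chLT_bruhat_word R hW hE [44, 47] (by decide)
    (fun γ hγ => chPos_F4 γ (chK1pos_F4 γ hγ).1)
    (fun γ hγ γ' hγ' a b => chF4_comm R (chK1pos_F4 γ hγ).2.1 (chK1pos_F4 γ' hγ').2.1 a b) hL c c' key
  have hcne : ∀ γ ∈ [44, 47], c γ ≠ 0 := by
    intro γ hγ
    simp only [List.mem_cons, List.not_mem_nil, or_false] at hγ
    rcases hγ with rfl | rfl
    · exact hc44
    · exact hc47
  have hrange : ∀ γ ∈ [44, 47], wW chevF4 L γ ∈ [44, 45, 46, 47] := by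
    intro γ hγ
    obtain ⟨hpos, γ', hγ', -, hle'⟩ := hbw γ hγ (hcne γ hγ)
    have h44 : 44 ≤ wW chevF4 L γ := by
      by_contra hlt
      rw [not_le] at hlt
      have h1 := hW.mono _ _ hlt (by decide : 44 < chevF4.nroots)
      have h2 : wt wtPackF4 44 ≤ wt wtPackF4 γ' :=
        chLT_mono_le hW (chK1pos_F4 γ' hγ').2.2 (chPos_F4 γ' (chK1pos_F4 γ' hγ').1).1
      omega
    have h48 : wW chevF4 L γ < 48 := hpos.1
    simp only [List.mem_cons, List.not_mem_nil, or_false]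
    omega
  have hex : ∀ (A B C E : ℤ) (ρ : ℕ) (S : List ℕ), ExclF4 A B C E ρ S →
      (∀ x ∈ [44, 45, 46, 47], x = ρ ∨ x ∈ S) → (∀ γ ∈ [44, 47], γ ∈ S) →
      ∀ γ ∈ [44, 47], wW chevF4 L γ ≠ ρ := by
    intro A B C E ρ S hS hcov hsub γ hγ hw'
    exact hcne γ hγ (chLT_bruhat_excl R hW (fnF4_additive A B C E) hE [44, 47] (by decide) (by decide)
      hL c c' key S hS.1 hS.2.1 hS.2.2 (fun γ hγ _ => hcov _ (hrange γ hγ)) hsub γ hγ hw')
  have h45 := hex _ _ _ _ _ _ chExcl45_F4 (by decide) (by decide)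
  have h46 := hex _ _ _ _ _ _ chExcl46_F4 (by decide) (by decide)
  have hs44 : wW chevF4 L 44 ∈ shortF4 := orbFn_F4.mem_wW R.wf (by decide) L hL
  have hfix44 : wW chevF4 L 44 = 44 := by
    have h1 := hrange 44 (by decide)
    have h2 := h45 44 (by decide)
    have h3 := h46 44 (by decide)
    simp only [List.mem_cons, List.not_mem_nil, or_false] at h1
    have h4 : wW chevF4 L 44 ≠ 47 := by
      intro e
      rw [e] at hs44
      revert hs44
      decide
    omega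
  have hfix47 : wW chevF4 L 47 = 47 := by
    have h1 := hrange 47 (by decide)
    have h2 := h45 47 (by decide)
    have h3 := h46 47 (by decide)
    simp only [List.mem_cons, List.not_mem_nil, or_false] at h1
    have h4 : wW chevF4 L 47 ≠ 44 := by
      intro e
      have h5 := R.wf.wW_reverse' hL (by decide : 47 < chevF4.nroots)
      have h6 := R.wf.wW_reverse' hL (by decide : 44 < chevF4.nroots)
      rw [e] at h5
      rw [hfix44] at h6
      omega
    omega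
  have hlet44 := chCentG_letters cReflOK_F4 R.wf orbFn_F4 (by decide) L hL hred hfix44
  have hlet47 := chCent_red_letters cReflOK_F4 R.wf topFn_F4 (by decide) L hL hred hfix47
  have hnP := chCentG_nW_mem [20, 22] R L hL
    (fun i hi => chLet1_F4 i (hL i hi) (hlet44 i hi) (hlet47 i hi))
  have hB : chevF4.borelSubgroup F ≤ (chevF4.posUnipotent F ⊔ Subgroup.closure {g : GL chevF4.Idx F |
      ∃ s ∈ [20, 22], ∃ c : F, (g : Matrix chevF4.Idx chevF4.Idx F) = chevF4.x F s c}) ⊔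
      chevF4.diagonalSubgroup F :=
    sup_le (le_sup_left.trans le_sup_left) le_sup_right
  have hg' : b₁ * (R.nW L * h' * h₀) * b₂ ∈ (chevF4.posUnipotent F ⊔ Subgroup.closure
      {g : GL chevF4.Idx F | ∃ s ∈ [20, 22], ∃ c : F,
        (g : Matrix chevF4.Idx chevF4.Idx F) = chevF4.x F s c}) ⊔ chevF4.diagonalSubgroup F :=
    mul_mem (mul_mem (hB hb₁) (mul_mem (mul_mem (Subgroup.mem_sup_left hnP)
      (Subgroup.mem_sup_right hh')) (Subgroup.mem_sup_right hh₀))) (hB hb₂)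
  obtain ⟨p, hp, hd, hhd, hgeq⟩ := chCent_sup_decomp _ _
    (chCent_H_normalizes [20, 22] R (by decide)) _ hg'
  have hpc : w * p = p * w := Subgroup.mem_centralizer_iff.mp (hle hp).2 w rfl
  have hdc : w * hd = hd * w := by
    have h3 : p * (w * hd) = p * (hd * w) := by
      calc p * (w * hd) = (p * w) * hd := by group
        _ = (w * p) * hd := by rw [hpc]
        _ = w * (p * hd) := by group
        _ = (p * hd) * w := by rw [← hgeq]; exact hcomm'
        _ = p * (hd * w) := by group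
    exact mul_left_cancel h3
  obtain ⟨χ1, hχ1⟩ := R.hx hd hhd 44 (by decide)
  obtain ⟨χ2, hχ2⟩ := R.hx hd hhd 47 (by decide)
  have hdw : hd * w * hd⁻¹ = xGL R.xadd 44 χ1 * xGL R.xadd 47 χ2 := by
    rw [hwx]
    have e : hd * (xGL R.xadd 44 1 * xGL R.xadd 47 1) * hd⁻¹ =
        (hd * xGL R.xadd 44 1 * hd⁻¹) * (hd * xGL R.xadd 47 1 * hd⁻¹) := by group
    rw [e, hχ1, hχ2, mul_one, mul_one]
  have hdw' : hd * w * hd⁻¹ = w := by
    rw [← hdc]
    group
  have huniq : chRootProd R [44, 47] (fun γ => if γ = 44 then χ1 else χ2) =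
      chRootProd R [44, 47] (fun _ => 1) := by
    rw [chF4_V1_eq, chF4_V1_eq, ← hwx, ← hdw', hdw]
    simp
  have e44 := chF4_V1_unique R huniq 44 (by decide)
  have e47 := chF4_V1_unique R huniq 47 (by decide)
  simp at e44 e47
  have hdK : hd ∈ chevF4.posUnipotent F ⊔ Subgroup.closure {g : GL chevF4.Idx F |
      ∃ s ∈ [20, 22], ∃ c : F, (g : Matrix chevF4.Idx chevF4.Idx F) = chevF4.x F s c} := by
    refine chLT_torus _ R hDiag (torusFacts_of_mem hD7) simpleOK_F4 [44, 47] (by decide) ?_ hhd ?_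
    · intro z hz i hi
      have h1 := hz 44 (by simp)
      have h2 := hz 47 (by simp)
      rw [chChar44_F4] at h1
      rw [chChar47_F4] at h2
      have hr4 : chevF4.rank = 4 := by decide
      rw [hr4] at hi
      have h4 : i = 0 ∨ i = 1 ∨ i = 2 ∨ i = 3 := by omega
      rcases h4 with rfl | rfl | rfl | rfl
      · left
        exact h1
      · right
        intro a
        rw [chSimple_F4.2.2.2.2.1, chSimple_F4.2.2.2.2.2.1]
        exact ⟨Subgroup.mem_sup_left (xGL_mem_posUnipotent R.xadd (chPos_F4 27 (by decide)) a),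
          Subgroup.mem_sup_right (Subgroup.subset_closure ⟨20, by simp, a, xGL_val R.xadd 20 a⟩)⟩
      · right
        intro a
        rw [chSimple_F4.2.2.2.2.2.2.1, chSimple_F4.2.2.2.2.2.2.2]
        exact ⟨Subgroup.mem_sup_left (xGL_mem_posUnipotent R.xadd (chPos_F4 25 (by decide)) a),
          Subgroup.mem_sup_right (Subgroup.subset_closure ⟨22, by simp, a, xGL_val R.xadd 22 a⟩)⟩
      · left
        exact h2
    · intro r hr
      simp only [List.mem_cons, List.not_mem_nil, or_false] at hr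
      rcases hr with rfl | rfl
      · rw [hχ1, e44, mul_one]
      · rw [hχ2, e47, mul_one]
  rw [hgeq]
  exact mul_mem hp hdK

/-- The centraliser of `x_47(1) x_44(1)` in the Chevalley group of type F4 in characteristic two. -/
theorem chCent_F4_mixed1 [CharP F 2] (w : GL chevF4.Idx F)
    (hw : (w : Matrix chevF4.Idx chevF4.Idx F) = chevF4.x F 47 1 * chevF4.x F 44 1) :
    chevF4.group F ⊓ Subgroup.centralizer {w} =
      chevF4.posUnipotent F ⊔ chevF4.rootSubgroup F 20 ⊔ chevF4.rootSubgroup F 22 := by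
  rw [chCent_F4_mixed1_aux (bRel_of_mem (F := F) (by simp)) w hw, sup_assoc]
  congr 1
  apply le_antisymm
  · rw [Subgroup.closure_le]
    rintro g ⟨s, hs, t, hg⟩
    simp only [List.mem_cons, List.not_mem_nil, or_false] at hs
    rcases hs with rfl | rfl
    · exact Subgroup.mem_sup_left (Subgroup.subset_closure ⟨t, hg⟩)
    · exact Subgroup.mem_sup_right (Subgroup.subset_closure ⟨t, hg⟩)
  · refine sup_le ?_ ?_
    · exact Subgroup.closure_mono (fun g ⟨t, hg⟩ => ⟨20, by simp, t, hg⟩)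
    · exact Subgroup.closure_mono (fun g ⟨t, hg⟩ => ⟨22, by simp, t, hg⟩)

end F4

end Cfsg.Agent.Helper38
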