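import Mathlib

/-!
# `SL_n` is transitive on linearly independent `k`-tuples for `k < n`

* `exists_linearEquiv_map`: linear automorphism sending one independent family to another;
* `exists_linearEquiv_det_fix`: linear automorphism of prescribed determinant fixing an
  independent family that does not span;
* `exists_sl_map`: matrix form for `Matrix.SpecialLinearGroup`.
-/

set_option autoImplicit false

namespace Cfsg.Agent.Helper38

open Module

section
variable {K V : Type*} [Field K] [AddCommGroup V] [Module K V] [FiniteDimensional K V]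

theorem exists_linearEquiv_map {ι : Type*} [Finite ι] (v w : ι → V)
    (hv : LinearIndependent K v) (hw : LinearIndependent K w) :
    ∃ g : V ≃ₗ[K] V, ∀ i, g (v i) = w i := by
  classical
  let f := hv.linearCombinationEquiv.symm ≪≫ₗ hw.linearCombinationEquiv
  obtain ⟨g, hg⟩ := Submodule.exists_linearEquiv_restrict_eq f
  refine ⟨g, fun i => ?_⟩
  have h1 : (hv.linearCombinationEquiv (Finsupp.single i 1) : V) = v i := by simp
  have h2 : (hw.linearCombinationEquiv (Finsupp.single i 1) : V) = w i := by simp
  have h3 := hg (hv.linearCombinationEquiv (Finsupp.single i 1))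
  rw [h1] at h3
  rw [← h3, ← h2]
  simp [f]

theorem exists_linearEquiv_det_fix {ι : Type*} [Fintype ι] (w : ι → V)
    (hw : LinearIndependent K w) (hc : Fintype.card ι < finrank K V) (a : Kˣ) :
    ∃ h : V ≃ₗ[K] V, LinearEquiv.det h = a ∧ ∀ i, h (w i) = w i := by
  have hlt : Submodule.span K (Set.range w) < ⊤ := by
    rw [lt_top_iff_ne_top]
    intro htop
    have h1 := finrank_span_eq_card hw
    rw [htop, finrank_top] at h1
    omega
  obtain ⟨φ, hφ0, hφ⟩ := Submodule.exists_le_ker_of_lt_top _ hlt
  obtain ⟨u, hu⟩ : ∃ u, φ u ≠ 0 := by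
    by_contra hcon
    push Not at hcon
    exact hφ0 (LinearMap.ext hcon)
  have hval : 1 + φ (((a : K) - 1) • (φ u)⁻¹ • u) = (a : K) := by
    rw [map_smul, map_smul, smul_eq_mul, smul_eq_mul, inv_mul_cancel₀ hu]
    ring
  have hunit : IsUnit (1 + φ (((a : K) - 1) • (φ u)⁻¹ • u)) := by
    rw [hval]
    exact a.isUnit
  refine ⟨LinearEquiv.dilatransvection hunit, ?_, ?_⟩
  · rw [← Units.val_inj, LinearEquiv.coe_det, LinearEquiv.dilatransvection.coe_toLinearMap,
      LinearMap.transvection.det, hval]
  · intro i
    rw [LinearEquiv.dilatransvection.apply]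
    have h0 : φ (w i) = 0 := hφ (Submodule.subset_span ⟨i, rfl⟩)
    rw [h0, zero_smul, add_zero]

theorem exists_linearEquiv_det_one_map {ι : Type*} [Fintype ι] (v w : ι → V)
    (hv : LinearIndependent K v) (hw : LinearIndependent K w)
    (hc : Fintype.card ι < finrank K V) :
    ∃ g : V ≃ₗ[K] V, LinearEquiv.det g = 1 ∧ ∀ i, g (v i) = w i := by
  obtain ⟨g, hg⟩ := exists_linearEquiv_map v w hv hw
  obtain ⟨h, hdet, hh⟩ := exists_linearEquiv_det_fix w hw hc (LinearEquiv.det g)⁻¹
  refine ⟨h * g, ?_, fun i => ?_⟩
  · rw [map_mul, hdet, inv_mul_cancel]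
  · rw [LinearEquiv.mul_apply, hg, hh]

end

/-- `SL_n(F)` is transitive on linearly independent families of fewer than `n` vectors. -/
theorem exists_sl_map {F : Type*} [Field F] {m : Type*} [Fintype m] [DecidableEq m]
    {ι : Type*} [Fintype ι] (v w : ι → (m → F))
    (hv : LinearIndependent F v) (hw : LinearIndependent F w)
    (hc : Fintype.card ι < Fintype.card m) :
    ∃ g : Matrix.SpecialLinearGroup m F,
      ∀ i, (g : Matrix m m F).mulVec (v i) = w i := by
  obtain ⟨g, hdet, hg⟩ := exists_linearEquiv_det_one_map v w hv hw (by simpa using hc)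
  refine ⟨⟨LinearMap.toMatrix' g.toLinearMap, ?_⟩, fun i => ?_⟩
  · rw [LinearMap.det_toMatrix']
    have := congrArg Units.val hdet
    rwa [LinearEquiv.coe_det, Units.val_one] at this
  · change (LinearMap.toMatrix' g.toLinearMap).mulVec (v i) = w i
    rw [← Matrix.toLin'_apply, Matrix.toLin'_toMatrix']
    exact hg i

end Cfsg.Agent.Helper38
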