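/-
helper38: a characteristic-two version of the fast word checker of Helper18 (`wordMat_eq_of_fcheck`): two
words of root elements have the same matrix over a field of characteristic two as soon as all the integer
coefficients of the difference of their symbolic columns are even.
-/
import Cfsg.Agent.Helper18.FastMain

set_option autoImplicit false

namespace Cfsg.Agent.Helper38

open Cfsg Cfsg.Lie Cfsg.Agent.Helper18

/-- All the integer coefficients of a flat vector are even. -/
def allEvenF (v : FVec) : Bool := v.all fun x => Int.emod x.2.1 2 == 0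

section

variable {F : Type*} [Field F] [CharP F 2] (t : Fˣ)

theorem evE_eq_zero_of_even (x : ℕ × ℤ × ℤ) (h : Int.emod x.2.1 2 = 0) (k : ℕ) : evE (F := F) t x k = 0 := by
  unfold evE
  split_ifs
  · have h2 : (2 : ℤ) ∣ x.2.1 := Int.dvd_of_emod_eq_zero h
    obtain ⟨m, hm⟩ := h2
    rw [hm]
    push_cast
    rw [CharTwo.two_eq_zero, zero_mul, zero_mul]
  · rfl

theorem evF_eq_zero_of_allEven (v : FVec) (h : allEvenF v = true) (k : ℕ) : evF (F := F) t v k = 0 := by
  induction v with
  | nil => rfl
  | cons x v ih =>
    unfold allEvenF at h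
    rw [List.all_cons, Bool.and_eq_true] at h
    rw [evF_cons, evE_eq_zero_of_even t x (by simpa using h.1) k, zero_add]
    exact ih h.2

/-- The characteristic-two word check. -/
theorem wordMat_eq_of_fcheck2 (D : ChevalleyDatum) (w1 w2 : FWord) (hw1 : goodWord D w1 = true)
    (hw2 : goodWord D w2 = true)
    (h : allBelow (D.rank + D.nroots)
      (fun k => allEvenF (fsub (fapplyW D w1 [(k, 1, 0)]) (fapplyW D w2 [(k, 1, 0)]))) = true) :
    D.wordMat F (evFW t w1) = D.wordMat F (evFW t w2) := by
  ext a b
  rw [wordMat_apply_fast t D w1 hw1, wordMat_apply_fast t D w2 hw2]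
  have h1 := (allBelow_iff _ _).mp h (code D b) (code_lt D b)
  have h2 := evF_fsub (F := F) t (fapplyW D w1 [(code D b, 1, 0)]) (fapplyW D w2 [(code D b, 1, 0)]) (code D a)
  rw [evF_eq_zero_of_allEven t _ h1] at h2
  exact (sub_eq_zero.mp h2.symm)

/-- The fast word with all parameters `1`. -/
def oneW (l : List ℕ) : FWord := l.map fun r => (r, 1, 0)

omit [CharP F 2] in
theorem evFW_oneW (l : List ℕ) : evFW (F := F) (1 : Fˣ) (oneW l) = l.map fun r => (r, (1 : F)) := by
  unfold evFW oneW
  rw [List.map_map]
  apply List.map_congr_left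
  intro r _
  simp

/-- Two words with all parameters `1` have the same matrix in characteristic two, by the check. -/
theorem wordMat_one_eq (D : ChevalleyDatum) (l1 l2 : List ℕ)
    (h : (goodWord D (oneW l1) && goodWord D (oneW l2) &&
      allBelow (D.rank + D.nroots)
        (fun k => allEvenF (fsub (fapplyW D (oneW l1) [(k, 1, 0)]) (fapplyW D (oneW l2) [(k, 1, 0)])))) = true) :
    D.wordMat F (l1.map fun r => (r, (1 : F))) = D.wordMat F (l2.map fun r => (r, (1 : F))) := by
  simp only [Bool.and_eq_true] at h
  have := wordMat_eq_of_fcheck2 (F := F) 1 D (oneW l1) (oneW l2) h.1.1 h.1.2 h.2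
  rwa [evFW_oneW, evFW_oneW] at this

end

end Cfsg.Agent.Helper38
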