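import Mathlib
import Cfsg.Agent.Helper38.FlagCount

/-!
# Agreements of permutations under conjugation by the alternating group (helper38)

`agree c b` is the number of points where the permutations `c` and `b` agree.

* `exists_perm_extend`, `exists_even_extend`: extending an injective partial map to a permutation,
  and to an even permutation when two points are left free.
* `exists_fiber_const`: `A_n` is sharply "equidistributed" on ordered pairs.
* `sum_agree_conj`: `∑ over k ∈ A_n of agree c (k b k⁻¹) = (u v (n - 1) + (n - u)(n - v)) K`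
  with `u`, `v` the numbers of fixed points of `c`, `b` and `|A_n| = n (n - 1) K`.
-/

set_option autoImplicit false

namespace Cfsg.Agent.Helper38

open Equiv

section Extend

theorem exists_perm_extend {α : Type*} [DecidableEq α] (s : Finset α) (f : α → α)
    (hf : Set.InjOn f (s : Set α)) : ∃ k : Perm α, ∀ x ∈ s, k x = f x := by
  induction s using Finset.induction_on with
  | empty => exact ⟨1, by simp⟩
  | insert a s ha ih =>
    obtain ⟨k, hk⟩ := ih (hf.mono (by simp))
    refine ⟨Equiv.swap (k a) (f a) * k, ?_⟩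
    intro x hx
    rw [Finset.mem_insert] at hx
    rcases hx with rfl | hx
    · simp
    · have h1 : k x ≠ k a := fun h => ha (k.injective h ▸ hx)
      have h2 : f x ≠ f a := by
        intro h
        have := hf (by simp [hx]) (by simp) h
        exact ha (this ▸ hx)
      rw [Perm.mul_apply, Equiv.swap_apply_of_ne_of_ne h1 (by rw [hk x hx]; exact h2), hk x hx]

theorem exists_even_extend {α : Type*} [Fintype α] [DecidableEq α] (s : Finset α) (f : α → α)
    (hf : Set.InjOn f (s : Set α)) (hs : s.card + 2 ≤ Fintype.card α) :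
    ∃ k ∈ alternatingGroup α, ∀ x ∈ s, k x = f x := by
  obtain ⟨σ, hσ⟩ := exists_perm_extend s f hf
  by_cases h : σ ∈ alternatingGroup α
  · exact ⟨σ, h, hσ⟩
  · have hcard : 1 < ((Finset.univ : Finset α) \ s.image f).card := by
      rw [Finset.card_univ_sdiff, Finset.card_image_of_injOn hf]
      omega
    obtain ⟨p, hp, q, hq, hpq⟩ := Finset.one_lt_card.mp hcard
    simp only [Finset.mem_sdiff, Finset.mem_univ, true_and] at hp hq
    refine ⟨Equiv.swap p q * σ, ?_, ?_⟩
    · rw [Equiv.Perm.mem_alternatingGroup] at h ⊢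
      rw [Equiv.Perm.sign_mul, Equiv.Perm.sign_swap hpq]
      rcases Int.units_eq_one_or (Equiv.Perm.sign σ) with h1 | h1
      · exact absurd h1 h
      · rw [h1]
        rfl
    · intro x hx
      have hfx : f x ∈ s.image f := Finset.mem_image_of_mem f hx
      rw [Perm.mul_apply, hσ x hx, Equiv.swap_apply_of_ne_of_ne]
      · rintro rfl
        exact hp hfx
      · rintro rfl
        exact hq hfx

theorem exists_even_two {n : ℕ} (hn : 4 ≤ n) (z w y y' : Fin n) (hzw : z ≠ w) (hy : y ≠ y') :
    ∃ g ∈ alternatingGroup (Fin n), g z = y ∧ g w = y' := by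
  obtain ⟨g, hg, hgs⟩ := exists_even_extend ({z, w} : Finset (Fin n))
    (fun x => if x = z then y else y')
    (by
      intro a ha b hb hab
      simp only [Finset.coe_insert, Finset.coe_singleton, Set.mem_insert_iff,
        Set.mem_singleton_iff] at ha hb
      rcases ha with rfl | rfl <;> rcases hb with rfl | rfl
      · rfl
      · simp only [if_true, if_neg (Ne.symm hzw)] at hab
        exact absurd hab hy
      · simp only [if_true, if_neg (Ne.symm hzw)] at hab
        exact absurd hab.symm hy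
      · rfl)
    (by
      rw [Finset.card_pair hzw, Fintype.card_fin]
      omega)
  refine ⟨g, hg, ?_, ?_⟩
  · have := hgs z (by simp)
    simpa using this
  · have := hgs w (by simp)
    simpa [Ne.symm hzw] using this

end Extend

section Fibers

variable {n : ℕ}

theorem natCard_two_fiber (hn : 4 ≤ n) (z w y y' z' w' y₁ y₁' : Fin n) (hzw : z ≠ w)
    (hy : y ≠ y') (hzw' : z' ≠ w') (hy₁ : y₁ ≠ y₁') :
    Nat.card {k : alternatingGroup (Fin n) // k.1 z = y ∧ k.1 w = y'} =
    Nat.card {k : alternatingGroup (Fin n) // k.1 z' = y₁ ∧ k.1 w' = y₁'} := by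
  obtain ⟨g, hg, hg1, hg2⟩ := exists_even_two hn y y' y₁ y₁' hy hy₁
  obtain ⟨h, hh, hh1, hh2⟩ := exists_even_two hn z' w' z w hzw' hzw
  refine Nat.card_congr ?_
  refine
    { toFun := fun k => ⟨⟨g, hg⟩ * k.1 * ⟨h, hh⟩, ?_, ?_⟩
      invFun := fun k => ⟨⟨g, hg⟩⁻¹ * k.1 * ⟨h, hh⟩⁻¹, ?_, ?_⟩
      left_inv := fun k => Subtype.ext (by simp [mul_assoc])
      right_inv := fun k => Subtype.ext (by simp [mul_assoc]) }
  · show g (k.1.1 (h z')) = y₁
    rw [hh1, k.2.1, hg1]
  · show g (k.1.1 (h w')) = y₁'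
    rw [hh2, k.2.2, hg2]
  · show g⁻¹ (k.1.1 (h⁻¹ z)) = y
    have hz : h⁻¹ z = z' := by rw [Perm.inv_eq_iff_eq]; exact hh1.symm
    rw [hz, k.2.1, Perm.inv_eq_iff_eq]
    exact hg1.symm
  · show g⁻¹ (k.1.1 (h⁻¹ w)) = y'
    have hz : h⁻¹ w = w' := by rw [Perm.inv_eq_iff_eq]; exact hh2.symm
    rw [hz, k.2.2, Perm.inv_eq_iff_eq]
    exact hg2.symm

theorem natCard_ne (y : Fin n) : Nat.card {y' : Fin n // y' ≠ y} = n - 1 := by
  rw [Nat.card_eq_fintype_card, Fintype.card_subtype_compl, Fintype.card_subtype_eq,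
    Fintype.card_fin]

theorem exists_fiber_const (hn : 4 ≤ n) : ∃ K : ℕ,
    (∀ z w y y' : Fin n, z ≠ w → y ≠ y' →
      Nat.card {k : alternatingGroup (Fin n) // k.1 z = y ∧ k.1 w = y'} = K) ∧
    (∀ z y : Fin n, Nat.card {k : alternatingGroup (Fin n) // k.1 z = y} = (n - 1) * K) ∧
    Nat.card (alternatingGroup (Fin n)) = n * (n - 1) * K := by
  classical
  set p0 : Fin n := ⟨0, by omega⟩ with hp0
  set p1 : Fin n := ⟨1, by omega⟩ with hp1
  have h01 : p0 ≠ p1 := by
    intro h
    have := congrArg Fin.val h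
    simp [hp0, hp1] at this
  set K := Nat.card {k : alternatingGroup (Fin n) // k.1 p0 = p0 ∧ k.1 p1 = p1} with hK
  have hA : ∀ z w y y' : Fin n, z ≠ w → y ≠ y' →
      Nat.card {k : alternatingGroup (Fin n) // k.1 z = y ∧ k.1 w = y'} = K :=
    fun z w y y' hzw hy => natCard_two_fiber hn z w y y' p0 p1 p0 p1 hzw hy h01 h01
  have hB : ∀ z y : Fin n,
      Nat.card {k : alternatingGroup (Fin n) // k.1 z = y} = (n - 1) * K := by
    intro z y
    obtain ⟨w, hw⟩ : ∃ w : Fin n, z ≠ w := by
      by_cases hz : z = p0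
      · exact ⟨p1, by rw [hz]; exact h01⟩
      · exact ⟨p0, hz⟩
    have key := natCard_fiberwise (β := Fin n) {k : alternatingGroup (Fin n) | k.1 z = y}
      (fun k => k.1 w)
    have hfib : ∀ y' : Fin n, Nat.card {k : alternatingGroup (Fin n) //
        k ∈ {k : alternatingGroup (Fin n) | k.1 z = y} ∧ k.1 w = y'} =
        if y' ≠ y then K else 0 := by
      intro y'
      split_ifs with hy'
      · exact hA z w y y' hw (Ne.symm hy')
      · push Not at hy'
        rw [Nat.card_eq_zero]
        left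
        constructor
        rintro ⟨k, hk1, hk2⟩
        have hk1' : k.1 z = y := hk1
        rw [hy', ← hk1'] at hk2
        exact hw (k.1.injective hk2).symm
    simp_rw [hfib] at key
    rw [sum_ite_mem, natCard_ne] at key
    exact key
  refine ⟨K, hA, hB, ?_⟩
  have key := natCard_fiberwise (β := Fin n) (Set.univ : Set (alternatingGroup (Fin n)))
    (fun k => k.1 p0)
  have hfib : ∀ y : Fin n, Nat.card {k : alternatingGroup (Fin n) //
      k ∈ (Set.univ : Set (alternatingGroup (Fin n))) ∧ k.1 p0 = y} = (n - 1) * K := by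
    intro y
    rw [← hB p0 y]
    exact Nat.card_congr (Equiv.subtypeEquivRight (fun k => by simp))
  simp_rw [hfib] at key
  rw [Finset.sum_const, Finset.card_univ, Fintype.card_fin, smul_eq_mul,
    Nat.card_congr (Equiv.Set.univ _)] at key
  rw [key, mul_assoc]

end Fibers

section Agree

/-- The number of points where two permutations agree. -/
def agree {α : Type*} [Fintype α] [DecidableEq α] (c b : Perm α) : ℕ :=
  (Finset.univ.filter (fun x => c x = b x)).card

theorem agree_comm {α : Type*} [Fintype α] [DecidableEq α] (c b : Perm α) :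
    agree c b = agree b c := by
  unfold agree
  congr 1
  ext x
  simp only [Finset.mem_filter, Finset.mem_univ, true_and]
  exact eq_comm

theorem agree_conj {α : Type*} [Fintype α] [DecidableEq α] (c b k : Perm α) :
    agree c (k * b * k⁻¹) = agree (k⁻¹ * c * k) b := by
  unfold agree
  refine Finset.card_bij' (fun x _ => k⁻¹ x) (fun z _ => k z) ?_ ?_ ?_ ?_
  · intro x hx
    simp only [Finset.mem_filter, Finset.mem_univ, true_and] at hx ⊢
    simp only [Perm.mul_apply, Perm.coe_inv, Equiv.apply_symm_apply] at hx ⊢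
    rw [hx, Equiv.symm_apply_apply]
  · intro z hz
    simp only [Finset.mem_filter, Finset.mem_univ, true_and] at hz ⊢
    simp only [Perm.mul_apply, Perm.coe_inv, Equiv.symm_apply_apply] at hz ⊢
    rw [← hz, Equiv.apply_symm_apply]
  · intro x _
    simp
  · intro z _
    simp

theorem agree_eq_natCard {α : Type*} [Fintype α] [DecidableEq α] (c b : Perm α) :
    agree c b = Nat.card {x : α // c x = b x} := by
  rw [Nat.card_eq_fintype_card, Fintype.card_subtype]
  rfl

theorem agree_le_of_subset {α : Type*} [Fintype α] [DecidableEq α] (c b : Perm α) (t : Finset α)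
    (ht : ∀ x ∈ t, c x = b x) : t.card ≤ agree c b := by
  unfold agree
  apply Finset.card_le_card
  intro x hx
  simp only [Finset.mem_filter, Finset.mem_univ, true_and]
  exact ht x hx

variable {n : ℕ}

theorem sum_agree_conj (c b : Perm (Fin n)) (K : ℕ)
    (hA : ∀ z w y y' : Fin n, z ≠ w → y ≠ y' →
      Nat.card {k : alternatingGroup (Fin n) // k.1 z = y ∧ k.1 w = y'} = K)
    (hB : ∀ z y : Fin n, Nat.card {k : alternatingGroup (Fin n) // k.1 z = y} = (n - 1) * K) :
    ∑ k : alternatingGroup (Fin n), agree c (k.1 * b * k.1⁻¹) =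
      (agree c 1 * agree b 1 * (n - 1) + (n - agree c 1) * (n - agree b 1)) * K := by
  classical
  have h1 : ∀ k : alternatingGroup (Fin n), agree c (k.1 * b * k.1⁻¹) =
      ∑ z : Fin n, if c (k.1 z) = k.1 (b z) then 1 else 0 := by
    intro k
    unfold agree
    rw [Finset.card_filter]
    rw [← Equiv.sum_comp k.1 (fun x => if c x = (k.1 * b * k.1⁻¹) x then 1 else 0)]
    refine Finset.sum_congr rfl (fun z _ => ?_)
    simp only [Perm.mul_apply, Perm.coe_inv, Equiv.symm_apply_apply]
  simp_rw [h1]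
  rw [Finset.sum_comm]
  have hu : Nat.card {y : Fin n // c y = y} = agree c 1 := by
    rw [agree_eq_natCard]
    rfl
  have hu' : Nat.card {y : Fin n // ¬ c y = y} = n - agree c 1 := by
    rw [← hu, Nat.card_eq_fintype_card, Nat.card_eq_fintype_card, Fintype.card_subtype_compl,
      Fintype.card_fin]
  have h2 : ∀ z : Fin n, (∑ k : alternatingGroup (Fin n),
      if c (k.1 z) = k.1 (b z) then 1 else 0) =
      if b z = z then agree c 1 * ((n - 1) * K) else (n - agree c 1) * K := by
    intro z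
    rw [sum_ite_mem, mul_one]
    have key := natCard_fiberwise (β := Fin n)
      {k : alternatingGroup (Fin n) | c (k.1 z) = k.1 (b z)} (fun k => k.1 z)
    have key' : Nat.card {k : alternatingGroup (Fin n) // c (k.1 z) = k.1 (b z)} =
        ∑ y : Fin n, Nat.card {k : alternatingGroup (Fin n) //
          k ∈ {k : alternatingGroup (Fin n) | c (k.1 z) = k.1 (b z)} ∧ k.1 z = y} := key
    rw [key']
    split_ifs with hbz
    · have hfib : ∀ y : Fin n, Nat.card {k : alternatingGroup (Fin n) //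
          k ∈ {k : alternatingGroup (Fin n) | c (k.1 z) = k.1 (b z)} ∧ k.1 z = y} =
          if c y = y then (n - 1) * K else 0 := by
        intro y
        split_ifs with hcy
        · rw [← hB z y]
          refine Nat.card_congr (Equiv.subtypeEquivRight (fun k => ?_))
          constructor
          · exact fun h => h.2
          · intro h
            refine ⟨?_, h⟩
            show c (k.1 z) = k.1 (b z)
            rw [hbz, h, hcy]
        · rw [Nat.card_eq_zero]
          left
          constructor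
          rintro ⟨k, hk1, hk2⟩
          have hk1' : c (k.1 z) = k.1 (b z) := hk1
          rw [hbz, hk2] at hk1'
          exact hcy hk1'
      simp_rw [hfib]
      rw [sum_ite_mem, hu]
    · have hfib : ∀ y : Fin n, Nat.card {k : alternatingGroup (Fin n) //
          k ∈ {k : alternatingGroup (Fin n) | c (k.1 z) = k.1 (b z)} ∧ k.1 z = y} =
          if ¬ c y = y then K else 0 := by
        intro y
        split_ifs with hcy
        · rw [Nat.card_eq_zero]
          left
          constructor
          rintro ⟨k, hk1, hk2⟩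
          have hk1' : c (k.1 z) = k.1 (b z) := hk1
          rw [hk2, hcy, ← hk2] at hk1'
          exact hbz (k.1.injective hk1').symm
        · rw [← hA z (b z) y (c y) (Ne.symm hbz) (Ne.symm hcy)]
          refine Nat.card_congr (Equiv.subtypeEquivRight (fun k => ?_))
          constructor
          · rintro ⟨hk1, hk2⟩
            have hk1' : c (k.1 z) = k.1 (b z) := hk1
            exact ⟨hk2, by rw [← hk1', hk2]⟩
          · rintro ⟨hk1, hk2⟩
            refine ⟨?_, hk1⟩
            show c (k.1 z) = k.1 (b z)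
            rw [hk1, hk2]
      simp_rw [hfib]
      rw [sum_ite_mem, hu']
  simp_rw [h2]
  have hv : (Finset.univ.filter (fun z : Fin n => b z = z)).card = agree b 1 := rfl
  have hv' : (Finset.univ.filter (fun z : Fin n => ¬ b z = z)).card = n - agree b 1 := by
    rw [Finset.filter_not, Finset.card_univ_sdiff, Fintype.card_fin, hv]
  rw [Finset.sum_ite, Finset.sum_const, Finset.sum_const, hv, hv', smul_eq_mul, smul_eq_mul]
  ring

end Agree

section Constructions

theorem exists_perm_fin {α : Type*} [DecidableEq α] (m : ℕ) (z y : Fin m → α)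
    (hz : Function.Injective z) (hy : Function.Injective y) :
    ∃ g : Perm α, ∀ i, g (z i) = y i := by
  classical
  rcases Nat.eq_zero_or_pos m with rfl | hm
  · exact ⟨1, fun i => i.elim0⟩
  · have : Nonempty (Fin m) := ⟨⟨0, hm⟩⟩
    obtain ⟨g, hg⟩ := exists_perm_extend (Finset.univ.image z)
      (fun a => y (Function.invFun z a))
      (by
        intro a ha b hb hab
        simp only [Finset.coe_image, Finset.coe_univ, Set.image_univ, Set.mem_range] at ha hb
        obtain ⟨i, rfl⟩ := ha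
        obtain ⟨j, rfl⟩ := hb
        simp only [Function.leftInverse_invFun hz i, Function.leftInverse_invFun hz j] at hab
        rw [hy hab])
    refine ⟨g, fun i => ?_⟩
    rw [hg (z i) (Finset.mem_image_of_mem z (Finset.mem_univ i)), Function.leftInverse_invFun hz i]

theorem exists_even_fin {n : ℕ} (m : ℕ) (z y : Fin m → Fin n) (hz : Function.Injective z)
    (hy : Function.Injective y) (hm : m + 2 ≤ n) :
    ∃ g ∈ alternatingGroup (Fin n), ∀ i, g (z i) = y i := by
  classical
  rcases Nat.eq_zero_or_pos m with rfl | hm0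
  · exact ⟨1, Subgroup.one_mem _, fun i => i.elim0⟩
  · have : Nonempty (Fin m) := ⟨⟨0, hm0⟩⟩
    obtain ⟨g, hgA, hg⟩ := exists_even_extend (Finset.univ.image z)
      (fun a => y (Function.invFun z a))
      (by
        intro a ha b hb hab
        simp only [Finset.coe_image, Finset.coe_univ, Set.image_univ, Set.mem_range] at ha hb
        obtain ⟨i, rfl⟩ := ha
        obtain ⟨j, rfl⟩ := hb
        simp only [Function.leftInverse_invFun hz i, Function.leftInverse_invFun hz j] at hab
        rw [hy hab])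
      (by
        rw [Finset.card_image_of_injective _ hz, Finset.card_univ, Fintype.card_fin,
          Fintype.card_fin]
        exact hm)
    refine ⟨g, hgA, fun i => ?_⟩
    rw [hg (z i) (Finset.mem_image_of_mem z (Finset.mem_univ i)), Function.leftInverse_invFun hz i]

theorem injective_vec3 {α : Type*} (a b c : α) (hab : a ≠ b) (hac : a ≠ c) (hbc : b ≠ c) :
    Function.Injective ![a, b, c] := by
  intro i j h
  fin_cases i <;> fin_cases j <;> simp_all

theorem injective_vec4 {α : Type*} (a b c d : α) (hab : a ≠ b) (hac : a ≠ c) (had : a ≠ d)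
    (hbc : b ≠ c) (hbd : b ≠ d) (hcd : c ≠ d) : Function.Injective ![a, b, c, d] := by
  intro i j h
  fin_cases i <;> fin_cases j <;> simp_all

theorem two_le_agree {α : Type*} [Fintype α] [DecidableEq α] (c b k : Perm α) (z₁ z₂ : α)
    (hz : z₁ ≠ z₂) (h1 : k (b z₁) = c (k z₁)) (h2 : k (b z₂) = c (k z₂)) :
    2 ≤ agree c (k * b * k⁻¹) := by
  have h := agree_le_of_subset c (k * b * k⁻¹) {k z₁, k z₂} (by
    intro x hx
    rw [Finset.mem_insert, Finset.mem_singleton] at hx
    rcases hx with rfl | rfl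
    · simp [h1]
    · simp [h2])
  rw [Finset.card_pair (fun h => hz (k.injective h))] at h
  exact h

variable {n : ℕ}

theorem moved_card (c : Perm (Fin n)) :
    (Finset.univ.filter (fun x : Fin n => c x ≠ x)).card = n - agree c 1 := by
  have h : (Finset.univ.filter (fun x : Fin n => c x = x)).card = agree c 1 := rfl
  rw [Finset.filter_not, Finset.card_univ_sdiff, Fintype.card_fin, h]

theorem agree_one_le (c : Perm (Fin n)) : agree c 1 ≤ n := by
  have h : (Finset.univ.filter (fun x : Fin n => c x = x)).card = agree c 1 := rfl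
  rw [← h]
  exact (Finset.card_le_univ _).trans (by rw [Fintype.card_fin])

theorem agree_one_add_two_le (c : Perm (Fin n)) (hc : c ≠ 1) : agree c 1 + 2 ≤ n := by
  obtain ⟨x, hx⟩ : ∃ x, c x ≠ x := by
    by_contra hcon
    push Not at hcon
    exact hc (Equiv.ext hcon)
  have h1 : ({x, c x} : Finset (Fin n)) ⊆ Finset.univ.filter (fun x : Fin n => c x ≠ x) := by
    intro y hy
    rw [Finset.mem_insert, Finset.mem_singleton] at hy
    simp only [Finset.mem_filter, Finset.mem_univ, true_and]
    rcases hy with rfl | rfl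
    · exact hx
    · exact fun h => hx (c.injective h)
  have h2 := Finset.card_le_card h1
  rw [Finset.card_pair (Ne.symm hx), moved_card] at h2
  have h3 := agree_one_le c
  omega

/-- Common fixed points plus one moved agreement. -/
theorem exists_agree_fixed (hn : 5 ≤ n) (c b : Perm (Fin n)) (hc : c ≠ 1) (hb : b ≠ 1)
    (hv : 1 ≤ agree b 1) (huv : agree b 1 ≤ agree c 1) :
    ∃ k ∈ alternatingGroup (Fin n), agree b 1 + 1 ≤ agree c (k * b * k⁻¹) := by
  classical
  set Fb : Finset (Fin n) := Finset.univ.filter (fun x : Fin n => b x = x) with hFb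
  set Fc : Finset (Fin n) := Finset.univ.filter (fun x : Fin n => c x = x) with hFc
  have hFbcard : Fb.card = agree b 1 := rfl
  have hFccard : Fc.card = agree c 1 := rfl
  have hmemFb : ∀ x, x ∈ Fb ↔ b x = x := fun x => by simp [hFb]
  have hmemFc : ∀ x, x ∈ Fc ↔ c x = x := fun x => by simp [hFc]
  obtain ⟨z₁, hz₁⟩ : ∃ x, b x ≠ x := by
    by_contra hcon
    push Not at hcon
    exact hb (Equiv.ext hcon)
  obtain ⟨x₁, hx₁⟩ : ∃ x, c x ≠ x := by
    by_contra hcon
    push Not at hcon
    exact hc (Equiv.ext hcon)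
  have hw₁ : b (b z₁) ≠ b z₁ := fun h => hz₁ (b.injective h)
  have hy₁ : c (c x₁) ≠ c x₁ := fun h => hx₁ (c.injective h)
  -- an injection of the fixed points of `b` into those of `c`
  obtain ⟨j⟩ : Nonempty ({x // x ∈ Fb} ↪ {x // x ∈ Fc}) :=
    Function.Embedding.nonempty_of_card_le (by
      rw [Fintype.card_coe, Fintype.card_coe, hFbcard, hFccard]
      exact huv)
  set f : Fin n → Fin n := fun x =>
    if x = z₁ then x₁ else if x = b z₁ then c x₁ else
      if h : x ∈ Fb then (j ⟨x, h⟩ : Fin n) else x with hf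
  have hfz : f z₁ = x₁ := by simp [hf]
  have hfw : f (b z₁) = c x₁ := by simp [hf, hz₁]
  have hfF : ∀ x (h : x ∈ Fb), f x = (j ⟨x, h⟩ : Fin n) := by
    intro x h
    have h1 : x ≠ z₁ := by
      rintro rfl
      exact hz₁ ((hmemFb _).mp h)
    have h2 : x ≠ b z₁ := by
      rintro rfl
      exact hw₁ ((hmemFb _).mp h)
    simp [hf, h1, h2, h]
  have hfFc : ∀ x, x ∈ Fb → f x ∈ Fc := by
    intro x h
    rw [hfF x h]
    exact (j ⟨x, h⟩).2
  have hx₁Fc : x₁ ∉ Fc := fun h => hx₁ ((hmemFc _).mp h)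
  have hy₁Fc : c x₁ ∉ Fc := fun h => hy₁ ((hmemFc _).mp h)
  set s : Finset (Fin n) := insert z₁ (insert (b z₁) Fb) with hs
  have hinj : Set.InjOn f (s : Set (Fin n)) := by
    intro a ha a' ha' haa
    simp only [hs, Finset.coe_insert, Set.mem_insert_iff, Finset.mem_coe] at ha ha'
    rcases ha with rfl | rfl | ha <;> rcases ha' with rfl | rfl | ha'
    · rfl
    · rw [hfz, hfw] at haa
      exact absurd haa.symm hx₁
    · rw [hfz] at haa
      exact absurd (haa ▸ hfFc _ ha') hx₁Fc
    · rw [hfz, hfw] at haa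
      exact absurd haa hx₁
    · rfl
    · rw [hfw] at haa
      exact absurd (haa ▸ hfFc _ ha') hy₁Fc
    · rw [hfz] at haa
      exact absurd (haa.symm ▸ hfFc _ ha) hx₁Fc
    · rw [hfw] at haa
      exact absurd (haa.symm ▸ hfFc _ ha) hy₁Fc
    · rw [hfF a ha, hfF a' ha'] at haa
      have := j.injective (Subtype.ext haa)
      exact congrArg Subtype.val this
  have hscard : s.card = agree b 1 + 2 := by
    rw [hs, Finset.card_insert_of_notMem, Finset.card_insert_of_notMem, hFbcard]
    · exact fun h => hw₁ ((hmemFb _).mp h)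
    · rw [Finset.mem_insert]
      rintro (h | h)
      · exact hz₁ h.symm
      · exact hz₁ ((hmemFb _).mp h)
  -- the conjugating element
  have hk : ∃ k ∈ alternatingGroup (Fin n), (∀ x ∈ Fb, k x ∈ Fc) ∧ k z₁ = x₁ ∧ k (b z₁) = c x₁ := by
    by_cases hu2 : 2 ≤ agree c 1
    · obtain ⟨σ, hσ⟩ := exists_perm_extend s f hinj
      have hσz : σ z₁ = x₁ := by rw [hσ z₁ (by simp [hs]), hfz]
      have hσw : σ (b z₁) = c x₁ := by rw [hσ (b z₁) (by simp [hs]), hfw]
      have hσF : ∀ x ∈ Fb, σ x ∈ Fc := by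
        intro x hx
        rw [hσ x (by simp [hs, hx])]
        exact hfFc x hx
      by_cases hσA : σ ∈ alternatingGroup (Fin n)
      · exact ⟨σ, hσA, hσF, hσz, hσw⟩
      · obtain ⟨p, hp, q, hq, hpq⟩ := Finset.one_lt_card.mp (by rw [hFccard]; omega : 1 < Fc.card)
        refine ⟨Equiv.swap p q * σ, ?_, ?_, ?_, ?_⟩
        · rw [Equiv.Perm.mem_alternatingGroup] at hσA ⊢
          rw [Equiv.Perm.sign_mul, Equiv.Perm.sign_swap hpq]
          rcases Int.units_eq_one_or (Equiv.Perm.sign σ) with h1 | h1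
          · exact absurd h1 hσA
          · rw [h1]
            rfl
        · intro x hx
          rw [Perm.mul_apply]
          have h1 := hσF x hx
          by_cases h2 : σ x = p
          · rw [h2, Equiv.swap_apply_left]
            exact hq
          · by_cases h3 : σ x = q
            · rw [h3, Equiv.swap_apply_right]
              exact hp
            · rw [Equiv.swap_apply_of_ne_of_ne h2 h3]
              exact h1
        · rw [Perm.mul_apply, hσz, Equiv.swap_apply_of_ne_of_ne]
          · rintro rfl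
            exact hx₁Fc hp
          · rintro rfl
            exact hx₁Fc hq
        · rw [Perm.mul_apply, hσw, Equiv.swap_apply_of_ne_of_ne]
          · rintro rfl
            exact hy₁Fc hp
          · rintro rfl
            exact hy₁Fc hq
    · obtain ⟨k, hkA, hk⟩ := exists_even_extend s f hinj (by
        rw [hscard, Fintype.card_fin]
        omega)
      refine ⟨k, hkA, ?_, ?_, ?_⟩
      · intro x hx
        rw [hk x (by simp [hs, hx])]
        exact hfFc x hx
      · rw [hk z₁ (by simp [hs]), hfz]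
      · rw [hk (b z₁) (by simp [hs]), hfw]
  obtain ⟨k, hkA, hkF, hkz, hkw⟩ := hk
  refine ⟨k, hkA, ?_⟩
  have h := agree_le_of_subset c (k * b * k⁻¹) (insert x₁ (Fb.image k)) (by
    intro x hx
    rw [Finset.mem_insert, Finset.mem_image] at hx
    rcases hx with hx | ⟨z, hz, rfl⟩
    · have hinv : k⁻¹ x₁ = z₁ := by rw [Perm.inv_eq_iff_eq]; exact hkz.symm
      rw [hx, Perm.mul_apply, Perm.mul_apply, hinv, hkw]
    · have h1 := (hmemFc _).mp (hkF z hz)
      have h2 := (hmemFb _).mp hz
      simp [h1, h2])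
  rw [Finset.card_insert_of_notMem, Finset.card_image_of_injective _ k.injective, hFbcard] at h
  · exact h
  · rw [Finset.mem_image]
    rintro ⟨z, hz, hzx⟩
    exact hx₁Fc (hzx ▸ hkF z hz)

theorem exists_two_swaps (c : Perm (Fin n)) (hc2 : ∀ x, c (c x) = x)
    (hcm : 4 ≤ n - agree c 1) :
    ∃ x₁ x₂, x₁ ≠ c x₁ ∧ x₁ ≠ x₂ ∧ x₁ ≠ c x₂ ∧ c x₁ ≠ x₂ ∧ c x₁ ≠ c x₂ ∧ x₂ ≠ c x₂ := by
  classical
  rw [← moved_card] at hcm
  obtain ⟨x₁, hx₁⟩ := Finset.card_pos.mp (by omega :
    0 < (Finset.univ.filter (fun x : Fin n => c x ≠ x)).card)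
  simp only [Finset.mem_filter, Finset.mem_univ, true_and] at hx₁
  obtain ⟨x₂, hx₂, hx₂'⟩ := Finset.exists_mem_notMem_of_card_lt_card
    (s := ({x₁, c x₁} : Finset (Fin n))) (t := Finset.univ.filter (fun x : Fin n => c x ≠ x))
    (lt_of_le_of_lt Finset.card_le_two (by omega))
  simp only [Finset.mem_filter, Finset.mem_univ, true_and] at hx₂
  simp only [Finset.mem_insert, Finset.mem_singleton, not_or] at hx₂'
  refine ⟨x₁, x₂, Ne.symm hx₁, Ne.symm hx₂'.1, ?_, Ne.symm hx₂'.2, ?_, Ne.symm hx₂⟩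
  · intro h
    apply hx₂'.2
    rw [h, hc2]
  · intro h
    exact hx₂'.1 (c.injective h).symm

theorem exists_two_arcs (b : Perm (Fin n)) (hb2 : ∀ z, b z ≠ z → b (b z) ≠ z)
    (hbm : 4 ≤ n - agree b 1) :
    ∃ z₁ z₂, z₁ ≠ b z₁ ∧ z₁ ≠ z₂ ∧ z₁ ≠ b z₂ ∧ b z₁ ≠ z₂ ∧ b z₁ ≠ b z₂ ∧ z₂ ≠ b z₂ := by
  classical
  rw [← moved_card] at hbm
  obtain ⟨z₁, hz₁⟩ := Finset.card_pos.mp (by omega :
    0 < (Finset.univ.filter (fun x : Fin n => b x ≠ x)).card)
  simp only [Finset.mem_filter, Finset.mem_univ, true_and] at hz₁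
  have hw₁ : b (b z₁) ≠ b z₁ := fun h => hz₁ (b.injective h)
  by_cases h3 : b (b (b z₁)) = z₁
  · obtain ⟨z₂, hz₂, hz₂'⟩ := Finset.exists_mem_notMem_of_card_lt_card
      (s := ({z₁, b z₁, b (b z₁)} : Finset (Fin n)))
      (t := Finset.univ.filter (fun x : Fin n => b x ≠ x))
      (lt_of_le_of_lt Finset.card_le_three (by omega))
    simp only [Finset.mem_filter, Finset.mem_univ, true_and] at hz₂
    simp only [Finset.mem_insert, Finset.mem_singleton, not_or] at hz₂'
    refine ⟨z₁, z₂, Ne.symm hz₁, Ne.symm hz₂'.1, ?_, Ne.symm hz₂'.2.1, ?_, Ne.symm hz₂⟩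
    · intro h
      apply hz₂'.2.2
      apply b.injective
      rw [h3, ← h]
    · intro h
      exact hz₂'.1 (b.injective h).symm
  · refine ⟨z₁, b (b z₁), Ne.symm hz₁, Ne.symm (hb2 z₁ hz₁), Ne.symm h3, Ne.symm hw₁, ?_, ?_⟩
    · intro h
      exact hb2 z₁ hz₁ (b.injective h).symm
    · intro h
      exact hw₁ (b.injective h.symm)

theorem exists_agree_two_of_invol (c b : Perm (Fin n)) (hc2 : ∀ x, c (c x) = x)
    (hcm : 4 ≤ n - agree c 1) (hb2 : ∀ z, b z ≠ z → b (b z) ≠ z) (hbm : 4 ≤ n - agree b 1) :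
    ∃ k ∈ alternatingGroup (Fin n), 2 ≤ agree c (k * b * k⁻¹) := by
  obtain ⟨x₁, x₂, hx1, hx2, hx3, hx4, hx5, hx6⟩ := exists_two_swaps c hc2 hcm
  obtain ⟨z₁, z₂, hz1, hz2, hz3, hz4, hz5, hz6⟩ := exists_two_arcs b hb2 hbm
  obtain ⟨σ, hσ⟩ := exists_perm_fin 4 ![z₁, b z₁, z₂, b z₂] ![x₁, c x₁, x₂, c x₂]
    (injective_vec4 _ _ _ _ hz1 hz2 hz3 hz4 hz5 hz6)
    (injective_vec4 _ _ _ _ hx1 hx2 hx3 hx4 hx5 hx6)
  have hσ0 : σ z₁ = x₁ := hσ 0
  have hσ1 : σ (b z₁) = c x₁ := hσ 1
  have hσ2 : σ z₂ = x₂ := hσ 2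
  have hσ3 : σ (b z₂) = c x₂ := hσ 3
  by_cases hσA : σ ∈ alternatingGroup (Fin n)
  · refine ⟨σ, hσA, two_le_agree c b σ z₁ z₂ hz2 ?_ ?_⟩
    · rw [hσ1, hσ0]
    · rw [hσ3, hσ2]
  · refine ⟨Equiv.swap x₁ (c x₁) * σ, ?_, two_le_agree c b _ z₁ z₂ hz2 ?_ ?_⟩
    · rw [Equiv.Perm.mem_alternatingGroup] at hσA ⊢
      rw [Equiv.Perm.sign_mul, Equiv.Perm.sign_swap hx1]
      rcases Int.units_eq_one_or (Equiv.Perm.sign σ) with h1 | h1
      · exact absurd h1 hσA
      · rw [h1]
        rfl
    · rw [Perm.mul_apply, Perm.mul_apply, hσ1, hσ0, Equiv.swap_apply_right,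
        Equiv.swap_apply_left, hc2]
    · rw [Perm.mul_apply, Perm.mul_apply, hσ3, hσ2,
        Equiv.swap_apply_of_ne_of_ne (Ne.symm hx3) (Ne.symm hx5),
        Equiv.swap_apply_of_ne_of_ne (Ne.symm hx2) (Ne.symm hx4)]

theorem exists_moved (c : Perm (Fin n)) (hcm : 4 ≤ n - agree c 1) : ∃ x, c x ≠ x := by
  rw [← moved_card] at hcm
  obtain ⟨x, hx⟩ := Finset.card_pos.mp (by omega :
    0 < (Finset.univ.filter (fun x : Fin n => c x ≠ x)).card)
  simp only [Finset.mem_filter, Finset.mem_univ, true_and] at hx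
  exact ⟨x, hx⟩

theorem exists_agree_two_of_three (hn : 5 ≤ n) (c b : Perm (Fin n)) (x z : Fin n)
    (hx : c x ≠ x) (hx2 : c (c x) ≠ x) (hz : b z ≠ z) (hz2 : b (b z) ≠ z) :
    ∃ k ∈ alternatingGroup (Fin n), 2 ≤ agree c (k * b * k⁻¹) := by
  have hx3 : c x ≠ c (c x) := fun h => hx (c.injective h).symm
  have hz3 : b z ≠ b (b z) := fun h => hz (b.injective h).symm
  obtain ⟨k, hkA, hk⟩ := exists_even_fin 3 ![z, b z, b (b z)] ![x, c x, c (c x)]
    (injective_vec3 _ _ _ (Ne.symm hz) (Ne.symm hz2) hz3)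
    (injective_vec3 _ _ _ (Ne.symm hx) (Ne.symm hx2) hx3) (by omega)
  have hk0 : k z = x := hk 0
  have hk1 : k (b z) = c x := hk 1
  have hk2 : k (b (b z)) = c (c x) := hk 2
  refine ⟨k, hkA, two_le_agree c b k z (b z) (Ne.symm hz) ?_ ?_⟩
  · rw [hk1, hk0]
  · rw [hk2, hk1]

theorem exists_agree_two (hn : 5 ≤ n) (c b : Perm (Fin n)) (hcm : 4 ≤ n - agree c 1)
    (hbm : 4 ≤ n - agree b 1) : ∃ k ∈ alternatingGroup (Fin n), 2 ≤ agree c (k * b * k⁻¹) := by
  obtain ⟨x₀, hx₀⟩ := exists_moved c hcm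
  obtain ⟨z₀, hz₀⟩ := exists_moved b hbm
  by_cases T2c : ∃ x, c x ≠ x ∧ c (c x) = x
  · by_cases T2b : ∃ z, b z ≠ z ∧ b (b z) = z
    · obtain ⟨x, hx, hx2⟩ := T2c
      obtain ⟨z, hz, hz2⟩ := T2b
      obtain ⟨k, hkA, hk1, hk2⟩ := exists_even_two (by omega) z (b z) x (c x) (Ne.symm hz) (Ne.symm hx)
      refine ⟨k, hkA, two_le_agree c b k z (b z) (Ne.symm hz) ?_ ?_⟩
      · rw [hk2, hk1]
      · rw [hz2, hk1, hk2, hx2]
    · push Not at T2b
      by_cases T3c : ∃ x, c x ≠ x ∧ c (c x) ≠ x
      · obtain ⟨x, hx, hx2⟩ := T3c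
        exact exists_agree_two_of_three hn c b x z₀ hx hx2 hz₀ (T2b z₀ hz₀)
      · push Not at T3c
        apply exists_agree_two_of_invol c b _ hcm T2b hbm
        intro x
        by_cases hx : c x = x
        · rw [hx, hx]
        · exact T3c x hx
  · push Not at T2c
    by_cases T3b : ∃ z, b z ≠ z ∧ b (b z) ≠ z
    · obtain ⟨z, hz, hz2⟩ := T3b
      exact exists_agree_two_of_three hn c b x₀ z hx₀ (T2c x₀ hx₀) hz hz2
    · push Not at T3b
      obtain ⟨k', hk'A, hk'⟩ := exists_agree_two_of_invol b c (by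
        intro z
        by_cases hz : b z = z
        · rw [hz, hz]
        · exact T3b z hz) hbm T2c hcm
      refine ⟨k'⁻¹, inv_mem hk'A, ?_⟩
      rw [agree_conj, inv_inv, agree_comm]
      exact hk'

end Constructions

section Main

variable {n : ℕ}

/-- For `n ≥ 5` and `c, b ≠ 1` in `S_n`, the number of agreements of `c` with the `A_n`-conjugates of
`b` is not constant. -/
theorem exists_agree_ne (hn : 5 ≤ n) (c b : Perm (Fin n)) (hc : c ≠ 1) (hb : b ≠ 1) :
    ∃ k₁ ∈ alternatingGroup (Fin n), ∃ k₂ ∈ alternatingGroup (Fin n),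
      agree c (k₁ * b * k₁⁻¹) ≠ agree c (k₂ * b * k₂⁻¹) := by
  classical
  by_contra hcon
  push Not at hcon
  have hconst : ∀ k ∈ alternatingGroup (Fin n), agree c (k * b * k⁻¹) = agree c b := by
    intro k hk
    have := hcon k hk 1 (Subgroup.one_mem _)
    simpa using this
  obtain ⟨K, hA, hB, hcard⟩ := exists_fiber_const (n := n) (by omega)
  have hsum := sum_agree_conj c b K hA hB
  have hsum' : ∑ k : alternatingGroup (Fin n), agree c (k.1 * b * k.1⁻¹) =
      n * (n - 1) * K * agree c b := by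
    rw [Finset.sum_congr rfl (fun k _ => hconst k.1 k.2), Finset.sum_const, Finset.card_univ,
      smul_eq_mul, ← Nat.card_eq_fintype_card, hcard]
  rw [hsum'] at hsum
  have hKpos : 0 < K := by
    rcases Nat.eq_zero_or_pos K with h | h
    · rw [h, mul_zero] at hcard
      have := Nat.card_pos (α := alternatingGroup (Fin n))
      omega
    · exact h
  set u := agree c 1 with hu
  set v := agree b 1 with hv
  set N := agree c b with hN
  have hun := agree_one_add_two_le c hc
  have hvn := agree_one_add_two_le b hb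
  -- the counting identity
  obtain ⟨n1, rfl⟩ : ∃ n1, n = n1 + 1 := ⟨n - 1, by omega⟩
  obtain ⟨mu, hmu⟩ : ∃ mu, n1 + 1 = u + mu := ⟨n1 + 1 - u, by omega⟩
  obtain ⟨mv, hmv⟩ : ∃ mv, n1 + 1 = v + mv := ⟨n1 + 1 - v, by omega⟩
  have hE : N * (n1 + 1) * n1 = u * v * n1 + mu * mv := by
    have h1 : n1 + 1 - 1 = n1 := by omega
    have h2 : n1 + 1 - u = mu := by omega
    have h3 : n1 + 1 - v = mv := by omega
    rw [h1, h2, h3] at hsum
    have h4 : K * (N * (n1 + 1) * n1) = K * (u * v * n1 + mu * mv) := by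
      calc K * (N * (n1 + 1) * n1) = (n1 + 1) * n1 * K * N := by ring
        _ = (u * v * n1 + mu * mv) * K := hsum
        _ = K * (u * v * n1 + mu * mv) := by ring
    exact Nat.eq_of_mul_eq_mul_left hKpos h4
  -- case analysis
  by_cases huv : 1 ≤ u ∧ 1 ≤ v
  · -- both have fixed points
    have hbound : ∀ m M mm mM : ℕ, 1 ≤ m → m ≤ M → M + 2 ≤ n1 + 1 → n1 + 1 = m + mm →
        n1 + 1 = M + mM → m + 1 ≤ N → N * (n1 + 1) * n1 = m * M * n1 + mm * mM → False := by
      intro m M mm mM hm hmM hM hmm hmM' hNm hEq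
      have h1 : (m + 1) * (n1 + 1) * n1 ≤ N * (n1 + 1) * n1 :=
        Nat.mul_le_mul_right _ (Nat.mul_le_mul_right _ hNm)
      have h2 : m * M * n1 ≤ m * (n1 - 1) * n1 :=
        Nat.mul_le_mul_right _ (Nat.mul_le_mul_left _ (by omega))
      have h3 : mm * mM ≤ n1 * n1 := Nat.mul_le_mul (by omega) (by omega)
      obtain ⟨n2, rfl⟩ : ∃ n2, n1 = n2 + 1 := ⟨n1 - 1, by omega⟩
      have h5 : n2 + 1 - 1 = n2 := by omega
      rw [h5] at h2
      nlinarith
    by_cases hvu : v ≤ u
    · obtain ⟨k, hkA, hk⟩ := exists_agree_fixed hn c b hc hb huv.2 hvu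
      rw [hconst k hkA] at hk
      exact hbound v u mv mu huv.2 hvu hun hmv hmu hk (by rw [hE]; ring)
    · obtain ⟨k, hkA, hk⟩ := exists_agree_fixed hn b c hb hc huv.1 (by omega)
      have h1 : agree b (k * c * k⁻¹) = agree c (k⁻¹ * b * k⁻¹⁻¹) := by
        rw [agree_conj c b k⁻¹, inv_inv, agree_comm]
      rw [h1, hconst k⁻¹ (inv_mem hkA)] at hk
      exact hbound u v mu mv huv.1 (by omega) hvn hmu hmv hk (by rw [hE])
  · have hcases : (u = 0 ∧ v = 0) ∨ (u = 0 ∧ 2 ≤ v) ∨ (v = 0 ∧ 2 ≤ u) ∨ (u = 0 ∧ v = 1) ∨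
        (u = 1 ∧ v = 0) := by omega
    rcases hcases with ⟨h1, h2⟩ | ⟨h1, h2⟩ | ⟨h1, h2⟩ | ⟨h1, h2⟩ | ⟨h1, h2⟩
    · -- no fixed points at all
      rw [h1, h2] at hE
      have hmu' : mu = n1 + 1 := by omega
      have hmv' : mv = n1 + 1 := by omega
      rw [hmu', hmv', zero_mul, zero_mul, zero_add] at hE
      have h3 : N * n1 = n1 + 1 := by
        have : (n1 + 1) * (N * n1) = (n1 + 1) * (n1 + 1) := by linarith
        exact Nat.eq_of_mul_eq_mul_left (by omega) this
      rcases Nat.lt_or_ge N 2 with h4 | h4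
      · interval_cases N <;> omega
      · have h5 : 2 * n1 ≤ N * n1 := Nat.mul_le_mul_right _ h4
        omega
    · rw [h1] at hE
      have hmu' : mu = n1 + 1 := by omega
      rw [hmu', zero_mul, zero_mul, zero_add] at hE
      have h3 : N * n1 = mv := by
        have : (n1 + 1) * (N * n1) = (n1 + 1) * mv := by linarith
        exact Nat.eq_of_mul_eq_mul_left (by omega) this
      rcases Nat.eq_zero_or_pos N with h4 | h4
      · rw [h4] at h3
        omega
      · have h5 : 1 * n1 ≤ N * n1 := Nat.mul_le_mul_right _ h4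
        omega
    · rw [h1] at hE
      have hmv' : mv = n1 + 1 := by omega
      rw [hmv', mul_zero, zero_mul, zero_add] at hE
      have h3 : N * n1 = mu := by
        have : (n1 + 1) * (N * n1) = (n1 + 1) * mu := by linarith
        exact Nat.eq_of_mul_eq_mul_left (by omega) this
      rcases Nat.eq_zero_or_pos N with h4 | h4
      · rw [h4] at h3
        omega
      · have h5 : 1 * n1 ≤ N * n1 := Nat.mul_le_mul_right _ h4
        omega
    · obtain ⟨k, hkA, hk⟩ := exists_agree_two hn c b (by omega) (by omega)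
      rw [hconst k hkA] at hk
      rw [h1, h2] at hE
      have hmu' : mu = n1 + 1 := by omega
      have hmv' : mv = n1 := by omega
      rw [hmu', hmv', zero_mul, zero_mul, zero_add] at hE
      have h3 : N = 1 := by
        have : (n1 + 1) * n1 * N = (n1 + 1) * n1 * 1 := by linarith
        exact Nat.eq_of_mul_eq_mul_left (Nat.mul_pos (by omega) (by omega)) this
      omega
    · obtain ⟨k, hkA, hk⟩ := exists_agree_two hn c b (by omega) (by omega)
      rw [hconst k hkA] at hk
      rw [h1, h2] at hE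
      have hmu' : mu = n1 := by omega
      have hmv' : mv = n1 + 1 := by omega
      rw [hmu', hmv', mul_zero, zero_mul, zero_add] at hE
      have h3 : N = 1 := by
        have : (n1 + 1) * n1 * N = (n1 + 1) * n1 * 1 := by linarith
        exact Nat.eq_of_mul_eq_mul_left (Nat.mul_pos (by omega) (by omega)) this
      omega

theorem natCard_fixedPoints_mul (a b' : Perm (Fin n)) :
    Nat.card (Function.fixedPoints ⇑(a * b')) = agree a⁻¹ b' := by
  rw [agree_eq_natCard]
  refine Nat.card_congr (Equiv.subtypeEquivRight (fun x => ?_))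
  rw [Function.mem_fixedPoints, Function.IsFixedPt, Perm.mul_apply, Perm.inv_eq_iff_eq]
  exact eq_comm

end Main

end Cfsg.Agent.Helper38
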