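/-
helper38: involutions of the Chevalley groups in characteristic two (generic in the datum `D` of one of the
seven types) - the subgroups generated by root elements, the reduction step of the Levi recursion
(`chi_step`) and the induction over the Levi subsystems (`chi_claim`).  This is the `D`-generic version of
`F4IDefs`/`F4IStep` (S2174), for S2175/S2176/S2181.
-/
import Cfsg.Agent.Helper38.ChevCentF4e
import Cfsg.Agent.Helper36.SbH
import Cfsg.Agent.Helper18.RSubCoc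

set_option autoImplicit false
set_option linter.unusedSectionVars false
set_option linter.unusedVariables false

namespace Cfsg.Agent.Helper38

open Cfsg Cfsg.Lie Cfsg.Agent.Helper36 Cfsg.Agent.Helper17 Cfsg.Agent.Helper18 Cfsg.Agent.Helper18.RSub

section ChInvStep

variable {D : ChevalleyDatum} {F : Type*} [Field F] {η : ℕ → ℕ → ℤ}

/-- The subgroup generated by the root elements of the roots of `P` and of their negatives. -/
def chiG (D : ChevalleyDatum) (F : Type*) [Field F] (P : List ℕ) : Subgroup (GL D.Idx F) :=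
  rootsSubgroup D F (P ++ P.map D.neg)

theorem chi_x_mem (R : BRel D F η) {L : List ℕ} {r : ℕ} (hr : r ∈ L) (t : F) :
    xGL R.xadd r t ∈ rootsSubgroup D F L :=
  Subgroup.subset_closure ⟨r, hr, t, rfl⟩

theorem chi_rs_mono {L L' : List ℕ} (h : ∀ r ∈ L, r ∈ L') :
    rootsSubgroup D F L ≤ rootsSubgroup D F L' := by
  unfold rootsSubgroup
  apply Subgroup.closure_mono
  rintro g ⟨r, hr, t, hg⟩
  exact ⟨r, h r hr, t, hg⟩

theorem chi_word_mem (R : BRel D F η) {L : List ℕ} (w : List (ℕ × F)) (hw : ∀ p ∈ w, p.1 ∈ L) :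
    wordGL R.xadd w ∈ rootsSubgroup D F L :=
  wordGL_mem R.xadd _ w (fun p hp => chi_x_mem R (hw p hp) p.2)

/-- Conjugation by a root element preserves the subgroup of a list closed under the commutator formula. -/
theorem chi_nrm (R : BRel D F η) {q : ℕ} {L : List ℕ} (hq : q < D.nroots)
    (h : ∀ s ∈ L, s < D.nroots ∧ s ≠ q ∧ s ≠ D.neg q ∧ ∀ c ∈ D.commTerms q s, c.1 ∈ L)
    (t : F) : ∀ u ∈ rootsSubgroup D F L,
      xGL R.xadd q t * u * (xGL R.xadd q t)⁻¹ ∈ rootsSubgroup D F L := by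
  apply conj_mem_closure
  rintro g ⟨s, hs, u, hg⟩
  obtain ⟨h1, h2, h3, h4⟩ := h s hs
  rw [eq_xGL R.xadd hg, xGL_conj R.xadd (R.cf q hq s h1 h2 h3)]
  refine mul_mem (chi_x_mem R hs u) (chi_word_mem R _ ?_)
  intro p hp
  unfold ChevalleyDatum.commWord at hp
  rw [List.mem_map] at hp
  obtain ⟨c, hc, rfl⟩ := hp
  exact h4 c hc

/-- `h_r(c) x_s(t) h_r(c)⁻¹ = x_s(c^⟨s,r⟩ t)`. -/
theorem chi_h_conj (hD : D ∈ [chevG2, chevB2, chevD4, chevF4, chevE6, chevE7, chevE8])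
    (R : BRel D F η) {r s : ℕ} (hr : r < D.nroots) (hs : s < D.nroots)
    {c : F} (hc : c ≠ 0) (t : F) :
    hGL R.xadd r c * xGL R.xadd s t * (hGL R.xadd r c)⁻¹ = xGL R.xadd s (c ^ D.pairing r s * t) :=
  sb_hGL_conj_x R.xadd (hDiag_of_mem hD) (chainOK_of_mem D hD)
    (cartanFacts_of_mem hD) hr hs hc t

/-- The elements `h_r(c)` normalise the subgroup of any list of roots. -/
theorem chi_hnrm (hD : D ∈ [chevG2, chevB2, chevD4, chevF4, chevE6, chevE7, chevE8])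
    (R : BRel D F η) {r : ℕ} (hr : r < D.nroots) {c : F} (hc : c ≠ 0)
    {L : List ℕ} (hL : ∀ s ∈ L, s < D.nroots) : ∀ u ∈ rootsSubgroup D F L,
      hGL R.xadd r c * u * (hGL R.xadd r c)⁻¹ ∈ rootsSubgroup D F L := by
  apply conj_mem_closure
  rintro g ⟨s, hs, u, hg⟩
  rw [eq_xGL R.xadd hg, chi_h_conj hD R hr (hL s hs) hc]
  exact chi_x_mem R hs _

/-- A word in the `n_i` maps the subgroup of `L` into the subgroup of `L'` if it maps `L` into `L'`. -/
theorem chi_wnrm (R : BRel D F η) {W : List ℕ} (hW : ValidW D W) {L L' : List ℕ}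
    (hL : ∀ s ∈ L, s < D.nroots ∧ wW D W s ∈ L') : ∀ u ∈ rootsSubgroup D F L,
      R.nW W * u * (R.nW W)⁻¹ ∈ rootsSubgroup D F L' := by
  apply conj_mem_closure
  rintro g ⟨s, hs, u, hg⟩
  rw [eq_xGL R.xadd hg, R.nW_conj_x hW (hL s hs).1]
  exact chi_x_mem R (hL s hs).2 _

/-- An element commuting with the root elements of `L` commutes with their subgroup. -/
theorem chi_commute_rs (R : BRel D F η) {g : GL D.Idx F} {L : List ℕ}
    (h : ∀ s ∈ L, ∀ t : F, Commute g (xGL R.xadd s t)) :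
    ∀ u ∈ rootsSubgroup D F L, Commute g u := by
  intro u hu
  unfold rootsSubgroup at hu
  induction hu using Subgroup.closure_induction with
  | mem x hx =>
    obtain ⟨s, hs, t, hx⟩ := hx
    rw [eq_xGL R.xadd hx]
    exact h s hs t
  | one => exact Commute.one_right g
  | mul a b _ _ ha hb => exact ha.mul_right hb
  | inv a _ ha => exact ha.inv_right

theorem chi_sqrt [Finite F] [CharP F 2] (x : F) : ∃ s : F, s ^ 2 = x := by
  obtain ⟨r, hr⟩ := FiniteField.isSquare_of_char_two (ringChar.eq F 2) x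
  exact ⟨r, by rw [hr, sq]⟩

theorem chi_n_mem (R : BRel D F η) {P : List ℕ} {i : ℕ} (hi : D.simple i ∈ P) :
    R.n i ∈ chiG D F P := by
  unfold NRel.n chiG
  rw [nGL_eq]
  have h1 : D.simple i ∈ P ++ P.map D.neg := List.mem_append_left _ hi
  have h2 : D.neg (D.simple i) ∈ P ++ P.map D.neg :=
    List.mem_append_right _ (List.mem_map_of_mem hi)
  exact mul_mem (mul_mem (chi_x_mem R h1 _) (chi_x_mem R h2 _)) (chi_x_mem R h1 _)

theorem chi_nW_mem (R : BRel D F η) {P : List ℕ} {W : List ℕ}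
    (hW : ∀ i ∈ W, D.simple i ∈ P) : R.nW W ∈ chiG D F P := by
  induction W with
  | nil => rw [NRel.nW_nil]; exact one_mem _
  | cons i W ih =>
    rw [NRel.nW_cons]
    exact mul_mem (chi_n_mem R (hW i List.mem_cons_self)) (ih fun k hk => hW k (List.mem_cons_of_mem _ hk))

theorem chi_h_mem (R : BRel D F η) {P : List ℕ} {r : ℕ} (hr : r ∈ P) (c : F) :
    hGL R.xadd r c ∈ chiG D F P := by
  unfold chiG
  rw [hGL_eq, nGL_eq, nGL_eq]
  have h1 : r ∈ P ++ P.map D.neg := List.mem_append_left _ hr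
  have h2 : D.neg r ∈ P ++ P.map D.neg := List.mem_append_right _ (List.mem_map_of_mem hr)
  exact mul_mem (mul_mem (mul_mem (chi_x_mem R h1 _) (chi_x_mem R h2 _)) (chi_x_mem R h1 _))
    (mul_mem (mul_mem (chi_x_mem R h1 _) (chi_x_mem R h2 _)) (chi_x_mem R h1 _))

theorem chi_rs_le_G (P : List ℕ) : rootsSubgroup D F P ≤ chiG D F P :=
  chi_rs_mono fun r hr => List.mem_append_left _ hr

theorem chi_G_mono {P P' : List ℕ} (h : ∀ r ∈ P', r ∈ P) : chiG D F P' ≤ chiG D F P := by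
  apply chi_rs_mono
  intro r hr
  rcases List.mem_append.mp hr with hr | hr
  · exact List.mem_append_left _ (h r hr)
  · rw [List.mem_map] at hr
    obtain ⟨s, hs, rfl⟩ := hr
    exact List.mem_append_right _ (List.mem_map_of_mem (h s hs))

theorem chi_G_le_group (R : BRel D F η) (P : List ℕ) : chiG D F P ≤ D.group F := by
  unfold chiG rootsSubgroup
  rw [Subgroup.closure_le]
  rintro g ⟨r, hr, t, hg⟩
  rw [SetLike.mem_coe, eq_xGL R.xadd hg]
  exact xGL_mem_group R.xadd r t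


/-- The lowering lemma, as a hypothesis. -/
def ChiLowS (R : BRel D F η) : Prop :=
  ∀ (A J : List ℕ), LowOK D A J → ∀ u ∈ rootsSubgroup D F A, u ≠ 1 →
    ∃ (w : List ℕ) (j : ℕ) (a : F) (u1 : GL D.Idx F), (∀ i ∈ w, i ∈ J) ∧ j ∈ J ∧ a ≠ 0 ∧
      u1 ∈ rootsSubgroup D F (A.filter fun r => decide (r ≠ D.simple j)) ∧
      R.nW w * u * (R.nW w)⁻¹ = xGL R.xadd (D.simple j) a * u1

/-- The cocycle lemma, as a hypothesis. -/
def ChiCocS (R : BRel D F η) : Prop :=
  ∀ (p : ℕ) (Fix : List ℕ) (S : List (ℕ × ℕ)), D.IsPosRoot p → StrOK D p Fix S →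
    ∀ a : F, a ≠ 0 → ∀ u1 ∈ rootsSubgroup D F (Fix ++ strRoots S),
      (xGL R.xadd p a * u1) * (xGL R.xadd p a * u1) = 1 →
      ∃ v ∈ rootsSubgroup D F (Fix ++ strRoots S), ∃ u2 ∈ rootsSubgroup D F Fix,
        v * (xGL R.xadd p a * u1) * v⁻¹ = xGL R.xadd p a * u2

/-- Every involution of the subgroup of `P` is conjugate, under the group of `P`, to a standard word. -/
def ChiClaim (R : BRel D F η) (P : List ℕ) (Ls : List (List ℕ)) : Prop :=
  ∀ u ∈ rootsSubgroup D F P, u * u = 1 →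
    ∃ g ∈ chiG D F P, ∃ l ∈ Ls, g * u * g⁻¹ = wordGL R.xadd (l.map fun r => (r, (1 : F)))

/-- The table conditions of one reduction step. -/
def ChiStepOK (D : ChevalleyDatum) (P : List ℕ) (j θ : ℕ) (W Fix : List ℕ) (S : List (ℕ × ℕ)) (P' : List ℕ)
    (Ls' Ls : List (List ℕ)) : Prop :=
  D.simple j ∈ P ∧ D.pairing (D.simple j) (D.simple j) = 2 ∧
  D.IsPosRoot (D.simple j) ∧ D.simple j < D.nroots ∧
  (∀ s ∈ P, s < D.nroots) ∧
  StrOK D (D.simple j) Fix S ∧
  (∀ r ∈ P.filter (fun r => decide (r ≠ D.simple j)), r ∈ Fix ++ strRoots S) ∧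
  (∀ r ∈ Fix ++ strRoots S, r ∈ P.filter (fun r => decide (r ≠ D.simple j))) ∧
  (∀ i ∈ W, i < D.rank) ∧ (∀ i ∈ W, D.simple i ∈ P) ∧
  wW D W (D.simple j) = θ ∧ θ < D.nroots ∧
  (∀ s ∈ Fix, s < D.nroots ∧ wW D W s ∈ P') ∧
  (∀ r ∈ P', r ∈ P) ∧
  (∀ s ∈ P' ++ P'.map D.neg, s < D.nroots ∧ s ≠ θ ∧ s ≠ D.neg θ ∧
      ∀ c ∈ D.commTerms θ s, c.2.1 % 2 = 0) ∧
  ∀ l ∈ Ls', θ :: l ∈ Ls

instance (D : ChevalleyDatum) (P : List ℕ) (j θ : ℕ) (W Fix : List ℕ) (S : List (ℕ × ℕ))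
    (P' : List ℕ) (Ls' Ls : List (List ℕ)) : Decidable (ChiStepOK D P j θ W Fix S P' Ls' Ls) := by
  unfold ChiStepOK; infer_instance

theorem chi_conj_sq {G : Type*} [Group G] {g x : G} (h : x * x = 1) :
    (g * x * g⁻¹) * (g * x * g⁻¹) = 1 := by
  have e : (g * x * g⁻¹) * (g * x * g⁻¹) = g * (x * x) * g⁻¹ := by group
  rw [e, h]; group

theorem chi_x_sq [CharP F 2] (R : BRel D F η) (r : ℕ) (t : F) :
    xGL R.xadd r t * xGL R.xadd r t = 1 := by
  rw [xGL_mul, CharTwo.add_self_eq_zero, xGL_zero]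

/-- The reduction step. -/
theorem chi_step [Finite F] [CharP F 2]
    (hD : D ∈ [chevG2, chevB2, chevD4, chevF4, chevE6, chevE7, chevE8]) (R : BRel D F η) (hC : ChiCocS R)
    {P : List ℕ} {j θ : ℕ} {W Fix : List ℕ} {S : List (ℕ × ℕ)} {P' : List ℕ}
    {Ls' Ls : List (List ℕ)} (hok : ChiStepOK D P j θ W Fix S P' Ls' Ls) (hcl : ChiClaim R P' Ls')
    (a : F) (ha : a ≠ 0) (u1 : GL D.Idx F)
    (hu1 : u1 ∈ rootsSubgroup D F (P.filter fun r => decide (r ≠ D.simple j)))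
    (hinv : (xGL R.xadd (D.simple j) a * u1) * (xGL R.xadd (D.simple j) a * u1) = 1) :
    ∃ g ∈ chiG D F P, ∃ l ∈ Ls, g * (xGL R.xadd (D.simple j) a * u1) * g⁻¹ =
      wordGL R.xadd (l.map fun r => (r, (1 : F))) := by
  obtain ⟨hpP, hpair, hpos, hplt, hPlt, hStr, hsub1, hsub2, hWv, hWP, hWθ, hθlt, hFix, hP'P, hcent, hLs⟩ := hok
  set p := D.simple j with hp
  have hcongr : rootsSubgroup D F (P.filter fun r => decide (r ≠ p)) =
      rootsSubgroup D F (Fix ++ strRoots S) :=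
    rootsSubgroup_congr fun r => ⟨hsub1 r, hsub2 r⟩
  have hfl : ∀ s ∈ P.filter (fun r => decide (r ≠ p)), s < D.nroots :=
    fun s hs => hPlt s (List.mem_of_mem_filter hs)
  -- scaling
  obtain ⟨c, hc⟩ := chi_sqrt a⁻¹
  have hc0 : c ≠ 0 := by
    rintro rfl
    rw [zero_pow (by norm_num)] at hc
    exact inv_ne_zero ha hc.symm
  set h := hGL R.xadd p c with hh
  have hhm : h ∈ chiG D F P := chi_h_mem R hpP c
  have e1 : h * xGL R.xadd p a * h⁻¹ = xGL R.xadd p 1 := by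
    rw [hh, chi_h_conj hD R hplt hplt hc0, hpair]
    congr 1
    have : (c : F) ^ (2 : ℤ) = c ^ 2 := by norm_cast
    rw [this, hc, inv_mul_cancel₀ ha]
  set u1' := h * u1 * h⁻¹ with hu1'
  have hu1'm : u1' ∈ rootsSubgroup D F (Fix ++ strRoots S) := by
    rw [← hcongr]
    exact chi_hnrm hD R hplt hc0 hfl u1 hu1
  have e2 : h * (xGL R.xadd p a * u1) * h⁻¹ = xGL R.xadd p 1 * u1' := by
    rw [← e1, hu1']; group
  have hinv2 : (xGL R.xadd p 1 * u1') * (xGL R.xadd p 1 * u1') = 1 := by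
    rw [← e2]; exact chi_conj_sq hinv
  -- cocycle
  obtain ⟨v, hv, u2, hu2, e3⟩ := hC p Fix S hpos hStr 1 one_ne_zero u1' hu1'm hinv2
  have hvm : v ∈ chiG D F P := by
    rw [← hcongr] at hv
    exact chi_rs_le_G P (chi_rs_mono (fun r hr => List.mem_of_mem_filter hr) hv)
  -- the Weyl word
  have hWV : ValidW D W := hWv
  set n := R.nW W with hn
  have hnm : n ∈ chiG D F P := chi_nW_mem R hWP
  have hsgn : ((eW D η W p : ℤ) : F) = 1 := by
    rcases R.eW_sgn hWV hplt with h1 | h1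
    · rw [h1]; simp
    · rw [h1]; simp [CharTwo.neg_eq]
  have e4 : n * xGL R.xadd p 1 * n⁻¹ = xGL R.xadd θ 1 := by
    rw [hn, R.nW_conj_x hWV hplt, hWθ, hsgn, mul_one]
  set u3 := n * u2 * n⁻¹ with hu3
  have hu3m : u3 ∈ rootsSubgroup D F P' := chi_wnrm R hWV hFix u2 hu2
  have e5 : n * (xGL R.xadd p 1 * u2) * n⁻¹ = xGL R.xadd θ 1 * u3 := by
    rw [← e4, hu3]; group
  have hinv3 : (xGL R.xadd θ 1 * u3) * (xGL R.xadd θ 1 * u3) = 1 := by
    rw [← e5, ← e3]; exact chi_conj_sq (chi_conj_sq hinv2)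
  -- `x_θ(1)` commutes with the group of `P'`
  have hcomm : ∀ g ∈ chiG D F P', Commute (xGL R.xadd θ 1) g := by
    apply chi_commute_rs R
    intro s hs t
    obtain ⟨h1, h2, h3, h4⟩ := hcent s hs
    have := chCentG_comm_even R hθlt h1 h2 h3
      (fun c hc => Int.dvd_of_emod_eq_zero (h4 c hc)) (1 : F) t
    show xGL R.xadd θ 1 * xGL R.xadd s t = xGL R.xadd s t * xGL R.xadd θ 1
    calc xGL R.xadd θ 1 * xGL R.xadd s t
        = (xGL R.xadd θ 1 * xGL R.xadd s t * (xGL R.xadd θ 1)⁻¹) * xGL R.xadd θ 1 := by group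
      _ = xGL R.xadd s t * xGL R.xadd θ 1 := by rw [this]
  have hc3 : Commute (xGL R.xadd θ 1) u3 := hcomm u3 (chi_rs_le_G P' hu3m)
  have hu3sq : u3 * u3 = 1 := by
    have e : (xGL R.xadd θ 1 * u3) * (xGL R.xadd θ 1 * u3) =
        (xGL R.xadd θ 1 * xGL R.xadd θ 1) * (u3 * u3) := by
      rw [mul_assoc, ← mul_assoc u3, ← hc3.eq]; group
    rw [e, chi_x_sq R, one_mul] at hinv3
    exact hinv3
  -- the recursion
  obtain ⟨g', hg', l, hl, e6⟩ := hcl u3 hu3m hu3sq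
  have hcg : Commute (xGL R.xadd θ 1) g' := hcomm g' hg'
  refine ⟨g' * n * v * h, mul_mem (mul_mem (mul_mem (chi_G_mono hP'P hg') hnm) hvm) hhm,
    θ :: l, hLs l hl, ?_⟩
  have e7 : g' * n * v * h * (xGL R.xadd p a * u1) * (g' * n * v * h)⁻¹ =
      g' * (n * (v * (h * (xGL R.xadd p a * u1) * h⁻¹) * v⁻¹) * n⁻¹) * g'⁻¹ := by group
  rw [e7, e2, e3, e5, List.map_cons, wordGL_cons, ← e6]
  calc g' * (xGL R.xadd θ 1 * u3) * g'⁻¹ = (g' * xGL R.xadd θ 1) * u3 * g'⁻¹ := by group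
    _ = (xGL R.xadd θ 1 * g') * u3 * g'⁻¹ := by rw [hcg.eq]
    _ = xGL R.xadd θ 1 * (g' * u3 * g'⁻¹) := by group

/-- The induction step over a Levi subsystem. -/
theorem chi_claim [Finite F] [CharP F 2]
    (hD : D ∈ [chevG2, chevB2, chevD4, chevF4, chevE6, chevE7, chevE8]) (R : BRel D F η)
    (hL : ChiLowS R) (hC : ChiCocS R)
    (P J : List ℕ) (Ls : List (List ℕ)) (hLow : LowOK D P J) (hnil : [] ∈ Ls)
    (hJ : ∀ i ∈ J, D.simple i ∈ P)
    (hstep : ∀ j ∈ J, ∃ (θ : ℕ) (W Fix : List ℕ) (S : List (ℕ × ℕ)) (P' : List ℕ)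
      (Ls' : List (List ℕ)), ChiStepOK D P j θ W Fix S P' Ls' Ls ∧ ChiClaim R P' Ls') :
    ChiClaim R P Ls := by
  intro u hu husq
  by_cases hu1 : u = 1
  · refine ⟨1, one_mem _, [], hnil, ?_⟩
    rw [hu1]; simp [wordGL_nil]
  · obtain ⟨w, j, a, u1, hw, hj, ha, hu1m, e⟩ := hL P J hLow u hu hu1
    obtain ⟨θ, W, Fix, S, P', Ls', hok, hcl⟩ := hstep j hj
    have hinv : (xGL R.xadd (D.simple j) a * u1) * (xGL R.xadd (D.simple j) a * u1) = 1 := by
      rw [← e]; exact chi_conj_sq husq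
    obtain ⟨g, hg, l, hl, e2⟩ := chi_step hD R hC hok hcl a ha u1 hu1m hinv
    refine ⟨g * R.nW w, mul_mem hg (chi_nW_mem R fun i hi => hJ i (hw i hi)), l, hl, ?_⟩
    rw [← e2, ← e]; group

/-- The base of the recursion: the empty subsystem. -/
theorem chi_claim_nil (R : BRel D F η) : ChiClaim R [] [[]] := by
  intro u hu _
  have h1 : u = 1 := by
    unfold rootsSubgroup at hu
    have hb : Subgroup.closure {g : GL D.Idx F | ∃ r ∈ ([] : List ℕ), ∃ t : F,
        (g : Matrix D.Idx D.Idx F) = D.x F r t} = ⊥ := by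
      rw [Subgroup.closure_eq_bot_iff]
      rintro g ⟨r, hr, _⟩
      exact absurd hr List.not_mem_nil
    rw [hb, Subgroup.mem_bot] at hu
    exact hu
  refine ⟨1, one_mem _, [], List.mem_singleton.mpr rfl, ?_⟩
  rw [h1]; simp [wordGL_nil]


/-- The lowering hypothesis, from Helper18's `lower_simple`. -/
theorem chi_lowS {f : ℕ → ℤ} (R : BRel D F η) (hW : WtFacts D f) (hE : RootElts D F) : ChiLowS R :=
  fun A J h u hu hu1 => lower_simple R hW hE A J h hu hu1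

/-- The cocycle hypothesis, from Helper18's `invol_cocycle`. -/
theorem chi_cocS [CharP F 2] {f : ℕ → ℤ} (R : BRel D F η) (hW : WtFacts D f) (hE : RootElts D F) :
    ChiCocS R :=
  fun p Fix S hp hS a ha u1 hu1 hinv => invol_cocycle R hW hE p Fix S hp hS a ha u1 hu1 hinv

end ChInvStep

end Cfsg.Agent.Helper38
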