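/-
helper38: involutions of the Chevalley groups in characteristic two (generic in the datum `D`) - fusion of
words of root elements with all parameters `1`: by a word of the Weyl group (symbolic), by a permutation of
commuting letters, and by a conjugating word of root elements (characteristic-two word check).
-/
import Cfsg.Agent.Helper38.ChInvStep
import Cfsg.Agent.Helper38.F4IFck

set_option autoImplicit false
set_option linter.unusedSectionVars false
set_option linter.unusedVariables false

namespace Cfsg.Agent.Helper38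

open Cfsg Cfsg.Lie Cfsg.Agent.Helper36 Cfsg.Agent.Helper17 Cfsg.Agent.Helper18

section ChInvFus

variable {D : ChevalleyDatum} {F : Type*} [Field F] {η : ℕ → ℕ → ℤ}

/-- The word of `l` is conjugate in the group to the word of `y` (all parameters `1`). -/
def ChiFus (R : BRel D F η) (l y : List ℕ) : Prop :=
  ∃ g ∈ D.group F, g * wordGL R.xadd (l.map fun r => (r, (1 : F))) * g⁻¹ =
    wordGL R.xadd (y.map fun r => (r, (1 : F)))

theorem chi_fus_refl (R : BRel D F η) (l : List ℕ) : ChiFus R l l :=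
  ⟨1, one_mem _, by simp⟩

theorem chi_fus_trans (R : BRel D F η) {l m y : List ℕ} (h1 : ChiFus R l m) (h2 : ChiFus R m y) :
    ChiFus R l y := by
  obtain ⟨g1, hg1, e1⟩ := h1
  obtain ⟨g2, hg2, e2⟩ := h2
  refine ⟨g2 * g1, mul_mem hg2 hg1, ?_⟩
  rw [← e2, ← e1]; group

/-- The table condition for two root elements to commute in characteristic two. -/
def ChiComm (D : ChevalleyDatum) (r s : ℕ) : Prop :=
  r = s ∨ (r < D.nroots ∧ s < D.nroots ∧ s ≠ r ∧ s ≠ D.neg r ∧ ∀ c ∈ D.commTerms r s, c.2.1 % 2 = 0)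

instance (D : ChevalleyDatum) (r s : ℕ) : Decidable (ChiComm D r s) := by
  unfold ChiComm; infer_instance

theorem chi_commute [CharP F 2] (R : BRel D F η) {r s : ℕ} (h : ChiComm D r s) (a b : F) :
    Commute (xGL R.xadd r a) (xGL R.xadd s b) := by
  rcases h with rfl | ⟨h1, h2, h3, h4, h5⟩
  · show xGL R.xadd r a * xGL R.xadd r b = xGL R.xadd r b * xGL R.xadd r a
    rw [xGL_mul, xGL_mul, add_comm]
  · have := chCentG_comm_even R h1 h2 h3 h4 (fun c hc => Int.dvd_of_emod_eq_zero (h5 c hc)) a b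
    show xGL R.xadd r a * xGL R.xadd s b = xGL R.xadd s b * xGL R.xadd r a
    calc xGL R.xadd r a * xGL R.xadd s b
        = (xGL R.xadd r a * xGL R.xadd s b * (xGL R.xadd r a)⁻¹) * xGL R.xadd r a := by group
      _ = xGL R.xadd s b * xGL R.xadd r a := by rw [this]

theorem chi_word_eq (R : BRel D F η) (l : List ℕ) :
    wordGL R.xadd (l.map fun r => (r, (1 : F))) = (l.map fun r => xGL R.xadd r (1 : F)).prod := by
  unfold wordGL
  rw [List.map_map]
  rfl

/-- Fusion by a permutation of commuting letters. -/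
theorem chi_fus_perm [CharP F 2] (R : BRel D F η) (l l' : List ℕ) (hp : l.Perm l')
    (hc : ∀ r ∈ l, ∀ s ∈ l, ChiComm D r s) : ChiFus R l l' := by
  refine ⟨1, one_mem _, ?_⟩
  rw [one_mul, inv_one, mul_one, chi_word_eq R, chi_word_eq R]
  apply List.Perm.prod_eq' (hp.map _)
  rw [List.pairwise_map]
  exact List.pairwise_of_forall_mem_list fun r hr s hs => chi_commute R (hc r hr s hs) 1 1

theorem chi_nW_mem_group (R : BRel D F η) (L : List ℕ) : R.nW L ∈ D.group F :=
  chi_G_le_group R (L.map D.simple) (chi_nW_mem R fun i hi => List.mem_map_of_mem hi)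

/-- Fusion by a word of the Weyl group. -/
theorem chi_fus_weyl [CharP F 2] (R : BRel D F η) (L l l' : List ℕ) (hL : ∀ i ∈ L, i < D.rank)
    (hl : ∀ γ ∈ l, γ < D.nroots) (h : l.map (wW D L) = l') : ChiFus R l l' := by
  refine ⟨R.nW L, chi_nW_mem_group R L, ?_⟩
  have hLV : ValidW D L := hL
  have e := chLT_nW_conj_word R hLV l hl (fun _ => (1 : F))
  rw [e, ← h, List.map_map]
  congr 1
  apply List.map_congr_left
  intro γ hγ
  have hsgn : ((eW D η L γ : ℤ) : F) = 1 := by
    rcases R.eW_sgn hLV (hl γ hγ) with h1 | h1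
    · rw [h1]; simp
    · rw [h1]; simp [CharTwo.neg_eq]
  show (wW D L γ, ((eW D η L γ : ℤ) : F) * 1) = (wW D L γ, (1 : F))
  rw [hsgn, mul_one]

/-- Fusion by a conjugating word of root elements (checked), carrying along letters that commute with the
conjugating word. -/
theorem chi_fus_chk [CharP F 2] (R : BRel D F η) (W l y T : List ℕ)
    (h : (goodWord D (oneW (W ++ l)) && goodWord D (oneW (y ++ W)) &&
      Cfsg.Agent.Helper18.allBelow (D.rank + D.nroots)
        (fun k => allEvenF (fsub (fapplyW D (oneW (W ++ l)) [(k, 1, 0)])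
          (fapplyW D (oneW (y ++ W)) [(k, 1, 0)])))) = true)
    (hc : ∀ r ∈ W, ∀ s ∈ T, ChiComm D r s) : ChiFus R (l ++ T) (y ++ T) := by
  have e : wordGL R.xadd ((W ++ l).map fun r => (r, (1 : F))) =
      wordGL R.xadd ((y ++ W).map fun r => (r, (1 : F))) := by
    apply Units.ext
    rw [wordGL_val, wordGL_val]
    exact wordMat_one_eq D (W ++ l) (y ++ W) h
  rw [List.map_append, List.map_append, wordGL_append, wordGL_append] at e
  refine ⟨_, wordGL_mem_group R.xadd (W.map fun r => (r, (1 : F))), ?_⟩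
  have hcomm : Commute (wordGL R.xadd (W.map fun r => (r, (1 : F))))
      (wordGL R.xadd (T.map fun r => (r, (1 : F)))) := by
    rw [chi_word_eq R, chi_word_eq R]
    apply Commute.list_prod_left
    intro a ha
    apply Commute.list_prod_right
    intro b hb
    rw [List.mem_map] at ha hb
    obtain ⟨r, hr, rfl⟩ := ha
    obtain ⟨s, hs, rfl⟩ := hb
    exact chi_commute R (hc r hr s hs) 1 1
  rw [List.map_append, List.map_append, wordGL_append, wordGL_append]
  calc wordGL R.xadd (W.map fun r => (r, (1 : F))) *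
        (wordGL R.xadd (l.map fun r => (r, (1 : F))) * wordGL R.xadd (T.map fun r => (r, (1 : F)))) *
        (wordGL R.xadd (W.map fun r => (r, (1 : F))))⁻¹
      = (wordGL R.xadd (W.map fun r => (r, (1 : F))) * wordGL R.xadd (l.map fun r => (r, (1 : F)))) *
        (wordGL R.xadd (T.map fun r => (r, (1 : F))) *
          (wordGL R.xadd (W.map fun r => (r, (1 : F))))⁻¹) := by group
    _ = (wordGL R.xadd (y.map fun r => (r, (1 : F))) * wordGL R.xadd (W.map fun r => (r, (1 : F)))) *
        ((wordGL R.xadd (W.map fun r => (r, (1 : F))))⁻¹ *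
          wordGL R.xadd (T.map fun r => (r, (1 : F)))) := by
        rw [e, hcomm.inv_left.eq]
    _ = wordGL R.xadd (y.map fun r => (r, (1 : F))) * wordGL R.xadd (T.map fun r => (r, (1 : F))) := by
        group

/-- Every involution of the group is conjugate to the word of one of the representatives, given the Sylow
step, the claim for the positive roots and the fusion of the standard words. -/
theorem chi_invol (R : BRel D F η)
    (hsyl : ∀ g ∈ D.group F, g * g = 1 → ∃ x ∈ D.group F, x⁻¹ * g * x ∈ D.posUnipotent F)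
    (P : List ℕ) (hP : D.posRoots = P) (Ls : List (List ℕ)) (hcl : ChiClaim R P Ls)
    (reps : List (List ℕ)) (hfus : ∀ l ∈ Ls, l ≠ [] → ∃ y ∈ reps, ChiFus R l y)
    {g : GL D.Idx F} (hg : g ∈ D.group F) (hord : orderOf g = 2) :
    ∃ h ∈ D.group F, ∃ y ∈ reps, h * g * h⁻¹ = wordGL R.xadd (y.map fun r => (r, (1 : F))) := by
  have hsq : g * g = 1 := by rw [← pow_two, ← hord, pow_orderOf_eq_one]
  have hne : g ≠ 1 := by
    rintro rfl
    rw [orderOf_one] at hord
    omega
  obtain ⟨x, hx, hxU⟩ := hsyl g hg hsq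
  rw [posUnipotent_eq, hP] at hxU
  have hu2 : (x⁻¹ * g * x) * (x⁻¹ * g * x) = 1 := by
    have e : (x⁻¹ * g * x) * (x⁻¹ * g * x) = x⁻¹ * (g * g) * x := by group
    rw [e, hsq]; group
  obtain ⟨g1, hg1, l, hl, e1⟩ := hcl (x⁻¹ * g * x) hxU hu2
  have hlne : l ≠ [] := by
    rintro rfl
    apply hne
    rw [List.map_nil, wordGL_nil] at e1
    have e2 : x⁻¹ * g * x = 1 := by
      have : x⁻¹ * g * x = g1⁻¹ * (g1 * (x⁻¹ * g * x) * g1⁻¹) * g1 := by group
      rw [this, e1]; group
    have : g = x * (x⁻¹ * g * x) * x⁻¹ := by group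
    rw [this, e2]; group
  obtain ⟨y, hy, g2, hg2, e2⟩ := hfus l hl hlne
  refine ⟨g2 * g1 * x⁻¹, mul_mem (mul_mem hg2 (chi_G_le_group R _ hg1)) (inv_mem hx), y, hy, ?_⟩
  have e3 : g2 * g1 * x⁻¹ * g * (g2 * g1 * x⁻¹)⁻¹ = g2 * (g1 * (x⁻¹ * g * x) * g1⁻¹) * g2⁻¹ := by group
  rw [e3, e1, e2]

end ChInvFus

end Cfsg.Agent.Helper38
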