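/-
helper38: type G2.  The centraliser of the long root element `x_11(1)` (any field: `U` and `X_{-a}`), and the
tools for the centraliser of the short root element `x_9(1)`: separation of products of root elements by a
linear functional on the roots, uniqueness in `V = X_9 X_10 X_11`, the action of the Borel subgroup on `V`,
and the Weyl group orbit of the triple `(9, 10, 11)`.
-/
import Cfsg.Agent.Helper38.ChevCentG
import Cfsg.Agent.Helper38.ChevCentTab
import Cfsg.Agent.Helper38.ChevHighTab
import Cfsg.Agent.Helper36.ChevRelAll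

set_option autoImplicit false

namespace Cfsg.Agent.Helper38

open Cfsg Cfsg.Lie Cfsg.Agent.Helper36 Cfsg.Agent.Helper17

/-! ### Tables of type G2 -/

theorem cartanPackOK_G2 : cartanPackOK chevG2 cartanPackG2 = true := by
  have h := cartanOK_G2
  rw [Bool.and_eq_true, Bool.and_eq_true] at h
  exact h.1.1

theorem cReflChk_G2 :
    Cfsg.Agent.Helper17.allBelow chevG2.rank (fun i => cReflChk chevG2 cartanPackG2 i) = true := by
  decide +kernel

theorem cReflOK_G2 : CReflOK chevG2 := cRefl_of_chk (by simp) cartanPackOK_G2 cReflChk_G2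

/-- The coordinates of `2ρ^∨` on the fundamental coroots. -/
def phiG2 : List ℕ := [6, 10]

theorem topFnChk_G2 : topFnChk chevG2 cartanPackG2 wtPackG2 phiG2 = true := by decide +kernel

theorem topFn_G2 : TopFn chevG2 (fun x => hLin chevG2 (phiG2.map Nat.cast) 0 x) :=
  topFn_of_chk cartanPackOK_G2 (wtFacts_of_wtOK chainPackOK_G2 wtOK_G2) (by decide) (by decide) topFnChk_G2

theorem chCentJ1_G2 : ∀ s ∈ [4], s < chevG2.nroots ∧ s ≠ chevG2.nroots - 1 ∧
    chevG2.nroots - 1 ≠ chevG2.neg s ∧ chevG2.commTerms s (chevG2.nroots - 1) = [] := by decide +kernel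
theorem chCentJ2_G2 : ∀ i < chevG2.rank, chevG2.cartan i (chevG2.nroots - 1) = 0 →
    chevG2.neg (chevG2.simple i) ∈ [4] := by decide +kernel
theorem chCentJ3_G2 : ∀ i < chevG2.rank, chevG2.cartan i (chevG2.nroots - 1) = if i = 1 then 1 else 0 := by
  decide +kernel

/-- The short roots of type G2. -/
def shortG2 : List ℕ := [2, 3, 4, 7, 8, 9]

theorem shortRefl_G2 : ∀ i < chevG2.rank, ∀ x ∈ shortG2, chevG2.reflectRoot i x ∈ shortG2 := by
  decide +kernel
theorem shortTop_G2 : ∀ x ∈ shortG2, x = 9 ∨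
    hLin chevG2 (phiG2.map Nat.cast) 0 x < hLin chevG2 (phiG2.map Nat.cast) 0 9 := by decide +kernel
theorem chCentJ3s_G2 : ∀ i < chevG2.rank, chevG2.cartan i 9 = if i = 0 then 1 else 0 := by
  decide +kernel
theorem chCentLet_G2 : ∀ i < chevG2.rank, chevG2.cartan i 9 = 0 → i = 1 := by decide +kernel

theorem orbFn_G2 : OrbFn chevG2 (fun x => x ∈ shortG2) 9
    (fun x => hLin chevG2 (phiG2.map Nat.cast) 0 x) where
  lin := topFn_G2.lin
  pos := topFn_G2.pos
  mem := by decide
  refl := fun i hi x _ hx => shortRefl_G2 i hi x hx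
  top := fun x _ hx => shortTop_G2 x hx

/-- The pairs `(q, s)` with trivial commutator formula that are used below. -/
theorem chFix_G2 : ∀ p ∈ [(9, 10), (9, 11), (10, 9), (10, 11), (11, 9), (11, 10), (6, 9), (6, 11), (7, 10),
    (7, 11), (8, 10), (8, 11), (5, 9), (5, 10), (10, 5)],
    p.1 < chevG2.nroots ∧ p.2 < chevG2.nroots ∧ p.2 ≠ p.1 ∧ p.2 ≠ chevG2.neg p.1 ∧
      chevG2.commTerms p.1 p.2 = [] := by decide +kernel

theorem chOne79_G2 : chevG2.commTerms 7 9 = [(10, 3, 1, 1)] := by decide +kernel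
theorem chOne89_G2 : chevG2.commTerms 8 9 = [(11, 3, 1, 1)] := by decide +kernel
theorem chOne610_G2 : chevG2.commTerms 6 10 = [(11, 1, 1, 1)] := by decide +kernel
theorem chPosRoots_G2 : chevG2.posRoots = [6, 7, 8, 9, 10, 11] := by decide +kernel

/-- The orbit of the triple `(2a+b, 3a+b, 3a+2b)` under the Weyl group. -/
def triG2 : List (ℕ × ℕ × ℕ) :=
  [(9, 10, 11), (9, 11, 10), (8, 6, 11), (8, 11, 6), (7, 5, 10), (7, 10, 5), (4, 6, 1), (4, 1, 6),
    (2, 1, 0), (2, 0, 1), (3, 0, 5), (3, 5, 0)]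

theorem triRefl_G2 : ∀ i < chevG2.rank, ∀ p ∈ triG2,
    (chevG2.reflectRoot i p.1, chevG2.reflectRoot i p.2.1, chevG2.reflectRoot i p.2.2) ∈ triG2 := by
  decide +kernel

theorem tri_mem_G2 : ∀ L : List ℕ, ValidW chevG2 L →
    (wW chevG2 L 9, wW chevG2 L 10, wW chevG2 L 11) ∈ triG2 := by
  intro L
  induction L with
  | nil => intro _; decide
  | cons j M ih =>
    intro hM
    rw [wW_cons, wW_cons, wW_cons]
    exact triRefl_G2 j hM.head _ (ih hM.tail)

/-- The linear functional `A a^* + B b^*` on the roots. -/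
def fnG2 (A B : ℤ) (x : ℕ) : ℤ := A * wt (coordWG2.getD 0 0) x + B * wt (coordWG2.getD 1 0) x

theorem fnG2_additive (A B : ℤ) : Additive chevG2 (fnG2 A B) :=
  chHigh_additive_comb ((rootCoords_of_OK chainPackOK_G2 coordOK_G2).add 0 (by decide))
    ((rootCoords_of_OK chainPackOK_G2 coordOK_G2).add 1 (by decide)) A B

/-- The functional is positive on the roots `ps` and negative on the roots `ns`. -/
def SgnG2 (A B : ℤ) (ps ns : List ℕ) : Prop :=
  (∀ r ∈ ps, r < chevG2.nroots ∧ 0 < fnG2 A B r) ∧ (∀ r ∈ ns, r < chevG2.nroots ∧ fnG2 A B r < 0)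

theorem sgnG2_a : SgnG2 1 (-1) [9, 10, 11] [6, 4, 1, 2, 0] := by unfold SgnG2; decide +kernel
theorem sgnG2_b : SgnG2 1 1 [9, 10, 11] [3, 0, 5] := by unfold SgnG2; decide +kernel
theorem sgnG2_c : SgnG2 4 (-5) [9, 10, 11] [8, 6] := by unfold SgnG2; decide +kernel
theorem sgnG2_d : SgnG2 (-1) 4 [9, 10, 11] [7, 5] := by unfold SgnG2; decide +kernel
theorem sgnG2_e : SgnG2 (-3) 7 [9, 11] [10] := by unfold SgnG2; decide +kernel
theorem sgnG2_f : SgnG2 3 (-5) [9] [11] := by unfold SgnG2; decide +kernel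

/-! ### Separation of products of root elements by a linear functional -/

section Sep

variable {D : ChevalleyDatum} {F : Type*} [Field F] {η : ℕ → ℕ → ℤ}

theorem chSep_utl_pos {f g : ℕ → ℤ} (hW : WtFacts D f) (hA : Additive D g) {s : ℕ} (hs : s < D.nroots)
    (hg : 0 < g s) (a : F) : UTL (idxWt D g) (D.x F s a) := by
  intro row col hne
  obtain ⟨k, hk, he⟩ := x_sub_one_level hW hA hs a row col hne
  have h1 : (0 : ℤ) < (k : ℤ) * g s := mul_pos (by exact_mod_cast hk) hg
  omega

theorem chSep_utl_neg {f g : ℕ → ℤ} (hW : WtFacts D f) (hA : Additive D g) {s : ℕ} (hs : s < D.nroots)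
    (hg : g s < 0) (a : F) : UTL (fun i => - idxWt D g i) (D.x F s a) := by
  intro row col hne
  obtain ⟨k, hk, he⟩ := x_sub_one_level hW hA hs a row col hne
  have h1 : (k : ℤ) * g s < 0 := mul_neg_of_pos_of_neg (by exact_mod_cast hk) hg
  show - idxWt D g col < - idxWt D g row
  omega

theorem chSep_word_pos {f g : ℕ → ℤ} (hW : WtFacts D f) (hA : Additive D g) (hX : XAdd D F)
    (w : List (ℕ × F)) (hw : ∀ r ∈ w.map Prod.fst, r < D.nroots ∧ 0 < g r) :
    UTL (idxWt D g) ((wordGL hX w : GL D.Idx F) : Matrix D.Idx D.Idx F) := by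
  induction w with
  | nil =>
    rw [wordGL_nil, Units.val_one]
    exact UTL.one _
  | cons p w ih =>
    rw [wordGL_cons, Units.val_mul, xGL_val]
    have hp := hw p.1 (List.mem_map_of_mem List.mem_cons_self)
    exact (chSep_utl_pos hW hA hp.1 hp.2 _).mul
      (ih (fun r hr => hw r (by rw [List.map_cons]; exact List.mem_cons_of_mem _ hr)))

theorem chSep_word_neg {f g : ℕ → ℤ} (hW : WtFacts D f) (hA : Additive D g) (hX : XAdd D F)
    (w : List (ℕ × F)) (hw : ∀ r ∈ w.map Prod.fst, r < D.nroots ∧ g r < 0) :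
    UTL (fun i => - idxWt D g i) ((wordGL hX w : GL D.Idx F) : Matrix D.Idx D.Idx F) := by
  induction w with
  | nil =>
    rw [wordGL_nil, Units.val_one]
    exact UTL.one _
  | cons p w ih =>
    rw [wordGL_cons, Units.val_mul, xGL_val]
    have hp := hw p.1 (List.mem_map_of_mem List.mem_cons_self)
    exact (chSep_utl_neg hW hA hp.1 hp.2 _).mul
      (ih (fun r hr => hw r (by rw [List.map_cons]; exact List.mem_cons_of_mem _ hr)))

theorem chSep_utl_both {ι : Type*} [Fintype ι] [DecidableEq ι] {K : Type*} [CommRing K] {l : ι → ℤ}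
    {M : Matrix ι ι K} (h1 : UTL l M) (h2 : UTL (fun i => - l i) M) : M = 1 := by
  rw [← sub_eq_zero]
  ext a b
  by_contra hne
  change (M - 1) a b ≠ 0 at hne
  have e1 := h1 a b hne
  have e2 : - l b < - l a := h2 a b hne
  omega

/-- A product of root elements of negative level that equals a product of root elements of positive level is
trivial. -/
theorem chSep_main {f g : ℕ → ℤ} (hW : WtFacts D f) (hA : Additive D g) (hX : XAdd D F)
    (w w' : List (ℕ × F)) (hw : ∀ r ∈ w.map Prod.fst, r < D.nroots ∧ g r < 0)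
    (hw' : ∀ r ∈ w'.map Prod.fst, r < D.nroots ∧ 0 < g r) (h : wordGL hX w = wordGL hX w') :
    wordGL hX w' = 1 := by
  apply Units.ext
  rw [Units.val_one]
  apply chSep_utl_both (chSep_word_pos hW hA hX w' hw')
  rw [← h]
  exact chSep_word_neg hW hA hX w hw

theorem chSep_conj_fix (R : BRel D F η) {q s : ℕ} (hq : q < D.nroots) (hs : s < D.nroots)
    (h : q = s ∨ (s ≠ q ∧ s ≠ D.neg q ∧ D.commTerms q s = [])) (u c : F) :
    xGL R.xadd q u * xGL R.xadd s c * (xGL R.xadd q u)⁻¹ = xGL R.xadd s c := by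
  rcases h with rfl | ⟨h1, h2, h3⟩
  · rw [xGL_inv, xGL_mul, xGL_mul]
    congr 1
    ring
  · rw [xGL_conj R.xadd (R.cf q hq s hs h1 h2)]
    unfold ChevalleyDatum.commWord
    rw [h3, List.map_nil, wordGL_nil, mul_one]

theorem chSep_conj_one (R : BRel D F η) {q s r : ℕ} {k : ℤ} (hq : q < D.nroots) (hs : s < D.nroots)
    (h1 : s ≠ q) (h2 : s ≠ D.neg q) (h3 : D.commTerms q s = [(r, k, 1, 1)]) (u c : F) :
    xGL R.xadd q u * xGL R.xadd s c * (xGL R.xadd q u)⁻¹ =
      xGL R.xadd s c * xGL R.xadd r ((k : F) * u * c) := by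
  rw [xGL_conj R.xadd (R.cf q hq s hs h1 h2)]
  unfold ChevalleyDatum.commWord
  rw [h3]
  simp only [List.map_cons, List.map_nil, wordGL_cons, wordGL_nil, mul_one, neg_neg, pow_one]

theorem chSep_nW_mem (R : BRel D F η) (K : Subgroup (GL D.Idx F)) :
    ∀ L : List ℕ, (∀ i ∈ L, ∀ c : F, xGL R.xadd (D.simple i) c ∈ K ∧
      xGL R.xadd (D.neg (D.simple i)) c ∈ K) → R.nW L ∈ K := by
  intro L
  induction L with
  | nil =>
    intro _
    rw [R.nW_nil]
    exact one_mem _
  | cons i L ih =>
    intro hlet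
    rw [R.nW_cons]
    refine mul_mem ?_ (ih (fun j hj => hlet j (List.mem_cons_of_mem _ hj)))
    apply wordGL_mem R.xadd K
    intro p hp
    unfold ChevalleyDatum.nWord at hp
    simp only [List.mem_cons, List.not_mem_nil, or_false] at hp
    rcases hp with rfl | rfl | rfl
    · exact (hlet i List.mem_cons_self _).1
    · exact (hlet i List.mem_cons_self _).2
    · exact (hlet i List.mem_cons_self _).1

/-- A torus element centralising `x_{r0}(1)` lies in every subgroup containing the rank one subgroups of the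
fundamental roots orthogonal to `r0`. -/
theorem chSep_torus (K : Subgroup (GL D.Idx F)) (R : BRel D F η) {r0 : ℕ} (hr : r0 < D.nroots)
    (hDiag : HDiag D F) (hTF : TorusFacts D) (hsimp : simpleOK D = true)
    (hK : ∀ i < D.rank, D.cartan i r0 = 0 → ∀ c : F, xGL R.xadd (D.simple i) c ∈ K ∧
      xGL R.xadd (D.neg (D.simple i)) c ∈ K)
    (i0 : ℕ) (hi0 : i0 < D.rank)
    (hJ3 : ∀ i < D.rank, D.cartan i r0 = if i = i0 then 1 else 0)
    (t : GL D.Idx F) (ht : (t : Matrix D.Idx D.Idx F) = D.x F r0 1)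
    {h : GL D.Idx F} (hh : h ∈ D.diagonalSubgroup F) (hcomm : t * h = h * t) : h ∈ K := by
  obtain ⟨z, hz⟩ := diagonalSubgroup_le_torus hDiag hh
  have hconj := torus_conj_x hTF.chain hTF.cartan hz r0 hr (1 : F)
  have h1 : (h : Matrix D.Idx D.Idx F) * D.x F r0 1 *
      ((h⁻¹ : GL D.Idx F) : Matrix D.Idx D.Idx F) = D.x F r0 1 := by
    have h3 : h * t * h⁻¹ = t := by rw [← hcomm]; group
    have h4 := congrArg Units.val h3
    rw [Units.val_mul, Units.val_mul, ht] at h4
    exact h4
  rw [h1] at hconj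
  have hχ : ((torusChar D z r0 : Fˣ) : F) = 1 := by
    have h3 : D.x F r0 ((torusChar D z r0 : F) * 1 + (-1)) = 1 := by
      rw [← R.xadd.add', ← hconj, R.xadd.mul_neg]
    have h4 := R.xinj _ hr _ h3
    linear_combination h4
  have hz0 : z i0 = 1 := by
    have h4 : torusChar D z r0 = z i0 := by
      unfold torusChar
      rw [list_prod_map_congr (List.range D.rank) _
        (fun i => z i ^ (if i = i0 then (1 : ℤ) else 0))
        (fun i hi => by rw [hJ3 i (List.mem_range.mp hi)]), chCent_prod_ite, if_pos hi0]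
    apply Units.ext
    rw [← h4, hχ, Units.val_one]
  have hw : h = wordGL R.xadd ((List.range D.rank).flatMap fun i => D.hWord (D.simple i) (z i : F)) := by
    apply Units.ext
    rw [wordGL_val, hz, charDiag_torusChar_eq_wordMat hsimp hDiag z]
  rw [hw]
  have key : ∀ Ls : List ℕ, (∀ i ∈ Ls, i < D.rank) →
      wordGL R.xadd (Ls.flatMap fun i => D.hWord (D.simple i) (z i : F)) ∈ K := by
    intro Ls
    induction Ls with
    | nil =>
      intro _
      rw [List.flatMap_nil, wordGL_nil]
      exact one_mem _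
    | cons i Ls ih =>
      intro hLs
      have hi : i < D.rank := hLs i List.mem_cons_self
      rw [List.flatMap_cons, wordGL_append]
      refine mul_mem ?_ (ih (fun j hj => hLs j (List.mem_cons_of_mem _ hj)))
      by_cases hii : i = i0
      · have e : wordGL R.xadd (D.hWord (D.simple i) (z i : F)) = 1 := by
          apply Units.ext
          rw [wordGL_val, hii, hz0, Units.val_one, Units.val_one]
          unfold ChevalleyDatum.hWord
          rw [Cfsg.Agent.Helper17.wordMat_append]
          exact R.ninv (D.simple i0) (R.wf.simple_lt i0 hi0) 1 one_ne_zero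
        rw [e]
        exact one_mem _
      · have hc : D.cartan i r0 = 0 := by rw [hJ3 i hi, if_neg hii]
        apply wordGL_mem R.xadd K
        intro p hp
        unfold ChevalleyDatum.hWord ChevalleyDatum.nWord at hp
        simp only [List.mem_append, List.mem_cons, List.not_mem_nil, or_false] at hp
        rcases hp with (rfl | rfl | rfl) | (rfl | rfl | rfl)
        · exact (hK i hi hc _).1
        · exact (hK i hi hc _).2
        · exact (hK i hi hc _).1
        · exact (hK i hi hc _).1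
        · exact (hK i hi hc _).2
        · exact (hK i hi hc _).1
  exact key _ (fun i hi => List.mem_range.mp hi)

end Sep

end Cfsg.Agent.Helper38
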