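/-
helper38: tools for the centralisers of products of root elements in a Chevalley group.

* `chLT_main`: in an identity between products of root elements, a factor `x_ρ(t)` is trivial when all the other
  non-trivial factors have level `> g ρ` and `≠ 2 g ρ` for an additive function `g` with `g ρ > 0` (the entry of
  `x_ρ(t)` at `(e_ρ, e_{-ρ})` is `-t²`).
* `chLT_min`, `chLT_excl`: the consequences for products over distinct roots (lowest root of a product).
* `chLT_pos`: a product of commuting root elements of distinct roots that lies in the Borel subgroup has no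
  non-trivial factor of a negative root.
* `chLT_letters2`: the letters of a reduced word fixing two roots `r1`, `r2` are orthogonal to `A r1 + B r2`
  when this combination is dominant.
* `chLT_torus`: torus elements centralising several root elements.
-/
import Cfsg.Agent.Helper38.ChevCentG2

set_option autoImplicit false

namespace Cfsg.Agent.Helper38

open Cfsg Cfsg.Lie Cfsg.Agent.Helper36 Cfsg.Agent.Helper17

section LT

variable {D : ChevalleyDatum} {F : Type*} [Field F] {η : ℕ → ℕ → ℤ}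

/-- `x_s(t)` is above the level `a` for an additive function `g` with `a < g s ≠ 2 a`. -/
theorem chLT_above_x {f g : ℕ → ℤ} (hW : WtFacts D f) (hA : Additive D g) {a : ℤ} {s : ℕ}
    (hs : s < D.nroots) (h1 : a < g s) (h2 : g s ≠ 2 * a) (ha : 0 < a) (t : F) :
    Above D g a (D.x F s t) := by
  intro row col hne
  by_cases hrc : row = col
  · exact Or.inl hrc
  right
  have hne' : (D.x F s t - 1) row col ≠ 0 := by
    rw [Matrix.sub_apply, Matrix.one_apply_ne hrc, sub_zero]
    exact hne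
  obtain ⟨k, hk, e⟩ := x_sub_one_level hW hA hs t row col hne'
  rw [e]
  rcases Nat.lt_or_ge k 2 with hk2 | hk2
  · have hk1 : k = 1 := by omega
    rw [hk1, Nat.cast_one, one_mul]
    exact ⟨h1, h2⟩
  · have h3 : (2 : ℤ) * g s ≤ (k : ℤ) * g s :=
      mul_le_mul_of_nonneg_right (by exact_mod_cast hk2) (by omega)
    constructor <;> omega

theorem chLT_above_word {f g : ℕ → ℤ} (hW : WtFacts D f) (hA : Additive D g) (hX : XAdd D F) {a : ℤ}
    (ha : 0 < a) (w : List (ℕ × F))
    (hw : ∀ p ∈ w, p.2 = 0 ∨ (p.1 < D.nroots ∧ a < g p.1 ∧ g p.1 ≠ 2 * a)) :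
    Above D g a ((wordGL hX w : GL D.Idx F) : Matrix D.Idx D.Idx F) := by
  induction w with
  | nil =>
    rw [wordGL_nil, Units.val_one]
    exact above_one a
  | cons p w ih =>
    rw [wordGL_cons, Units.val_mul, xGL_val]
    refine Above.mul ha ?_ (ih fun q hq => hw q (List.mem_cons_of_mem _ hq))
    rcases hw p List.mem_cons_self with h0 | ⟨h1, h2, h3⟩
    · rw [h0, hX.zero']
      exact above_one a
    · exact chLT_above_x hW hA h1 h2 h3 ha p.2

/-- The inverse of a product of root elements. -/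
theorem chLT_word_inv (hX : XAdd D F) (w : List (ℕ × F)) :
    (wordGL hX w)⁻¹ = wordGL hX (w.reverse.map fun p => (p.1, -p.2)) := by
  induction w with
  | nil => simp [wordGL_nil]
  | cons p w ih =>
    rw [wordGL_cons, mul_inv_rev, ih, List.reverse_cons, List.map_append, wordGL_append, xGL_inv]
    simp [wordGL_cons, wordGL_nil]

/-- In an identity between products of root elements, a factor `x_ρ(t)` with `g ρ > 0` is trivial when all the
other non-trivial factors have level `> g ρ` and `≠ 2 g ρ`. -/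
theorem chLT_main {f g : ℕ → ℤ} (hW : WtFacts D f) (hA : Additive D g) (hX : XAdd D F)
    (hE : RootElts D F) {ρ : ℕ} (hρ : ρ < D.nroots) (ha : 0 < g ρ) (pre suf w₂ : List (ℕ × F)) (t : F)
    (hpre : ∀ p ∈ pre, p.2 = 0 ∨ (p.1 < D.nroots ∧ g ρ < g p.1 ∧ g p.1 ≠ 2 * g ρ))
    (hsuf : ∀ p ∈ suf, p.2 = 0 ∨ (p.1 < D.nroots ∧ g ρ < g p.1 ∧ g p.1 ≠ 2 * g ρ))
    (hw₂ : ∀ p ∈ w₂, p.2 = 0 ∨ (p.1 < D.nroots ∧ g ρ < g p.1 ∧ g p.1 ≠ 2 * g ρ))
    (h : wordGL hX pre * xGL hX ρ t * wordGL hX suf = wordGL hX w₂) : t = 0 := by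
  have hinv : ∀ w : List (ℕ × F),
      (∀ p ∈ w, p.2 = 0 ∨ (p.1 < D.nroots ∧ g ρ < g p.1 ∧ g p.1 ≠ 2 * g ρ)) →
      ∀ p ∈ (w.reverse.map fun p => (p.1, -p.2)),
        p.2 = 0 ∨ (p.1 < D.nroots ∧ g ρ < g p.1 ∧ g p.1 ≠ 2 * g ρ) := by
    intro w hw p hp
    rw [List.mem_map] at hp
    obtain ⟨q, hq, rfl⟩ := hp
    rcases hw q (List.mem_reverse.mp hq) with h0 | h1
    · left
      show -q.2 = 0
      rw [h0, neg_zero]
    · right
      exact h1
  have e : xGL hX ρ t = (wordGL hX pre)⁻¹ * wordGL hX w₂ * (wordGL hX suf)⁻¹ := by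
    rw [← h]
    group
  have hab : Above D g (g ρ) (D.x F ρ t) := by
    have h1 := congrArg Units.val e
    rw [xGL_val, chLT_word_inv, chLT_word_inv, Units.val_mul, Units.val_mul] at h1
    rw [h1]
    exact ((chLT_above_word hW hA hX ha _ (hinv pre hpre)).mul ha
      (chLT_above_word hW hA hX ha _ hw₂)).mul ha (chLT_above_word hW hA hX ha _ (hinv suf hsuf))
  by_contra hc
  have h1 := x_entry_neg hW hE hρ t
  have h2 : D.x F ρ t (Sum.inr ⟨ρ, hρ⟩) (Sum.inr ⟨D.neg ρ, hW.neg_lt ρ hρ⟩) ≠ 0 := by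
    rw [h1]
    exact neg_ne_zero.mpr (pow_ne_zero 2 hc)
  rcases hab _ _ h2 with h3 | ⟨h3, h4⟩
  · have h5 := Fin.mk.inj (Sum.inr.inj h3)
    exact hE.neg_ne ρ hρ h5.symm
  · simp only [idxWt] at h4
    rw [hA.neg ρ hρ] at h4
    omega

/-- Additive functions separating the roots, with `g s ≠ 2 g r`. -/
structure GoodFn (D : ChevalleyDatum) (g : ℕ → ℤ) : Prop where
  add : Additive D g
  inj : ∀ r < D.nroots, ∀ s < D.nroots, g r = g s → r = s
  two : ∀ r < D.nroots, ∀ s < D.nroots, 0 < g r → g s ≠ 2 * g r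

theorem goodFn_of_wt {f : ℕ → ℤ} (hW : WtFacts D f) : GoodFn D f where
  add := hW.additive
  inj := by
    intro r hr s hs h
    rcases Nat.lt_trichotomy r s with h1 | h1 | h1
    · have := hW.mono r s h1 hs
      omega
    · exact h1
    · have := hW.mono s r h1 hr
      omega
  two := fun r hr s hs h => hW.two r s hr hs h

theorem goodFn_neg_wt {f : ℕ → ℤ} (hW : WtFacts D f) : GoodFn D (fun r => - f r) where
  add := ⟨fun r hr => by
      show - f (D.neg r) = - - f r
      rw [hW.neg r hr],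
    fun r s d u c hr hs h => by
      show - f u = - f s + ((d : ℤ) + 1) * - f r
      rw [(hW.chain r s d u c hr hs h).2]
      ring⟩
  inj := by
    intro r hr s hs h
    have h' : f r = f s := by
      have h1 : - f r = - f s := h
      omega
    exact (goodFn_of_wt hW).inj r hr s hs h'
  two := by
    intro r hr s hs h
    show - f s ≠ 2 * - f r
    have h0 : 0 < - f r := h
    have h1 : 0 < f (D.neg r) := by
      rw [hW.neg r hr]
      exact h0
    have h2 := hW.two (D.neg r) (D.neg s) (hW.neg_lt r hr) (hW.neg_lt s hs) h1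
    rw [hW.neg r hr, hW.neg s hs] at h2
    exact h2

theorem chLT_exists_min {α : Type*} (φ : α → ℤ) (P : α → Prop) (l : List α) (h : ∃ x ∈ l, P x) :
    ∃ x ∈ l, P x ∧ ∀ y ∈ l, P y → φ x ≤ φ y := by
  induction l with
  | nil =>
    obtain ⟨x, hx, -⟩ := h
    exact absurd hx List.not_mem_nil
  | cons a l ih =>
    by_cases h' : ∃ x ∈ l, P x
    · obtain ⟨x₀, hx₀, hP₀, hmin⟩ := ih h'
      by_cases ha : P a ∧ φ a < φ x₀
      · refine ⟨a, List.mem_cons_self, ha.1, fun y hy hPy => ?_⟩
        rcases List.mem_cons.mp hy with hya | hy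
        · rw [hya]
        · exact le_trans ha.2.le (hmin y hy hPy)
      · refine ⟨x₀, List.mem_cons_of_mem _ hx₀, hP₀, fun y hy hPy => ?_⟩
        rcases List.mem_cons.mp hy with hya | hy
        · by_contra hlt
          rw [hya] at hPy hlt
          exact ha ⟨hPy, not_le.mp hlt⟩
        · exact hmin y hy hPy
    · obtain ⟨x, hx, hPx⟩ := h
      rcases List.mem_cons.mp hx with hxa | hx
      · refine ⟨a, List.mem_cons_self, by rw [← hxa]; exact hPx, fun y hy hPy => ?_⟩
        rcases List.mem_cons.mp hy with hya | hy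
        · rw [hya]
        · exact absurd ⟨y, hy, hPy⟩ h'
      · exact absurd ⟨x, hx, hPx⟩ h'

/-- Every non-trivial factor of a product over distinct roots of positive level lies above a non-trivial factor
of any other expression of the product. -/
theorem chLT_min {f g : ℕ → ℤ} (hW : WtFacts D f) (hG : GoodFn D g) (hX : XAdd D F)
    (hE : RootElts D F) (w₁ w₂ : List (ℕ × F)) (hnd : (w₁.map Prod.fst).Nodup)
    (h₁ : ∀ p ∈ w₁, p.2 ≠ 0 → p.1 < D.nroots ∧ 0 < g p.1)
    (h₂ : ∀ p ∈ w₂, p.2 ≠ 0 → p.1 < D.nroots)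
    (h : wordGL hX w₁ = wordGL hX w₂) :
    ∀ p ∈ w₁, p.2 ≠ 0 → ∃ q ∈ w₂, q.2 ≠ 0 ∧ g q.1 ≤ g p.1 := by
  intro p hp hp0
  obtain ⟨p₀, hp₀, hp₀0, hmin⟩ := chLT_exists_min (fun p : ℕ × F => g p.1) (fun p => p.2 ≠ 0) w₁
    ⟨p, hp, hp0⟩
  suffices hq : ∃ q ∈ w₂, q.2 ≠ 0 ∧ g q.1 ≤ g p₀.1 by
    obtain ⟨q, hq, hq0, hle⟩ := hq
    exact ⟨q, hq, hq0, le_trans hle (hmin p hp hp0)⟩
  by_contra hno
  have hno' : ∀ q ∈ w₂, q.2 ≠ 0 → g p₀.1 < g q.1 := by
    intro q hq hq0
    by_contra hle
    exact hno ⟨q, hq, hq0, not_lt.mp hle⟩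
  obtain ⟨hρ, ha⟩ := h₁ p₀ hp₀ hp₀0
  obtain ⟨pre, suf, hsplit⟩ := List.append_of_mem hp₀
  have hnd' : p₀.1 ∉ pre.map Prod.fst ++ suf.map Prod.fst := by
    rw [hsplit, List.map_append, List.map_cons] at hnd
    exact (List.nodup_cons.mp (List.nodup_middle.mp hnd)).1
  have hside : ∀ q ∈ w₁, q.1 ≠ p₀.1 →
      q.2 = 0 ∨ (q.1 < D.nroots ∧ g p₀.1 < g q.1 ∧ g q.1 ≠ 2 * g p₀.1) := by
    intro q hq hne
    by_cases hq0 : q.2 = 0
    · exact Or.inl hq0
    · right
      obtain ⟨h3, h4⟩ := h₁ q hq hq0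
      have h5 := hmin q hq hq0
      have h6 : g q.1 ≠ g p₀.1 := fun e => hne (hG.inj _ h3 _ hρ e)
      exact ⟨h3, lt_of_le_of_ne h5 (Ne.symm h6), hG.two _ hρ _ h3 ha⟩
  have hpre : ∀ q ∈ pre, q.2 = 0 ∨ (q.1 < D.nroots ∧ g p₀.1 < g q.1 ∧ g q.1 ≠ 2 * g p₀.1) := by
    intro q hq
    apply hside q (by rw [hsplit]; exact List.mem_append_left _ hq)
    intro e
    exact hnd' (List.mem_append_left _ (by rw [← e]; exact List.mem_map_of_mem hq))
  have hsuf : ∀ q ∈ suf, q.2 = 0 ∨ (q.1 < D.nroots ∧ g p₀.1 < g q.1 ∧ g q.1 ≠ 2 * g p₀.1) := by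
    intro q hq
    apply hside q (by rw [hsplit]; exact List.mem_append_right _ (List.mem_cons_of_mem _ hq))
    intro e
    exact hnd' (List.mem_append_right _ (by rw [← e]; exact List.mem_map_of_mem hq))
  have hw₂ : ∀ q ∈ w₂, q.2 = 0 ∨ (q.1 < D.nroots ∧ g p₀.1 < g q.1 ∧ g q.1 ≠ 2 * g p₀.1) := by
    intro q hq
    by_cases hq0 : q.2 = 0
    · exact Or.inl hq0
    · have h3 := h₂ q hq hq0
      exact Or.inr ⟨h3, hno' q hq hq0, hG.two _ hρ _ h3 ha⟩
  apply hp₀0
  apply chLT_main hW hG.add hX hE hρ ha pre suf w₂ p₀.2 hpre hsuf hw₂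
  rw [← h, hsplit, wordGL_append, wordGL_cons, mul_assoc]

/-- A factor `x_ρ(t)` of a product over distinct roots is trivial when the other roots of the product, and
those of another expression of it, lie in a set `S` of roots of level `> g ρ`, `≠ 2 g ρ`. -/
theorem chLT_excl {f g : ℕ → ℤ} (hW : WtFacts D f) (hA : Additive D g) (hX : XAdd D F)
    (hE : RootElts D F) (S : List ℕ) {ρ : ℕ} (hρ : ρ < D.nroots) (ha : 0 < g ρ)
    (hS : ∀ x ∈ S, x < D.nroots ∧ g ρ < g x ∧ g x ≠ 2 * g ρ)
    (w₁ w₂ : List (ℕ × F)) (hnd : (w₁.map Prod.fst).Nodup)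
    (h₁ : ∀ p ∈ w₁, p.2 ≠ 0 → p.1 = ρ ∨ p.1 ∈ S)
    (h₂ : ∀ p ∈ w₂, p.2 ≠ 0 → p.1 ∈ S)
    (h : wordGL hX w₁ = wordGL hX w₂) : ∀ p ∈ w₁, p.1 = ρ → p.2 = 0 := by
  intro p hp hpρ
  obtain ⟨pre, suf, hsplit⟩ := List.append_of_mem hp
  have hnd' : p.1 ∉ pre.map Prod.fst ++ suf.map Prod.fst := by
    rw [hsplit, List.map_append, List.map_cons] at hnd
    exact (List.nodup_cons.mp (List.nodup_middle.mp hnd)).1
  have hside : ∀ q ∈ w₁, q.1 ≠ p.1 →
      q.2 = 0 ∨ (q.1 < D.nroots ∧ g ρ < g q.1 ∧ g q.1 ≠ 2 * g ρ) := by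
    intro q hq hne
    by_cases hq0 : q.2 = 0
    · exact Or.inl hq0
    · rcases h₁ q hq hq0 with h3 | h3
      · exact absurd (h3.trans hpρ.symm) hne
      · exact Or.inr (hS _ h3)
  have hpre : ∀ q ∈ pre, q.2 = 0 ∨ (q.1 < D.nroots ∧ g ρ < g q.1 ∧ g q.1 ≠ 2 * g ρ) := by
    intro q hq
    apply hside q (by rw [hsplit]; exact List.mem_append_left _ hq)
    intro e
    exact hnd' (List.mem_append_left _ (by rw [← e]; exact List.mem_map_of_mem hq))
  have hsuf : ∀ q ∈ suf, q.2 = 0 ∨ (q.1 < D.nroots ∧ g ρ < g q.1 ∧ g q.1 ≠ 2 * g ρ) := by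
    intro q hq
    apply hside q (by rw [hsplit]; exact List.mem_append_right _ (List.mem_cons_of_mem _ hq))
    intro e
    exact hnd' (List.mem_append_right _ (by rw [← e]; exact List.mem_map_of_mem hq))
  have hw₂ : ∀ q ∈ w₂, q.2 = 0 ∨ (q.1 < D.nroots ∧ g ρ < g q.1 ∧ g q.1 ≠ 2 * g ρ) := by
    intro q hq
    by_cases hq0 : q.2 = 0
    · exact Or.inl hq0
    · exact Or.inr (hS _ (h₂ q hq hq0))
  apply chLT_main hW hA hX hE hρ ha pre suf w₂ p.2 hpre hsuf hw₂
  rw [← h, hsplit, wordGL_append, wordGL_cons, mul_assoc, hpρ]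

/-! ### Conjugation of products of root elements -/

theorem chLT_conj_fix_word (hX : XAdd D F) (g : GL D.Idx F) (w : List (ℕ × F))
    (h : ∀ p ∈ w, g * xGL hX p.1 p.2 * g⁻¹ = xGL hX p.1 p.2) :
    g * wordGL hX w * g⁻¹ = wordGL hX w := by
  induction w with
  | nil => rw [wordGL_nil, mul_one, mul_inv_cancel]
  | cons p w ih =>
    rw [wordGL_cons]
    have e : g * (xGL hX p.1 p.2 * wordGL hX w) * g⁻¹ =
        (g * xGL hX p.1 p.2 * g⁻¹) * (g * wordGL hX w * g⁻¹) := by group
    rw [e, h p List.mem_cons_self, ih fun q hq => h q (List.mem_cons_of_mem _ hq)]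

theorem chLT_nW_conj_word (R : BRel D F η) {L : List ℕ} (hL : ValidW D L) (l : List ℕ)
    (hl : ∀ γ ∈ l, γ < D.nroots) (c : ℕ → F) :
    R.nW L * wordGL R.xadd (l.map fun γ => (γ, c γ)) * (R.nW L)⁻¹ =
      wordGL R.xadd (l.map fun γ => (wW D L γ, (eW D η L γ : F) * c γ)) := by
  induction l with
  | nil => simp [wordGL_nil]
  | cons γ l ih =>
    simp only [List.map_cons, wordGL_cons]
    have e : R.nW L * (xGL R.xadd γ (c γ) * wordGL R.xadd (l.map fun γ => (γ, c γ))) * (R.nW L)⁻¹ =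
        (R.nW L * xGL R.xadd γ (c γ) * (R.nW L)⁻¹) *
          (R.nW L * wordGL R.xadd (l.map fun γ => (γ, c γ)) * (R.nW L)⁻¹) := by group
    rw [e, R.nW_conj_x hL (hl γ List.mem_cons_self), ih fun x hx => hl x (List.mem_cons_of_mem _ hx)]

theorem chLT_comm_word (hX : XAdd D F) (g : GL D.Idx F) (w : List (ℕ × F))
    (h : ∀ p ∈ w, g * xGL hX p.1 p.2 = xGL hX p.1 p.2 * g) : g * wordGL hX w = wordGL hX w * g := by
  induction w with
  | nil => rw [wordGL_nil, mul_one, one_mul]
  | cons p w ih =>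
    rw [wordGL_cons, ← mul_assoc, h p List.mem_cons_self, mul_assoc,
      ih fun q hq => h q (List.mem_cons_of_mem _ hq), mul_assoc]

/-- A product of commuting root elements, split along a predicate. -/
theorem chLT_split (hX : XAdd D F) (P : ℕ × F → Bool) (w : List (ℕ × F))
    (hc : ∀ p ∈ w, ∀ q ∈ w, xGL hX p.1 p.2 * xGL hX q.1 q.2 = xGL hX q.1 q.2 * xGL hX p.1 p.2) :
    wordGL hX w = wordGL hX (w.filter P) * wordGL hX (w.filter fun p => !P p) := by
  induction w with
  | nil => simp [wordGL_nil]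
  | cons p w ih =>
    have ih' := ih fun a ha b hb => hc a (List.mem_cons_of_mem _ ha) b (List.mem_cons_of_mem _ hb)
    cases hP : P p
    · rw [List.filter_cons_of_neg (by simp [hP]), List.filter_cons_of_pos (by simp [hP]),
        wordGL_cons, wordGL_cons, ih']
      have hcm : xGL hX p.1 p.2 * wordGL hX (w.filter P) =
          wordGL hX (w.filter P) * xGL hX p.1 p.2 :=
        chLT_comm_word hX _ _ fun q hq =>
          hc p List.mem_cons_self q (List.mem_cons_of_mem _ (List.mem_of_mem_filter hq))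
      rw [← mul_assoc, hcm, mul_assoc]
    · rw [List.filter_cons_of_pos (by simp [hP]), List.filter_cons_of_neg (by simp [hP]),
        wordGL_cons, wordGL_cons, ih', mul_assoc]

/-- A product of commuting root elements of distinct roots that lies in the Borel subgroup has no non-trivial
factor of a negative root. -/
theorem chLT_pos {f : ℕ → ℤ} (R : BRel D F η) (hW : WtFacts D f) (hE : RootElts D F)
    (w : List (ℕ × F)) (hlt : ∀ p ∈ w, p.1 < D.nroots) (hnd : (w.map Prod.fst).Nodup)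
    (hc : ∀ p ∈ w, ∀ q ∈ w,
      xGL R.xadd p.1 p.2 * xGL R.xadd q.1 q.2 = xGL R.xadd q.1 q.2 * xGL R.xadd p.1 p.2)
    (hB : wordGL R.xadd w ∈ D.borelSubgroup F) :
    ∀ p ∈ w, p.2 ≠ 0 → D.IsPosRoot p.1 := by
  have hsplit := chLT_split R.xadd (fun p => decide (0 < f p.1)) w hc
  have hpU : wordGL R.xadd (w.filter fun p => decide (0 < f p.1)) ∈ D.borelSubgroup F := by
    apply BRel.U_le_B D F
    apply wordGL_mem
    intro p hp
    have h1 := List.mem_filter.mp hp
    have h2 : 0 < f p.1 := of_decide_eq_true h1.2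
    exact xGL_mem_posUnipotent R.xadd ((hW.pos _ (hlt p h1.1)).mpr h2) _
  have hneg : ∀ p ∈ (w.filter fun p => !decide (0 < f p.1)), p ∈ w ∧ D.IsNegRoot p.1 := by
    intro p hp
    have h1 := List.mem_filter.mp hp
    have h2 : ¬ 0 < f p.1 := by
      intro h3
      have h4 := h1.2
      rw [decide_eq_true h3] at h4
      exact absurd h4 (by decide)
    exact ⟨h1.1, R.wf.neg_of_not_pos (hlt p h1.1) (fun h3 => h2 ((hW.pos _ (hlt p h1.1)).mp h3))⟩
  have hnN : wordGL R.xadd (w.filter fun p => !decide (0 < f p.1)) ∈ D.negUnipotent F := by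
    apply wordGL_mem
    intro p hp
    exact xGL_mem_negUnipotent R.xadd (hneg p hp).2 _
  have hnB : wordGL R.xadd (w.filter fun p => !decide (0 < f p.1)) ∈ D.borelSubgroup F := by
    have e : wordGL R.xadd (w.filter fun p => !decide (0 < f p.1)) =
        (wordGL R.xadd (w.filter fun p => decide (0 < f p.1)))⁻¹ * wordGL R.xadd w := by
      rw [hsplit]
      group
    rw [e]
    exact mul_mem (inv_mem hpU) hB
  have h1 : wordGL R.xadd (w.filter fun p => !decide (0 < f p.1)) = 1 := by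
    have h2 : wordGL R.xadd (w.filter fun p => !decide (0 < f p.1)) ∈
        D.borelSubgroup F ⊓ D.negUnipotent F := ⟨hnB, hnN⟩
    rw [R.bv] at h2
    exact Subgroup.mem_bot.mp h2
  have hzero : ∀ p ∈ (w.filter fun p => !decide (0 < f p.1)), p.2 = 0 := by
    intro p hp
    by_contra hp0
    obtain ⟨q, hq, -⟩ := chLT_min hW (goodFn_neg_wt hW) R.xadd hE
      (w.filter fun p => !decide (0 < f p.1)) []
      (hnd.sublist (List.Sublist.map _ List.filter_sublist))
      (fun p hp _ => by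
        obtain ⟨h3, h4⟩ := hneg p hp
        have h5 := (hW.pos _ (R.wf.neg_lt _ (hlt p h3))).mp (R.wf.pos_neg_root h4)
        rw [hW.neg _ (hlt p h3)] at h5
        exact ⟨hlt p h3, h5⟩)
      (fun p hp => absurd hp List.not_mem_nil) (by rw [h1, wordGL_nil]) p hp hp0
    exact absurd hq List.not_mem_nil
  intro p hp hp0
  by_contra hpos
  have hmem : p ∈ (w.filter fun p => !decide (0 < f p.1)) := by
    apply List.mem_filter.mpr
    refine ⟨hp, ?_⟩
    have h2 : ¬ 0 < f p.1 := fun h => hpos ((hW.pos _ (hlt p hp)).mpr h)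
    rw [decide_eq_false h2]
    rfl
  exact hp0 (hzero p hmem)

end LT

/-! ### Reduced words fixing two roots -/

section Lin2

variable {D : ChevalleyDatum}

/-- A height function for the pair `(r1, r2)` on a set `O` of pairs of roots closed under the fundamental
reflections: `A h(x) + B h(y)` has its strict maximum on `O` at `(r1, r2)`. -/
structure OrbFn2 (D : ChevalleyDatum) (O : ℕ → ℕ → Prop) (r1 r2 : ℕ) (A B : ℤ) (h : ℕ → ℤ) : Prop where
  lin : CLin D h
  pos : ∀ x, D.IsPosRoot x → 0 < h x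
  mem : O r1 r2
  refl : ∀ i < D.rank, ∀ x < D.nroots, ∀ y < D.nroots, O x y →
    O (D.reflectRoot i x) (D.reflectRoot i y)
  top : ∀ x < D.nroots, ∀ y < D.nroots, O x y →
    (x = r1 ∧ y = r2) ∨ A * h x + B * h y < A * h r1 + B * h r2

theorem OrbFn2.mem_wW {O : ℕ → ℕ → Prop} {r1 r2 : ℕ} {A B : ℤ} {h : ℕ → ℤ}
    (hT : OrbFn2 D O r1 r2 A B h) (W : WFacts D) (hr1 : r1 < D.nroots) (hr2 : r2 < D.nroots) :
    ∀ M : List ℕ, ValidW D M → O (wW D M r1) (wW D M r2) := by
  intro M
  induction M with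
  | nil => intro _; exact hT.mem
  | cons j M ih =>
    intro hM
    rw [wW_cons, wW_cons]
    exact hT.refl j hM.head _ (W.wW_lt hM.tail hr1) _ (W.wW_lt hM.tail hr2) (ih hM.tail)

/-- The letters of a reduced word fixing `r1` and `r2` are orthogonal to `A r1 + B r2`. -/
theorem chLT_letters2 (hC : CReflOK D) (W : WFacts D) {O : ℕ → ℕ → Prop} {r1 r2 : ℕ} {A B : ℤ}
    {h : ℕ → ℤ} (hT : OrbFn2 D O r1 r2 A B h) (hr1 : r1 < D.nroots) (hr2 : r2 < D.nroots) :
    ∀ L, ValidW D L → RedW D L → wW D L r1 = r1 → wW D L r2 = r2 →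
      ∀ i ∈ L, A * D.cartan i r1 + B * D.cartan i r2 = 0 := by
  intro L
  induction L with
  | nil =>
    intro _ _ _ _ i hi
    exact absurd hi List.not_mem_nil
  | cons i L ih =>
    intro hL hred hfix1 hfix2
    have hi := hL.head
    obtain ⟨hred', hβ⟩ := hred
    have hs1 : wW D L r1 < D.nroots := W.wW_lt hL.tail hr1
    have hs2 : wW D L r2 < D.nroots := W.wW_lt hL.tail hr2
    rw [wW_cons] at hfix1 hfix2
    have hs_eq1 : wW D L r1 = D.reflectRoot i r1 := by
      have h1 := W.refl_refl i hi _ hs1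
      rw [hfix1] at h1
      exact h1.symm
    have hs_eq2 : wW D L r2 = D.reflectRoot i r2 := by
      have h1 := W.refl_refl i hi _ hs2
      rw [hfix2] at h1
      exact h1.symm
    have hMs1 : wW D L.reverse (D.reflectRoot i r1) = r1 := by
      rw [← hs_eq1]
      exact W.wW_reverse' hL.tail hr1
    have hMs2 : wW D L.reverse (D.reflectRoot i r2) = r2 := by
      rw [← hs_eq2]
      exact W.wW_reverse' hL.tail hr2
    obtain ⟨h', hh', hcomp⟩ := CLin.comp hC W L.reverse hL.tail.reverse h hT.lin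
    have e1 := hh'.refl hC hi hr1
    rw [← hcomp _ (W.refl_lt i hi _ hr1), ← hcomp _ hr1, ← hcomp _ (W.simple_lt i hi), hMs1] at e1
    have e1' := hh'.refl hC hi hr2
    rw [← hcomp _ (W.refl_lt i hi _ hr2), ← hcomp _ hr2, ← hcomp _ (W.simple_lt i hi), hMs2] at e1'
    have e2 := hT.lin.refl hC hi hr1
    have e2' := hT.lin.refl hC hi hr2
    have hpos1 := hT.pos _ hβ
    have hpos2 := hT.pos _ (W.simple_pos i hi)
    have hle1 : A * h (wW D L.reverse r1) + B * h (wW D L.reverse r2) ≤ A * h r1 + B * h r2 := by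
      rcases hT.top _ (W.wW_lt hL.tail.reverse hr1) _ (W.wW_lt hL.tail.reverse hr2)
        (hT.mem_wW W hr1 hr2 _ hL.tail.reverse) with h3 | h3
      · rw [h3.1, h3.2]
      · exact h3.le
    have hO : O (D.reflectRoot i r1) (D.reflectRoot i r2) := hT.refl i hi r1 hr1 r2 hr2 hT.mem
    have key1 : A * h r1 + B * h r2 = A * h (wW D L.reverse r1) + B * h (wW D L.reverse r2) -
        (A * D.cartan i r1 + B * D.cartan i r2) * h (wW D L.reverse (D.simple i)) := by
      linear_combination A * e1 + B * e1'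
    have key2 : A * h (D.reflectRoot i r1) + B * h (D.reflectRoot i r2) = A * h r1 + B * h r2 -
        (A * D.cartan i r1 + B * D.cartan i r2) * h (D.simple i) := by
      linear_combination A * e2 + B * e2'
    have htop := hT.top _ (W.refl_lt i hi _ hr1) _ (W.refl_lt i hi _ hr2) hO
    have hc : A * D.cartan i r1 + B * D.cartan i r2 = 0 := by
      have h5 : A * D.cartan i r1 + B * D.cartan i r2 ≤ 0 := by
        by_contra hcon
        rw [not_le] at hcon
        have h6 := mul_pos hcon hpos1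
        linarith
      have h6 : 0 ≤ A * D.cartan i r1 + B * D.cartan i r2 := by
        by_contra hcon
        rw [not_le] at hcon
        have h7 := mul_neg_of_neg_of_pos hcon hpos2
        rcases htop with h3 | h3
        · rw [h3.1, h3.2] at key2
          linarith
        · linarith
      exact le_antisymm h5 h6
    have hfixr : D.reflectRoot i r1 = r1 ∧ D.reflectRoot i r2 = r2 := by
      rw [hc, zero_mul, sub_zero] at key2
      rcases htop with h3 | h3
      · exact h3
      · exact absurd key2 (ne_of_lt h3)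
    intro j hj
    rcases List.mem_cons.mp hj with rfl | hj
    · exact hc
    · exact ih hL.tail hred' (by rw [hs_eq1, hfixr.1]) (by rw [hs_eq2, hfixr.2]) j hj

end Lin2

section Torus

variable {D : ChevalleyDatum} {F : Type*} [Field F] {η : ℕ → ℕ → ℤ}

/-- A torus element centralising the root elements `x_r(1)`, `r ∈ Js`, lies in every subgroup containing the
rank one subgroups of the fundamental roots `p_i` for which the coordinate `z_i` is not forced to be `1`. -/
theorem chLT_torus (K : Subgroup (GL D.Idx F)) (R : BRel D F η) (hDiag : HDiag D F) (hTF : TorusFacts D)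
    (hsimp : simpleOK D = true) (Js : List ℕ) (hJs : ∀ r ∈ Js, r < D.nroots)
    (hsolve : ∀ z : ℕ → Fˣ, (∀ r ∈ Js, torusChar D z r = 1) → ∀ i < D.rank, z i = 1 ∨
      ∀ c : F, xGL R.xadd (D.simple i) c ∈ K ∧ xGL R.xadd (D.neg (D.simple i)) c ∈ K)
    {h : GL D.Idx F} (hh : h ∈ D.diagonalSubgroup F)
    (hfix : ∀ r ∈ Js, h * xGL R.xadd r 1 * h⁻¹ = xGL R.xadd r 1) : h ∈ K := by
  obtain ⟨z, hz⟩ := diagonalSubgroup_le_torus hDiag hh
  have hχ : ∀ r ∈ Js, torusChar D z r = 1 := by
    intro r hr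
    have hconj := torus_conj_x hTF.chain hTF.cartan hz r (hJs r hr) (1 : F)
    have h1 : (h : Matrix D.Idx D.Idx F) * D.x F r 1 *
        ((h⁻¹ : GL D.Idx F) : Matrix D.Idx D.Idx F) = D.x F r 1 := by
      have h4 := congrArg Units.val (hfix r hr)
      rw [Units.val_mul, Units.val_mul, xGL_val] at h4
      exact h4
    rw [h1] at hconj
    have h3 : D.x F r ((torusChar D z r : F) * 1 + (-1)) = 1 := by
      rw [← R.xadd.add', ← hconj, R.xadd.mul_neg]
    have h4 := R.xinj _ (hJs r hr) _ h3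
    apply Units.ext
    rw [Units.val_one]
    linear_combination h4
  have hsol := hsolve z hχ
  have hw : h = wordGL R.xadd ((List.range D.rank).flatMap fun i => D.hWord (D.simple i) (z i : F)) := by
    apply Units.ext
    rw [wordGL_val, hz, charDiag_torusChar_eq_wordMat hsimp hDiag z]
  rw [hw]
  have key : ∀ Ls : List ℕ, (∀ i ∈ Ls, i < D.rank) →
      wordGL R.xadd (Ls.flatMap fun i => D.hWord (D.simple i) (z i : F)) ∈ K := by
    intro Ls
    induction Ls with
    | nil =>
      intro _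
      rw [List.flatMap_nil, wordGL_nil]
      exact one_mem _
    | cons i Ls ih =>
      intro hLs
      have hi : i < D.rank := hLs i List.mem_cons_self
      rw [List.flatMap_cons, wordGL_append]
      refine mul_mem ?_ (ih (fun j hj => hLs j (List.mem_cons_of_mem _ hj)))
      rcases hsol i hi with hz1 | hK
      · have e : wordGL R.xadd (D.hWord (D.simple i) (z i : F)) = 1 := by
          apply Units.ext
          rw [wordGL_val, hz1, Units.val_one, Units.val_one]
          unfold ChevalleyDatum.hWord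
          rw [Cfsg.Agent.Helper17.wordMat_append]
          exact R.ninv (D.simple i) (R.wf.simple_lt i hi) 1 one_ne_zero
        rw [e]
        exact one_mem _
      · apply wordGL_mem R.xadd K
        intro p hp
        unfold ChevalleyDatum.hWord ChevalleyDatum.nWord at hp
        simp only [List.mem_append, List.mem_cons, List.not_mem_nil, or_false] at hp
        rcases hp with (rfl | rfl | rfl) | (rfl | rfl | rfl)
        · exact (hK _).1
        · exact (hK _).2
        · exact (hK _).1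
        · exact (hK _).1
        · exact (hK _).2
        · exact (hK _).1
  exact key _ (fun i hi => List.mem_range.mp hi)

end Torus

end Cfsg.Agent.Helper38
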