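/-
helper38: for S4279 (CALL of helper18) - the root homomorphisms `SL₂(F) → GL` of Helper17.exists_sl2Hom are
injective when `2 ≠ 0` and the root has an odd pairing with some root (all roots of `G₂`).
-/
import Cfsg.Agent.Helper17.ChevSL2Hom
import Cfsg.Agent.Helper17.ChevRankOne
import Cfsg.Agent.Helper17.ChevTorus

set_option autoImplicit false
set_option linter.unusedSimpArgs false

namespace Cfsg.Agent.Helper38.G2C

open Cfsg Cfsg.Lie Cfsg.Agent.Helper17

section

variable {D : ChevalleyDatum} {F : Type*} [Field F]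

/-- A word in `x_r`, `x_{-r}` with trivial matrix has a diagonal 2×2 matrix with entries of square one. -/
theorem g2c_ker_diag {r : ℕ} (hR : RankOne D r) (hC : CartanFacts D)
    (w : List (ℕ × F)) (hw : ∀ p ∈ w, p.1 = r ∨ p.1 = D.neg r) (h1 : D.wordMat F w = 1) :
    sl2Word r w 0 1 = 0 ∧ sl2Word r w 1 0 = 0 ∧ sl2Word r w 0 0 ^ 2 = 1 ∧ sl2Word r w 1 1 ^ 2 = 1 := by
  have hloc := isLocal_sp (F := F) hR hC none
  have h2 := wordMat_local hloc hR.neg_ne w hw
  rw [h1, Matrix.one_mul] at h2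
  have hne : (⟨D.neg r, hR.neg_lt⟩ : Fin D.nroots) ≠ ⟨r, hR.lt⟩ := fun h => hR.neg_ne (Fin.mk.inj h)
  have e3 : ∀ k, spPhi D F ⟨r, hR.lt⟩ ⟨D.neg r, hR.neg_lt⟩ none (Sum.inr ⟨r, hR.lt⟩) k =
      spRep (spA D F r none) (sl2Word r w) 3 k := by
    intro k
    have h3 := congrFun (congrFun h2 (Sum.inr ⟨r, hR.lt⟩)) k
    rw [Matrix.mul_apply, Fin.sum_univ_four] at h3
    rw [h3]
    simp [spPhi, hne, hne.symm]
  have e1 : ∀ k, spPhi D F ⟨r, hR.lt⟩ ⟨D.neg r, hR.neg_lt⟩ none (Sum.inr ⟨D.neg r, hR.neg_lt⟩) k =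
      spRep (spA D F r none) (sl2Word r w) 1 k := by
    intro k
    have h3 := congrFun (congrFun h2 (Sum.inr ⟨D.neg r, hR.neg_lt⟩)) k
    rw [Matrix.mul_apply, Fin.sum_univ_four] at h3
    rw [h3]
    simp [spPhi, hne, hne.symm]
  have a1 := e3 1
  have a3 := e3 3
  have b1 := e1 1
  have b3 := e1 3
  simp [spPhi, spRep, hne, hne.symm] at a1 a3 b1 b3
  exact ⟨b3, a1, b1.symm, a3.symm⟩

/-- A word in `x_r`, `x_{-r}` with 2×2 matrix `diag(-1, -1)` has the matrix of `h_r(-1)`. -/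
theorem g2c_wordMat_neg_one {r : ℕ} (hR : RankOne D r) (hC : CartanFacts D)
    (w : List (ℕ × F)) (hw : ∀ p ∈ w, p.1 = r ∨ p.1 = D.neg r) (h : sl2Word r w = sl2D (-1)) :
    D.wordMat F w = D.hMat F r (-1) := by
  unfold ChevalleyDatum.hMat
  apply wordMat_eq_of_sl2Word_eq hR hC w (D.hWord r (-1)) hw ?_ ?_
  · intro p hp
    unfold ChevalleyDatum.hWord ChevalleyDatum.nWord at hp
    simp only [List.cons_append, List.nil_append, List.mem_cons, List.not_mem_nil, or_false] at hp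
    rcases hp with rfl | rfl | rfl | rfl | rfl | rfl <;> simp
  · rw [h]
    unfold sl2Word ChevalleyDatum.hWord ChevalleyDatum.nWord
    simp only [List.cons_append, List.nil_append, List.map_cons, List.map_nil, List.prod_cons,
      List.prod_nil, if_true, if_neg hR.neg_ne]
    exact (sl2_hword (-1) (by norm_num)).symm

/-- The root homomorphism `SL₂(F) → GL` of a root `r` is injective when `2 ≠ 0` and some root has an odd
pairing with `r`. -/
theorem g2c_sl2_injective (h2 : (2 : F) ≠ 0) {r : ℕ} (hR : RankOne D r) (hC : CartanFacts D)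
    {s : ℕ} (hs : s < D.nroots) (hodd : Odd (D.pairing r s))
    (φ : Matrix.SpecialLinearGroup (Fin 2) F →* GL D.Idx F)
    (hφ : ∀ g : Matrix.SpecialLinearGroup (Fin 2) F, ∀ w : List (ℕ × F),
        (∀ p ∈ w, p.1 = r ∨ p.1 = D.neg r) → sl2Word r w = (g : Matrix (Fin 2) (Fin 2) F) →
          ((φ g : GL D.Idx F) : Matrix D.Idx D.Idx F) = D.wordMat F w) :
    Function.Injective φ := by
  rw [injective_iff_map_eq_one]
  intro g hg
  obtain ⟨w, hw, hwg⟩ := exists_sl2Word hR.neg_ne (g : Matrix (Fin 2) (Fin 2) F) g.2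
  have h1 : D.wordMat F w = 1 := by
    rw [← hφ g w hw hwg, hg]
    rfl
  obtain ⟨k01, k10, k00, k11⟩ := g2c_ker_diag hR hC w hw h1
  rw [hwg] at k01 k10 k00 k11
  have hdet : (g : Matrix (Fin 2) (Fin 2) F) 0 0 * (g : Matrix (Fin 2) (Fin 2) F) 1 1 -
      (g : Matrix (Fin 2) (Fin 2) F) 0 1 * (g : Matrix (Fin 2) (Fin 2) F) 1 0 = 1 := by
    rw [← Matrix.det_fin_two]
    exact g.2
  rw [k01, zero_mul, sub_zero] at hdet
  have h00 : (g : Matrix (Fin 2) (Fin 2) F) 0 0 = 1 ∨ (g : Matrix (Fin 2) (Fin 2) F) 0 0 = -1 := by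
    apply mul_self_eq_one_iff.mp
    rw [← pow_two]
    exact k00
  rcases h00 with h | h
  · have h11 : (g : Matrix (Fin 2) (Fin 2) F) 1 1 = 1 := by
      rw [h, one_mul] at hdet
      exact hdet
    apply Subtype.ext
    ext i j
    fin_cases i <;> fin_cases j <;> simp [h, h11, k01, k10]
  · exfalso
    have h11 : (g : Matrix (Fin 2) (Fin 2) F) 1 1 = -1 := by
      rw [h] at hdet
      linear_combination -hdet
    have hgm : sl2Word r w = sl2D (-1) := by
      rw [hwg]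
      have hinv : (-1 : F)⁻¹ = -1 := by norm_num
      ext i j
      fin_cases i <;> fin_cases j <;> simp [sl2D, h, h11, k01, k10, hinv]
    have h3 := g2c_wordMat_neg_one hR hC w hw hgm
    rw [h1, hMat_of_rankOne hR hC (-1) (by norm_num)] at h3
    have h4 := congrFun (congrFun h3 (Sum.inr ⟨s, hs⟩)) (Sum.inr ⟨s, hs⟩)
    rw [Matrix.one_apply_eq, Matrix.diagonal_apply_eq] at h4
    simp only [hEntry, Sum.elim_inr] at h4
    rw [hodd.neg_one_zpow] at h4
    exact h2 (by linear_combination h4)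

theorem g2c_odd_pairing : ∀ r < 12, ∃ s < 12, chevG2.pairing r s % 2 = 1 := by decide +kernel

/-- The root homomorphisms of `G₂` are injective in odd characteristic. -/
theorem g2c_sl2_injective_G2 (h2 : (2 : F) ≠ 0) {r : ℕ} (hr : r < chevG2.nroots)
    (φ : Matrix.SpecialLinearGroup (Fin 2) F →* GL chevG2.Idx F)
    (hφ : ∀ g : Matrix.SpecialLinearGroup (Fin 2) F, ∀ w : List (ℕ × F),
        (∀ p ∈ w, p.1 = r ∨ p.1 = chevG2.neg r) → sl2Word r w = (g : Matrix (Fin 2) (Fin 2) F) →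
          ((φ g : GL chevG2.Idx F) : Matrix chevG2.Idx chevG2.Idx F) = chevG2.wordMat F w) :
    Function.Injective φ := by
  have hn : chevG2.nroots = 12 := by decide
  obtain ⟨s, hs, hodd⟩ := g2c_odd_pairing r (hn ▸ hr)
  exact g2c_sl2_injective h2 (rankOne_G2 hr) (cartanFacts_of_mem (by simp)) (hn.symm ▸ hs)
    (Int.odd_iff.mpr hodd) φ hφ

end

end Cfsg.Agent.Helper38.G2C
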