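import Mathlib
import Cfsg.Prelude.Def_ClassicalGeometry
import Cfsg.Prelude.Def_LieClassical
import Cfsg.Agent.Helper13.HermBasis
import Cfsg.Agent.Helper44.UnitaryOrder

/-!
# Stabiliser of a non-degenerate subspace in the general unitary group (helper38)

`gu_stab_nondeg`: for `|K| = q ^ 2` and a `k`-dimensional subspace `W ≤ K ^ n` on which the
Hermitian form is non-degenerate, the stabiliser of `W` in `GU n K q` is `GU k K q × GU (n - k) K q`.

Built on helper13's Witt theorem (`witt_herm`) and helper44's `GUg`/`hfg` (unitary group and form over a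
general index type).
-/

set_option autoImplicit false
set_option linter.unusedSectionVars false

namespace Cfsg.Agent.Helper38

open Matrix Module Cfsg.Agent.Helper44 Cfsg.Agent.Helper13

section Conj

/-- Stabilisers of sets of vectors which correspond under a group element are isomorphic. -/
theorem stabilizing_conj_equiv {F : Type*} [Field F] {H : Type*} [Group H] {ι : Type} [Fintype ι]
    [DecidableEq ι] (toMat : H →* Matrix ι ι F) (S S' : Set (ι → F)) (P : H)
    (hP : ∀ v, v ∈ S ↔ toMat P *ᵥ v ∈ S') :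
    Nonempty (↥(Cfsg.stabilizing toMat S') ≃* ↥(Cfsg.stabilizing toMat S)) := by
  have hPP : ∀ v, toMat P *ᵥ (toMat P⁻¹ *ᵥ v) = v := by
    intro v; rw [Matrix.mulVec_mulVec, ← map_mul, mul_inv_cancel, map_one, Matrix.one_mulVec]
  refine ⟨{ toFun := fun h => ⟨P⁻¹ * h.1 * P, ?_⟩
            invFun := fun h => ⟨P * h.1 * P⁻¹, ?_⟩
            left_inv := fun h => Subtype.ext (by simp [mul_assoc])
            right_inv := fun h => Subtype.ext (by simp [mul_assoc])
            map_mul' := fun h h' => Subtype.ext (by simp [mul_assoc]) }⟩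
  · intro v
    have h2 : ∀ w, w ∈ S' ↔ toMat h.1 *ᵥ w ∈ S' := h.2
    rw [hP v, h2 (toMat P *ᵥ v), hP (toMat (P⁻¹ * h.1 * P) *ᵥ v)]
    rw [map_mul, map_mul, ← Matrix.mulVec_mulVec, ← Matrix.mulVec_mulVec, hPP]
  · intro v
    have h2 : ∀ w, w ∈ S ↔ toMat h.1 *ᵥ w ∈ S := h.2
    have h1 : v ∈ S' ↔ toMat P⁻¹ *ᵥ v ∈ S := by rw [hP, hPP]
    rw [h1, h2 (toMat P⁻¹ *ᵥ v), hP]
    rw [map_mul, map_mul, ← Matrix.mulVec_mulVec, ← Matrix.mulVec_mulVec]

end Conj

section Blocks

variable {K : Type*} [Field K] (τ : K →+* K)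
variable {α β ι : Type} [Fintype α] [DecidableEq α] [Fintype β] [DecidableEq β] [Fintype ι]
  [DecidableEq ι]

/-- The block diagonal matrix `diag(A, D)` on the index type `ι ≃ α ⊕ β`. -/
def blk (e : α ⊕ β ≃ ι) (A : Matrix α α K) (D : Matrix β β K) : Matrix ι ι K :=
  (Matrix.fromBlocks A 0 0 D).submatrix e.symm e.symm

theorem blk_mul (e : α ⊕ β ≃ ι) (A A' : Matrix α α K) (D D' : Matrix β β K) :
    blk e (A * A') (D * D') = blk e A D * blk e A' D' := by
  unfold blk
  rw [Matrix.submatrix_mul_equiv, Matrix.fromBlocks_multiply]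
  simp

theorem blk_one (e : α ⊕ β ≃ ι) : blk e (1 : Matrix α α K) (1 : Matrix β β K) = 1 := by
  unfold blk
  rw [Matrix.fromBlocks_one, Matrix.submatrix_one_equiv]

theorem blk_mulVec (e : α ⊕ β ≃ ι) (A : Matrix α α K) (D : Matrix β β K) (x : ι → K) :
    blk e A D *ᵥ x =
      (Sum.elim (A *ᵥ (x ∘ e ∘ Sum.inl)) (D *ᵥ (x ∘ e ∘ Sum.inr))) ∘ e.symm := by
  unfold blk
  rw [Matrix.submatrix_mulVec_equiv, Matrix.fromBlocks_mulVec]
  simp [Function.comp_assoc]

theorem blk_injective (e : α ⊕ β ≃ ι) (A A' : Matrix α α K) (D D' : Matrix β β K)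
    (h : blk e A D = blk e A' D') : A = A' ∧ D = D' := by
  have h1 := congrArg (fun M : Matrix ι ι K => M.submatrix e e) h
  simp only [blk, Matrix.submatrix_submatrix, Equiv.symm_comp_self, Matrix.submatrix_id_id] at h1
  rw [Matrix.fromBlocks_inj] at h1
  exact ⟨h1.1, h1.2.2.2⟩

theorem hfg_split (e : α ⊕ β ≃ ι) (x y : ι → K) :
    hfg τ x y = hfg τ (x ∘ e ∘ Sum.inl) (y ∘ e ∘ Sum.inl) +
      hfg τ (x ∘ e ∘ Sum.inr) (y ∘ e ∘ Sum.inr) := by
  rw [← hfg_comp_equiv τ e x y]
  simp only [hfg, Fintype.sum_sum_type, Function.comp_apply]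

theorem blk_preserves (e : α ⊕ β ≃ ι) (A : Matrix α α K) (D : Matrix β β K)
    (hA : ∀ x y, hfg τ (A *ᵥ x) (A *ᵥ y) = hfg τ x y)
    (hD : ∀ x y, hfg τ (D *ᵥ x) (D *ᵥ y) = hfg τ x y) (x y : ι → K) :
    hfg τ (blk e A D *ᵥ x) (blk e A D *ᵥ y) = hfg τ x y := by
  rw [hfg_split τ e (blk e A D *ᵥ x), blk_mulVec, blk_mulVec, hfg_split τ e x y]
  have h1 : ∀ (u : α → K) (v : β → K), ((Sum.elim u v) ∘ e.symm) ∘ e ∘ Sum.inl = u := by
    intro u v
    funext a
    simp
  have h2 : ∀ (u : α → K) (v : β → K), ((Sum.elim u v) ∘ e.symm) ∘ e ∘ Sum.inr = v := by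
    intro u v
    funext a
    simp
  rw [h1, h1, h2, h2, hA, hD]

/-- The standard subspace: vectors supported on the `α`-part. -/
def stdSub (K : Type*) [Field K] (e : α ⊕ β ≃ ι) : Submodule K (ι → K) where
  carrier := {x | ∀ b : β, x (e (Sum.inr b)) = 0}
  add_mem' := by
    intro x y hx hy b
    simp [hx b, hy b]
  zero_mem' := fun b => rfl
  smul_mem' := by
    intro c x hx b
    simp [hx b]

theorem mem_stdSub (e : α ⊕ β ≃ ι) (x : ι → K) :
    x ∈ stdSub K e ↔ ∀ b : β, x (e (Sum.inr b)) = 0 := Iff.rfl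

/-- The block diagonal embedding `GU(α) × GU(β) → GU(ι)`. -/
def blkHom (e : α ⊕ β ≃ ι) : ↥(GUg τ α) × ↥(GUg τ β) →* ↥(GUg τ ι) where
  toFun p := ⟨Matrix.GeneralLinearGroup.mkOfDetNeZero
      (blk e ((p.1 : GL α K) : Matrix α α K) ((p.2 : GL β K) : Matrix β β K))
      (det_ne_zero_of_unitary τ _ (blk_preserves τ e _ _ p.1.2 p.2.2)),
    blk_preserves τ e _ _ p.1.2 p.2.2⟩
  map_one' := by
    apply Subtype.ext
    apply Units.ext
    show blk e ((1 : GL α K) : Matrix α α K) ((1 : GL β K) : Matrix β β K) = 1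
    exact blk_one e
  map_mul' p p' := by
    apply Subtype.ext
    apply Units.ext
    show blk e (((p.1 * p'.1 : ↥(GUg τ α)) : GL α K) : Matrix α α K)
      (((p.2 * p'.2 : ↥(GUg τ β)) : GL β K) : Matrix β β K) =
      blk e ((p.1 : GL α K) : Matrix α α K) ((p.2 : GL β K) : Matrix β β K) *
      blk e ((p'.1 : GL α K) : Matrix α α K) ((p'.2 : GL β K) : Matrix β β K)
    rw [← blk_mul]
    rfl

theorem blkHom_coe (e : α ⊕ β ≃ ι) (p : ↥(GUg τ α) × ↥(GUg τ β)) :
    ((blkHom τ e p : GL ι K) : Matrix ι ι K) =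
      blk e ((p.1 : GL α K) : Matrix α α K) ((p.2 : GL β K) : Matrix β β K) := rfl

theorem blkHom_injective (e : α ⊕ β ≃ ι) : Function.Injective (blkHom τ e) := by
  intro p p' h
  have h1 : ((blkHom τ e p : GL ι K) : Matrix ι ι K) = ((blkHom τ e p' : GL ι K) : Matrix ι ι K) := by
    rw [h]
  rw [blkHom_coe, blkHom_coe] at h1
  obtain ⟨h2, h3⟩ := blk_injective e _ _ _ _ h1
  exact Prod.ext (Subtype.ext (Units.ext h2)) (Subtype.ext (Units.ext h3))

theorem blkHom_range (e : α ⊕ β ≃ ι) :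
    (blkHom τ e).range =
      Cfsg.stabilizing ((Cfsg.glToMat ι K).comp (GUg τ ι).subtype) (stdSub K e : Set (ι → K)) := by
  ext g
  constructor
  · rintro ⟨p, rfl⟩
    intro v
    show v ∈ stdSub K e ↔ ((blkHom τ e p : GL ι K) : Matrix ι ι K) *ᵥ v ∈ stdSub K e
    rw [blkHom_coe, blk_mulVec, mem_stdSub, mem_stdSub]
    have hD : ∀ w : β → K, ((p.2 : GL β K) : Matrix β β K) *ᵥ w = 0 ↔ w = 0 := by
      intro w
      constructor
      · intro h
        have h1 := congrArg (fun u => (((p.2 : GL β K)⁻¹ : GL β K) : Matrix β β K) *ᵥ u) h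
        simp only [Matrix.mulVec_mulVec, Matrix.mulVec_zero] at h1
        rw [← Units.val_mul, inv_mul_cancel, Units.val_one, Matrix.one_mulVec] at h1
        exact h1
      · rintro rfl
        exact Matrix.mulVec_zero _
    constructor
    · intro h b
      have h1 : v ∘ e ∘ Sum.inr = 0 := funext h
      simp [h1]
    · intro h b
      have h1 : ((p.2 : GL β K) : Matrix β β K) *ᵥ (v ∘ e ∘ Sum.inr) = 0 := by
        funext b
        have := h b
        simpa using this
      have h2 := (hD _).mp h1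
      exact congrFun h2 b
  · intro hg
    have hstab : ∀ v, v ∈ stdSub K e ↔ ((g : GL ι K) : Matrix ι ι K) *ᵥ v ∈ stdSub K e := hg
    have hpres : ∀ x y, hfg τ (((g : GL ι K) : Matrix ι ι K) *ᵥ x)
        (((g : GL ι K) : Matrix ι ι K) *ᵥ y) = hfg τ x y := g.2
    set M : Matrix ι ι K := ((g : GL ι K) : Matrix ι ι K) with hM
    set M' : Matrix (α ⊕ β) (α ⊕ β) K := M.submatrix e e with hM'
    -- lower left block vanishes
    have h21 : M'.toBlocks₂₁ = 0 := by
      ext b a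
      have h1 : (Pi.single (e (Sum.inl a)) 1 : ι → K) ∈ stdSub K e := by
        intro b'
        rw [Pi.single_apply, if_neg]
        intro h
        exact Sum.inr_ne_inl (e.injective h)
      have h2 := (hstab _).mp h1 b
      rw [Matrix.mulVec_single_one] at h2
      exact h2
    -- upper right block vanishes
    have h12 : M'.toBlocks₁₂ = 0 := by
      ext a b
      -- `w = M⁻¹ e_a` lies in the standard subspace
      set w : ι → K := (((g : GL ι K)⁻¹ : GL ι K) : Matrix ι ι K) *ᵥ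
        (Pi.single (e (Sum.inl a)) 1 : ι → K) with hw
      have hMw : M *ᵥ w = Pi.single (e (Sum.inl a)) 1 := by
        rw [hw, hM, Matrix.mulVec_mulVec, ← Units.val_mul, mul_inv_cancel, Units.val_one,
          Matrix.one_mulVec]
      have hwstd : w ∈ stdSub K e := by
        rw [hstab w, hMw]
        intro b'
        rw [Pi.single_apply, if_neg]
        intro h
        exact Sum.inr_ne_inl (e.injective h)
      have h3 := hpres (Pi.single (e (Sum.inr b)) 1) w
      rw [hMw, hfg_single_right, hfg_single_left, hwstd b, map_zero,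
        Matrix.mulVec_single_one] at h3
      exact h3
    have hMblk : M = blk e M'.toBlocks₁₁ M'.toBlocks₂₂ := by
      unfold blk
      have h4 : Matrix.fromBlocks M'.toBlocks₁₁ 0 0 M'.toBlocks₂₂ = M' := by
        rw [← h12, ← h21, Matrix.fromBlocks_toBlocks]
      rw [h4, hM', Matrix.submatrix_submatrix]
      simp
    have hA : ∀ x y, hfg τ (M'.toBlocks₁₁ *ᵥ x) (M'.toBlocks₁₁ *ᵥ y) = hfg τ x y := by
      intro x y
      have h5 := hpres ((Sum.elim x 0) ∘ e.symm) ((Sum.elim y 0) ∘ e.symm)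
      rw [hMblk, blk_mulVec, blk_mulVec, hfg_comp_equiv, hfg_comp_equiv] at h5
      have h6 : ∀ u : α → K, ((Sum.elim u (0 : β → K)) ∘ e.symm) ∘ e ∘ Sum.inl = u := by
        intro u; funext a; simp
      have h7 : ∀ u : α → K, ((Sum.elim u (0 : β → K)) ∘ e.symm) ∘ e ∘ Sum.inr = 0 := by
        intro u; funext a; simp
      rw [h6, h6, h7, h7, Matrix.mulVec_zero] at h5
      simpa [hfg, Fintype.sum_sum_type] using h5
    have hD : ∀ x y, hfg τ (M'.toBlocks₂₂ *ᵥ x) (M'.toBlocks₂₂ *ᵥ y) = hfg τ x y := by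
      intro x y
      have h5 := hpres ((Sum.elim 0 x) ∘ e.symm) ((Sum.elim 0 y) ∘ e.symm)
      rw [hMblk, blk_mulVec, blk_mulVec, hfg_comp_equiv, hfg_comp_equiv] at h5
      have h6 : ∀ u : β → K, ((Sum.elim (0 : α → K) u) ∘ e.symm) ∘ e ∘ Sum.inr = u := by
        intro u; funext a; simp
      have h7 : ∀ u : β → K, ((Sum.elim (0 : α → K) u) ∘ e.symm) ∘ e ∘ Sum.inl = 0 := by
        intro u; funext a; simp
      rw [h6, h6, h7, h7, Matrix.mulVec_zero] at h5
      simpa [hfg, Fintype.sum_sum_type] using h5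
    refine ⟨(⟨Matrix.GeneralLinearGroup.mkOfDetNeZero M'.toBlocks₁₁
        (det_ne_zero_of_unitary τ _ hA), hA⟩,
      ⟨Matrix.GeneralLinearGroup.mkOfDetNeZero M'.toBlocks₂₂
        (det_ne_zero_of_unitary τ _ hD), hD⟩), ?_⟩
    apply Subtype.ext
    apply Units.ext
    rw [blkHom_coe]
    exact hMblk.symm

theorem stab_std_equiv (e : α ⊕ β ≃ ι) :
    Nonempty (↥(Cfsg.stabilizing ((Cfsg.glToMat ι K).comp (GUg τ ι).subtype)
      (stdSub K e : Set (ι → K))) ≃* ↥(GUg τ α) × ↥(GUg τ β)) := by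
  have E1 := MonoidHom.ofInjective (blkHom_injective τ e)
  have E2 := MulEquiv.subgroupCongr (blkHom_range τ e)
  exact ⟨(E1.trans E2).symm⟩

end Blocks

section Witt

variable {K : Type*} [Field K] [Finite K] (τ : K →+* K)
variable {α β ι : Type} [Fintype α] [DecidableEq α] [Fintype β] [DecidableEq β] [Fintype ι]
  [DecidableEq ι]

/-- A unitary matrix carrying the standard subspace onto a given non-degenerate subspace of the same
dimension. -/
theorem exists_GUg_std (hτ2 : ∀ x, τ (τ x) = x) (hτne : τ ≠ RingHom.id K) (e : α ⊕ β ≃ ι)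
    (W : Submodule K (ι → K)) (hWk : finrank K W = Fintype.card α)
    (hW : ∀ u ∈ W, (∀ v ∈ W, hfg τ u v = 0) → u = 0) :
    ∃ P : ↥(GUg τ ι), ∀ v, v ∈ stdSub K e ↔ ((P : GL ι K) : Matrix ι ι K) *ᵥ v ∈ W := by
  classical
  -- the restricted form on `W`
  set B := hBg τ ι with hBdef
  set B' := B.domRestrict₁₂ W W with hB'def
  have hB'app : ∀ x y : W, B' x y = hfg τ (y : ι → K) (x : ι → K) := fun x y => rfl
  have hS' : B'.IsSymm := by
    rw [LinearMap.isSymm_def]
    intro x y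
    rw [hB'app, hB'app]
    exact hfg_symm τ hτ2 _ _
  have hN' : B'.Nondegenerate := by
    constructor
    · intro x hx
      apply Subtype.ext
      apply hW x.1 x.2
      intro v hv
      have h1 := hx ⟨v, hv⟩
      rw [hB'app] at h1
      rw [← hfg_symm τ hτ2, h1, map_zero]
    · intro y hy
      apply Subtype.ext
      apply hW y.1 y.2
      intro v hv
      have h1 := hy ⟨v, hv⟩
      rw [hB'app] at h1
      exact h1
  obtain ⟨b, hb⟩ := herm_exists_orthonormal_basis τ B' hτne hτ2 hS' hN'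
  set ε : α ≃ Fin (finrank K W) := Fintype.equivFinOfCardEq hWk.symm with hε
  set w : α → ι → K := fun a => ((b (ε a) : W) : ι → K) with hwdef
  have hwW : ∀ a, w a ∈ W := fun a => (b (ε a)).2
  have hw : ∀ a a', B (w a) (w a') = if a = a' then 1 else 0 := by
    intro a a'
    have h1 := hb (ε a) (ε a')
    rw [hB'app] at h1
    rw [hBdef, hBg_apply, h1]
    by_cases haa : a = a'
    · rw [if_pos haa, if_pos (by rw [haa])]
    · rw [if_neg haa, if_neg (fun h => haa (ε.injective h))]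
  set f : (ι → K) →ₗ[K] (ι → K) :=
    ∑ a, (LinearMap.proj (e (Sum.inl a)) : (ι → K) →ₗ[K] K).smulRight (w a) with hfdef
  have hf : ∀ x, f x = ∑ a, x (e (Sum.inl a)) • w a := by
    intro x
    simp [hfdef, LinearMap.sum_apply]
  have hBf : ∀ a x, B (w a) (f x) = x (e (Sum.inl a)) := by
    intro a x
    rw [hf]
    simp only [map_sum, map_smul, smul_eq_mul, hw, mul_ite, mul_one, mul_zero,
      Finset.sum_ite_eq, Finset.mem_univ, if_true]
  have hiso : ∀ x ∈ stdSub K e, ∀ x' ∈ stdSub K e, B (f x) (f x') = B x x' := by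
    intro x hx x' hx'
    have h1 : B (f x) (f x') = ∑ a, τ (x (e (Sum.inl a))) * x' (e (Sum.inl a)) := by
      rw [hf x]
      simp only [map_sum, LinearMap.map_smulₛₗ, LinearMap.sum_apply, LinearMap.smul_apply,
        smul_eq_mul, hBf]
    rw [h1, hBdef, hBg_apply, hfg_split τ e]
    have h2 : x ∘ e ∘ Sum.inr = 0 := funext hx
    have h3 : x' ∘ e ∘ Sum.inr = 0 := funext hx'
    rw [h2, h3, hfg_zero_left, add_zero]
    simp only [hfg, Function.comp_apply]
    exact Finset.sum_congr rfl (fun a _ => mul_comm _ _)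
  have hinj : ∀ x ∈ stdSub K e, f x = 0 → x = 0 := by
    intro x hx hfx
    funext i
    obtain ⟨s, rfl⟩ := e.surjective i
    rcases s with a | b'
    · have h1 := hBf a x
      rw [hfx, map_zero] at h1
      rw [← h1]
      rfl
    · exact hx b'
  obtain ⟨g₀, hg₀, hg₀X⟩ := witt_herm B hτne hτ2 (hBg_isSymm τ hτ2 ι) (hBg_nondegenerate τ ι)
    (stdSub K e) f hiso hinj
  set G₀ : Matrix ι ι K := LinearMap.toMatrix' (g₀ : (ι → K) →ₗ[K] (ι → K)) with hG₀def
  have hG₀x : ∀ y, G₀ *ᵥ y = g₀ y := fun y => LinearMap.toMatrix'_mulVec _ y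
  have hG₀ : ∀ y y', hfg τ (G₀ *ᵥ y) (G₀ *ᵥ y') = hfg τ y y' := by
    intro y y'
    rw [hG₀x, hG₀x, ← hBg_apply, ← hBg_apply]
    exact (mem_hermIso (hBg τ ι) g₀).mp hg₀ y' y
  refine ⟨⟨Matrix.GeneralLinearGroup.mkOfDetNeZero G₀ (det_ne_zero_of_unitary τ G₀ hG₀), hG₀⟩, ?_⟩
  intro v
  show v ∈ stdSub K e ↔ G₀ *ᵥ v ∈ W
  rw [hG₀x]
  constructor
  · intro hv
    rw [hg₀X v hv, hf]
    exact W.sum_mem (fun a _ => W.smul_mem _ (hwW a))
  · intro hv
    -- write `g₀ v` in the orthonormal basis of `W`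
    set c := b.repr ⟨g₀ v, hv⟩ with hc
    set x : ι → K := (Sum.elim (fun a => c (ε a)) (0 : β → K)) ∘ e.symm with hx
    have hxstd : x ∈ stdSub K e := by
      intro b'
      simp [hx]
    have hfx : f x = g₀ v := by
      rw [hf]
      have h1 : ∀ a, x (e (Sum.inl a)) = c (ε a) := by
        intro a
        simp [hx]
      simp only [h1]
      have h2 : (∑ i, c i • (b i : W)) = ⟨g₀ v, hv⟩ := b.sum_repr ⟨g₀ v, hv⟩
      have h3 := congrArg (fun u : W => (u : ι → K)) h2
      simp only [AddSubmonoidClass.coe_finsetSum, Submodule.coe_smul] at h3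
      rw [← h3]
      exact Equiv.sum_comp ε (fun i => c i • ((b i : W) : ι → K))
    have h4 : g₀ x = g₀ v := by rw [hg₀X x hxstd, hfx]
    have h5 : x = v := g₀.injective h4
    rw [← h5]
    exact hxstd

end Witt

section Main

variable {K : Type*} [Field K] [Fintype K] {q : ℕ}

/-- In `GU_n(q)` the stabiliser of a non-degenerate `k`-subspace is `GU_k(q) × GU_(n-k)(q)`. -/
theorem gu_stab_nondeg (hK : Fintype.card K = q ^ 2) (n k : ℕ) (hk : k ≤ n)
    (W : Submodule K (Fin n → K)) (hWk : finrank K W = k)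
    (hW : ∀ u ∈ W, (∀ v ∈ W, Cfsg.hermForm n K q u v = 0) → u = 0) :
    Nonempty (↥((Cfsg.stabilizing (Cfsg.glToMat (Fin n) K) (W : Set (Fin n → K))).subgroupOf
      (Cfsg.GU n K q)) ≃* ↥(Cfsg.GU k K q) × ↥(Cfsg.GU (n - k) K q)) := by
  obtain ⟨τ, hτ⟩ := exists_conj hK
  have hτ2 : ∀ x, τ (τ x) = x := fun x => by rw [hτ, hτ, conj_conj hK]
  have hτne : τ ≠ RingHom.id K := by
    obtain ⟨x, hx⟩ := exists_pow_ne hK
    intro h
    apply hx
    rw [← hτ, h, RingHom.id_apply]
  rw [← GUg_eq_GU τ hτ (n := n), ← GUg_eq_GU τ hτ (n := k), ← GUg_eq_GU τ hτ (n := n - k)]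
  set e : Fin k ⊕ Fin (n - k) ≃ Fin n :=
    finSumFinEquiv.trans (finCongr (by omega : k + (n - k) = n)) with he
  obtain ⟨P, hP⟩ := exists_GUg_std τ hτ2 hτne e W (by rw [hWk, Fintype.card_fin])
    (fun u hu h => hW u hu (fun v hv => by rw [← hfg_eq_hermForm τ hτ]; exact h v hv))
  obtain ⟨E1⟩ := stabilizing_conj_equiv ((Cfsg.glToMat (Fin n) K).comp (GUg τ (Fin n)).subtype)
    (stdSub K e : Set (Fin n → K)) (W : Set (Fin n → K)) P hP
  obtain ⟨E2⟩ := stab_std_equiv τ e
  have E0 : ↥((Cfsg.stabilizing (Cfsg.glToMat (Fin n) K) (W : Set (Fin n → K))).subgroupOf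
      (GUg τ (Fin n))) ≃* ↥(Cfsg.stabilizing ((Cfsg.glToMat (Fin n) K).comp
        (GUg τ (Fin n)).subtype) (W : Set (Fin n → K))) :=
    MulEquiv.subgroupCongr rfl
  exact ⟨E0.trans (E1.trans E2)⟩

end Main

end Cfsg.Agent.Helper38
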