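import Mathlib
import Cfsg.Prelude.Def_Local
import Cfsg.Agent.Helper38.GUStab
import Cfsg.Agent.Helper42.SLn

set_option autoImplicit false
set_option linter.unusedSectionVars false

/-!
# The standard subgroup `SL_{n-1}(q)` of `SL_n(q)` (helper38)

For an index `o : ι` the involution `t = diag(-1, …, -1, 1)` (entry `1` at `o`) of `SL(ι, F)`
has centralizer the block diagonal matrices; its layer is the embedded `SL(ι ∖ {o}, F)`,
which is a standard subgroup when `ι` has odd cardinality at least 4.
-/

namespace Cfsg.Agent.Helper38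

open Matrix

section StdSL

variable {F : Type*} [Field F] {ι : Type} [Fintype ι] [DecidableEq ι] (o : ι)

/-- The index equivalence separating the distinguished index `o`. -/
abbrev oEquiv : {i : ι // i ≠ o} ⊕ {i : ι // ¬ i ≠ o} ≃ ι := Equiv.sumCompl (fun i => i ≠ o)

theorem blk_o_apply (A : Matrix {i : ι // i ≠ o} {i : ι // i ≠ o} F)
    (D : Matrix {i : ι // ¬ i ≠ o} {i : ι // ¬ i ≠ o} F) (i k : ι) :
    blk (oEquiv o) A D i k =
      if hi : i ≠ o then (if hk : k ≠ o then A ⟨i, hi⟩ ⟨k, hk⟩ else 0)
      else (if hk : k ≠ o then 0 else D ⟨i, hi⟩ ⟨k, hk⟩) := by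
  unfold blk
  rw [Matrix.submatrix_apply]
  by_cases hi : i ≠ o
  · by_cases hk : k ≠ o
    · rw [dif_pos hi, dif_pos hk, Equiv.sumCompl_symm_apply_of_pos (p := fun i => i ≠ o) hi,
        Equiv.sumCompl_symm_apply_of_pos (p := fun i => i ≠ o) hk]
      rfl
    · rw [dif_pos hi, dif_neg hk, Equiv.sumCompl_symm_apply_of_pos (p := fun i => i ≠ o) hi,
        Equiv.sumCompl_symm_apply_of_neg (p := fun i => i ≠ o) hk]
      rfl
  · by_cases hk : k ≠ o
    · rw [dif_neg hi, dif_pos hk, Equiv.sumCompl_symm_apply_of_neg (p := fun i => i ≠ o) hi,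
        Equiv.sumCompl_symm_apply_of_pos (p := fun i => i ≠ o) hk]
      rfl
    · rw [dif_neg hi, dif_neg hk, Equiv.sumCompl_symm_apply_of_neg (p := fun i => i ≠ o) hi,
        Equiv.sumCompl_symm_apply_of_neg (p := fun i => i ≠ o) hk]
      rfl

theorem det_blk {α β κ : Type} [Fintype α] [DecidableEq α] [Fintype β] [DecidableEq β]
    [Fintype κ] [DecidableEq κ] (e : α ⊕ β ≃ κ) (A : Matrix α α F) (D : Matrix β β F) :
    (blk e A D).det = A.det * D.det := by
  unfold blk
  rw [Matrix.det_submatrix_equiv_self, Matrix.det_fromBlocks_zero₂₁]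

/-- The block embedding `SL(ι ∖ {o}) → SL(ι)` as a function. -/
def embSLfun (A : Matrix.SpecialLinearGroup {i : ι // i ≠ o} F) :
    Matrix.SpecialLinearGroup ι F :=
  ⟨blk (oEquiv o) A.1 1, by rw [det_blk, A.2, Matrix.det_one, mul_one]⟩

theorem embSLfun_val (A : Matrix.SpecialLinearGroup {i : ι // i ≠ o} F) :
    (embSLfun o A).1 = blk (oEquiv o) A.1 1 := rfl

/-- The block embedding `SL(ι ∖ {o}) → SL(ι)`. -/
def embSL : Matrix.SpecialLinearGroup {i : ι // i ≠ o} F →* Matrix.SpecialLinearGroup ι F where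
  toFun := embSLfun o
  map_one' := by
    apply Subtype.ext
    rw [embSLfun_val, Matrix.SpecialLinearGroup.coe_one, blk_one,
      Matrix.SpecialLinearGroup.coe_one]
  map_mul' A B := by
    apply Subtype.ext
    rw [Matrix.SpecialLinearGroup.coe_mul, embSLfun_val, embSLfun_val, embSLfun_val,
      Matrix.SpecialLinearGroup.coe_mul]
    have h := blk_mul (oEquiv o) A.1 B.1 (1 : Matrix {i : ι // ¬ i ≠ o} {i : ι // ¬ i ≠ o} F) 1
    rw [mul_one] at h
    exact h

theorem embSL_val (A : Matrix.SpecialLinearGroup {i : ι // i ≠ o} F) :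
    (embSL o A).1 = blk (oEquiv o) A.1 1 := rfl

theorem embSL_injective : Function.Injective (embSL (F := F) o) := by
  intro A B h
  have h' := congrArg Subtype.val h
  rw [embSL_val, embSL_val] at h'
  exact Subtype.ext (blk_injective _ _ _ _ _ h').1

/-- Block diagonal matrices with respect to the index `o`. -/
def BD (M : Matrix ι ι F) : Prop := ∀ i, i ≠ o → M i o = 0 ∧ M o i = 0

/-- The matrix `diag(-1, …, -1, 1)`. -/
def tmat : Matrix ι ι F := Matrix.diagonal (fun i => if i = o then 1 else -1)

theorem bd_iff_comm (h2 : (2 : F) ≠ 0) (M : Matrix ι ι F) :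
    tmat o * M = M * tmat o ↔ BD o M := by
  constructor
  · intro h i hi
    have h1 := congrFun (congrFun h i) o
    have h2' := congrFun (congrFun h o) i
    simp only [tmat, Matrix.diagonal_mul, Matrix.mul_diagonal, if_neg hi, if_true] at h1 h2'
    constructor
    · have : (2 : F) * M i o = 0 := by linear_combination -h1
      rcases mul_eq_zero.1 this with h | h
      · exact absurd h h2
      · exact h
    · have : (2 : F) * M o i = 0 := by linear_combination h2'
      rcases mul_eq_zero.1 this with h | h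
      · exact absurd h h2
      · exact h
  · intro h
    ext i k
    simp only [tmat, Matrix.diagonal_mul, Matrix.mul_diagonal]
    by_cases hi : i = o
    · by_cases hk : k = o
      · rw [if_pos hi, if_pos hk]
        ring
      · subst hi
        rw [(h k hk).2]
        ring
    · by_cases hk : k = o
      · subst hk
        rw [(h i hi).1]
        ring
      · rw [if_neg hi, if_neg hk]
        ring

theorem bd_eq_blk (M : Matrix ι ι F) (h : BD o M) :
    M = blk (oEquiv o) (M.submatrix Subtype.val Subtype.val)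
      (M.submatrix Subtype.val Subtype.val) := by
  ext i k
  rw [blk_o_apply]
  by_cases hi : i ≠ o
  · by_cases hk : k ≠ o
    · rw [dif_pos hi, dif_pos hk]
      rfl
    · rw [dif_pos hi, dif_neg hk]
      have hk' : k = o := not_not.1 hk
      subst hk'
      exact (h i hi).1
  · have hi' : i = o := not_not.1 hi
    by_cases hk : k ≠ o
    · rw [dif_neg hi, dif_pos hk]
      subst hi'
      exact (h k hk).2
    · rw [dif_neg hi, dif_neg hk]
      rfl

theorem bd_blk (A : Matrix {i : ι // i ≠ o} {i : ι // i ≠ o} F)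
    (D : Matrix {i : ι // ¬ i ≠ o} {i : ι // ¬ i ≠ o} F) : BD o (blk (oEquiv o) A D) := by
  intro i hi
  constructor
  · rw [blk_o_apply, dif_pos hi, dif_neg (by simp)]
  · rw [blk_o_apply, dif_neg (by simp), dif_pos hi]

theorem bd_mul_oo (M N : Matrix ι ι F) (hM : BD o M) : (M * N) o o = M o o * N o o := by
  rw [Matrix.mul_apply]
  exact Finset.sum_eq_single o (fun k _ hk => by rw [(hM k hk).2, zero_mul]) (by simp)

theorem blk_oo (A : Matrix {i : ι // i ≠ o} {i : ι // i ≠ o} F) :
    blk (oEquiv o) A (1 : Matrix {i : ι // ¬ i ≠ o} {i : ι // ¬ i ≠ o} F) o o = 1 := by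
  rw [blk_o_apply, dif_neg (by simp), dif_neg (by simp), Matrix.one_apply_eq]

section Layer

variable (t : Matrix.SpecialLinearGroup ι F)

theorem mem_centralizer_t_iff (h2 : (2 : F) ≠ 0) (ht : t.1 = tmat o)
    (g : Matrix.SpecialLinearGroup ι F) :
    g ∈ Subgroup.centralizer ({t} : Set (Matrix.SpecialLinearGroup ι F)) ↔ BD o g.1 := by
  rw [Subgroup.mem_centralizer_iff, ← bd_iff_comm o h2]
  constructor
  · intro h
    have h' := congrArg Subtype.val (h t rfl)
    rw [Matrix.SpecialLinearGroup.coe_mul, Matrix.SpecialLinearGroup.coe_mul, ht] at h'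
    exact h'
  · intro h x hx
    rw [Set.mem_singleton_iff] at hx
    subst hx
    apply Subtype.ext
    rw [Matrix.SpecialLinearGroup.coe_mul, Matrix.SpecialLinearGroup.coe_mul, ht]
    exact h

/-- The `(o, o)` entry as a homomorphism on the centralizer of `t`. -/
def ooHom (h2 : (2 : F) ≠ 0) (ht : t.1 = tmat o) :
    ↥(Subgroup.centralizer ({t} : Set (Matrix.SpecialLinearGroup ι F))) →* F where
  toFun g := g.1.1 o o
  map_one' := by
    rw [Subgroup.coe_one, Matrix.SpecialLinearGroup.coe_one, Matrix.one_apply_eq]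
  map_mul' g h := by
    rw [Subgroup.coe_mul, Matrix.SpecialLinearGroup.coe_mul]
    exact bd_mul_oo o _ _ ((mem_centralizer_t_iff o t h2 ht g.1).1 g.2)

theorem ooHom_apply (h2 : (2 : F) ≠ 0) (ht : t.1 = tmat o)
    (g : ↥(Subgroup.centralizer ({t} : Set (Matrix.SpecialLinearGroup ι F)))) :
    ooHom o t h2 ht g = g.1.1 o o := rfl

theorem embSL_range_le (h2 : (2 : F) ≠ 0) (ht : t.1 = tmat o) :
    (embSL (F := F) o).range ≤ Subgroup.centralizer {t} := by
  rintro _ ⟨A, rfl⟩
  rw [mem_centralizer_t_iff o t h2 ht, embSL_val]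
  exact bd_blk o _ _

theorem mem_embSL_range_iff (g : Matrix.SpecialLinearGroup ι F) :
    g ∈ (embSL (F := F) o).range ↔ BD o g.1 ∧ g.1 o o = 1 := by
  constructor
  · rintro ⟨A, rfl⟩
    rw [embSL_val]
    exact ⟨bd_blk o _ _, blk_oo o _⟩
  · rintro ⟨hbd, h1⟩
    have heq := bd_eq_blk o g.1 hbd
    have hD : (g.1.submatrix Subtype.val Subtype.val :
        Matrix {i : ι // ¬ i ≠ o} {i : ι // ¬ i ≠ o} F) = 1 := by
      ext ⟨i, hi⟩ ⟨k, hk⟩
      have hi' : i = o := not_not.1 hi
      have hk' : k = o := not_not.1 hk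
      subst hi'
      subst hk'
      rw [Matrix.submatrix_apply, Matrix.one_apply_eq]
      exact h1
    have hdet' := congrArg Matrix.det heq
    rw [det_blk, hD, Matrix.det_one, mul_one, g.2] at hdet'
    obtain ⟨A, hA⟩ : ∃ A : Matrix.SpecialLinearGroup {i : ι // i ≠ o} F,
        A.1 = g.1.submatrix Subtype.val Subtype.val := ⟨⟨_, hdet'.symm⟩, rfl⟩
    refine ⟨A, ?_⟩
    apply Subtype.ext
    rw [embSL_val, hA]
    rw [hD] at heq
    exact heq.symm

theorem ker_ooHom (h2 : (2 : F) ≠ 0) (ht : t.1 = tmat o) :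
    (ooHom o t h2 ht).toHomUnits.ker =
      (embSL (F := F) o).range.subgroupOf (Subgroup.centralizer {t}) := by
  ext g
  rw [MonoidHom.mem_ker, Subgroup.mem_subgroupOf, Units.ext_iff, MonoidHom.coe_toHomUnits,
    Units.val_one, ooHom_apply, mem_embSL_range_iff]
  constructor
  · intro h1
    exact ⟨(mem_centralizer_t_iff o t h2 ht g.1).1 g.2, h1⟩
  · intro h
    exact h.2

theorem qs_of_mulEquiv38 {H K : Type*} [Group H] [Group K] (e : H ≃* K)
    (h : Cfsg.IsQuasisimple K) : Cfsg.IsQuasisimple H := by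
  obtain ⟨hp, hs⟩ := h
  refine ⟨?_, ?_⟩
  · have := hp
    exact Group.IsPerfect.ofSurjective (f := e.symm.toMonoidHom) e.symm.surjective
  · have hc : (Subgroup.center H).map (e : H →* K) = Subgroup.center K := by
      ext y
      simp only [Subgroup.mem_map, Subgroup.mem_center_iff]
      constructor
      · rintro ⟨x, hx, rfl⟩ g
        obtain ⟨g', rfl⟩ := e.surjective g
        have h3 := congrArg e (hx g')
        simpa using h3
      · intro hy
        refine ⟨e.symm y, ?_, by simp⟩
        intro g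
        apply e.injective
        simpa using hy (e g)
    have := hs
    exact (QuotientGroup.congr (Subgroup.center H) (Subgroup.center K) e hc).isSimpleGroup

theorem isQuasisimple_SL38 {κ : Type*} [Fintype κ] [DecidableEq κ] (h3 : 3 ≤ Fintype.card κ) :
    Cfsg.IsQuasisimple (Matrix.SpecialLinearGroup κ F) :=
  ⟨⟨Helper42.SLn.commutator_eq_top_of_three h3⟩, Helper42.SLn.psl_isSimpleGroup_of_three h3⟩

theorem card_ne_o : Fintype.card {i : ι // i ≠ o} = Fintype.card ι - 1 := by
  rw [Fintype.card_subtype_compl (fun i => i = o), Fintype.card_subtype_eq]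

theorem isQuasisimple_range (h4 : 4 ≤ Fintype.card ι) :
    Cfsg.IsQuasisimple ↥(embSL (F := F) o).range := by
  have e1 : Matrix.SpecialLinearGroup {i : ι // i ≠ o} F ≃* (embSL (F := F) o).range :=
    MonoidHom.ofInjective (embSL_injective o)
  exact qs_of_mulEquiv38 e1.symm (isQuasisimple_SL38 (by rw [card_ne_o]; omega))

theorem layer_centralizer_t (h2 : (2 : F) ≠ 0) (ht : t.1 = tmat o) (h4 : 4 ≤ Fintype.card ι) :
    Cfsg.layer ↥(Subgroup.centralizer ({t} : Set (Matrix.SpecialLinearGroup ι F))) =
      (embSL (F := F) o).range.subgroupOf (Subgroup.centralizer {t}) := by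
  apply le_antisymm
  · apply sSup_le
    intro K hK
    rw [← ker_ooHom o t h2 ht]
    intro x hx
    have hperf : Group.IsPerfect ↥K := hK.2.1
    have hx' : (⟨x, hx⟩ : ↥K) ∈ commutator ↥K := by
      rw [hperf.commutator_eq_top]
      exact Subgroup.mem_top _
    exact Abelianization.commutator_subset_ker
      (((ooHom o t h2 ht).toHomUnits).comp K.subtype) hx'
  · apply le_sSup
    refine ⟨?_, ?_⟩
    · rw [← ker_ooHom o t h2 ht]
      exact (MonoidHom.normal_ker _).isSubnormal
    · exact qs_of_mulEquiv38 (Subgroup.subgroupOfEquivOfLe (embSL_range_le o t h2 ht))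
        (isQuasisimple_range o h4)

theorem layer_map_eq (h2 : (2 : F) ≠ 0) (ht : t.1 = tmat o) (h4 : 4 ≤ Fintype.card ι) :
    (Cfsg.layer ↥(Subgroup.centralizer ({t} : Set (Matrix.SpecialLinearGroup ι F)))).map
      (Subgroup.centralizer ({t} : Set (Matrix.SpecialLinearGroup ι F))).subtype =
      (embSL (F := F) o).range := by
  rw [layer_centralizer_t o t h2 ht h4, Subgroup.subgroupOf_map_subtype]
  exact inf_eq_left.2 (embSL_range_le o t h2 ht)

end Layer

section Cent

/-- Diagonal matrices with one value off `o`. -/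
def DG (M : Matrix ι ι F) (a b : F) : Prop :=
  M = Matrix.diagonal (fun i => if i = o then b else a)

theorem exists_third (h3 : 3 ≤ Fintype.card ι) (i : ι) : ∃ k, k ≠ o ∧ k ≠ i := by
  by_contra hcon
  push Not at hcon
  have h2 : Fintype.card ι ≤ 2 := by
    calc Fintype.card ι = (Finset.univ : Finset ι).card := Finset.card_univ.symm
      _ ≤ ({o, i} : Finset ι).card := Finset.card_le_card (fun j _ => by
          by_cases h : j = o
          · simp [h]
          · simp [hcon j h])
      _ ≤ 2 := Finset.card_le_two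
  omega

theorem embSL_transvection_val {i k : ι} (hi : i ≠ o) (hk : k ≠ o) (hik : i ≠ k) (c : F) :
    (embSL o (Matrix.SpecialLinearGroup.transvection
      (show (⟨i, hi⟩ : {i : ι // i ≠ o}) ≠ ⟨k, hk⟩ from fun h => hik (congrArg Subtype.val h))
      c)).1 = 1 + Matrix.single i k c := by
  rw [embSL_val, Matrix.SpecialLinearGroup.transvection_coe]
  ext a b
  rw [blk_o_apply]
  by_cases ha : a ≠ o
  · by_cases hb : b ≠ o
    · rw [dif_pos ha, dif_pos hb]
      simp only [Matrix.add_apply, Matrix.one_apply, Matrix.single_apply, Subtype.mk.injEq]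
    · have hb' : o = b := (not_not.1 hb).symm
      subst hb'
      rw [dif_pos ha, dif_neg hb]
      simp only [Matrix.add_apply, Matrix.one_apply, Matrix.single_apply]
      rw [if_neg ha, if_neg (fun h => hk h.2), add_zero]
  · have ha' : o = a := (not_not.1 ha).symm
    subst ha'
    by_cases hb : b ≠ o
    · rw [dif_neg ha, dif_pos hb]
      simp only [Matrix.add_apply, Matrix.one_apply, Matrix.single_apply]
      rw [if_neg (fun h => hb h.symm), if_neg (fun h => hi h.1), add_zero]
    · have hb' : o = b := (not_not.1 hb).symm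
      subst hb'
      rw [dif_neg ha, dif_neg hb]
      simp only [Matrix.add_apply, Matrix.one_apply, Matrix.single_apply]
      rw [if_neg (show ¬ (i = o ∧ k = o) from fun h => hi h.1), add_zero]

theorem centralizer_range_diag (h3 : 3 ≤ Fintype.card ι) (g : Matrix.SpecialLinearGroup ι F)
    (hg : g ∈ Subgroup.centralizer
      ((embSL (F := F) o).range : Set (Matrix.SpecialLinearGroup ι F))) :
    ∃ a b : F, DG o g.1 a b := by
  have key : ∀ i k : ι, i ≠ o → k ≠ o → i ≠ k →
      Matrix.single i k (1 : F) * g.1 = g.1 * Matrix.single i k (1 : F) := by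
    intro i k hi hk hik
    have h := hg _ ⟨Matrix.SpecialLinearGroup.transvection
      (show (⟨i, hi⟩ : {i : ι // i ≠ o}) ≠ ⟨k, hk⟩ from fun h => hik (congrArg Subtype.val h))
      (1 : F), rfl⟩
    have h' := congrArg Subtype.val h
    rw [Matrix.SpecialLinearGroup.coe_mul, Matrix.SpecialLinearGroup.coe_mul,
      embSL_transvection_val o hi hk hik, add_mul, mul_add, one_mul, mul_one] at h'
    exact add_left_cancel h'
  have c1 : ∀ i : ι, i ≠ o → ∀ a : ι, a ≠ i → g.1 a i = 0 := by
    intro i hi a hai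
    obtain ⟨k, hk, hki⟩ := exists_third o h3 i
    have h := congrFun (congrFun (key i k hi hk (Ne.symm hki)) a) k
    rw [Matrix.single_mul_apply_of_ne _ _ _ _ _ hai, Matrix.mul_single_apply_same, mul_one] at h
    exact h.symm
  have c2 : ∀ i : ι, i ≠ o → ∀ b : ι, b ≠ i → g.1 i b = 0 := by
    intro i hi b hbi
    obtain ⟨k, hk, hki⟩ := exists_third o h3 i
    have h := congrFun (congrFun (key k i hk hi hki) k) b
    rw [Matrix.single_mul_apply_same, Matrix.mul_single_apply_of_ne _ _ _ _ _ hbi, one_mul] at h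
    exact h
  have c3 : ∀ i k : ι, i ≠ o → k ≠ o → g.1 i i = g.1 k k := by
    intro i k hi hk
    by_cases hik : i = k
    · rw [hik]
    · have h := congrFun (congrFun (key i k hi hk hik) i) k
      rw [Matrix.single_mul_apply_same, Matrix.mul_single_apply_same, one_mul, mul_one] at h
      exact h.symm
  obtain ⟨i0, hi0, -⟩ := exists_third o h3 o
  refine ⟨g.1 i0 i0, g.1 o o, ?_⟩
  unfold DG
  ext x y
  by_cases hxy : x = y
  · subst hxy
    rw [Matrix.diagonal_apply_eq]
    by_cases hx : x = o
    · rw [if_pos hx, hx]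
    · rw [if_neg hx]
      exact c3 x i0 hx hi0
  · rw [Matrix.diagonal_apply_ne _ hxy]
    by_cases hy : y = o
    · have hx : x ≠ o := fun h => hxy (h.trans hy.symm)
      exact c2 x hx y (Ne.symm hxy)
    · exact c1 y hy x hxy

theorem bd_of_conj_diag (h3 : 3 ≤ Fintype.card ι) (g g' k k' : Matrix ι ι F)
    (hgg' : g' * g = 1) (a b a' b' : F) (hk' : DG o k' a b) (hk : DG o k a' b') (hab : a ≠ b)
    (hconj : g * k' = k * g) : BD o g := by
  unfold DG at hk hk'
  have E : ∀ x y : ι, g x y * (if y = o then b else a) = (if x = o then b' else a') * g x y := by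
    intro x y
    have h := congrFun (congrFun hconj x) y
    rw [hk, hk', Matrix.mul_diagonal, Matrix.diagonal_mul] at h
    exact h
  obtain ⟨i0, hi0, -⟩ := exists_third o h3 o
  obtain ⟨i1, hi1, hi10⟩ := exists_third o h3 i0
  -- Step A
  have hA : a = a' := by
    by_contra hne
    have hz : ∀ x y : ι, x ≠ o → y ≠ o → g x y = 0 := by
      intro x y hx hy
      have h := E x y
      rw [if_neg hy, if_neg hx] at h
      have h' : g x y * (a - a') = 0 := by linear_combination h
      rcases mul_eq_zero.1 h' with h0 | h0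
      · exact h0
      · exact absurd (sub_eq_zero.1 h0) hne
    have hsum : ∀ x y : ι, y ≠ o → (g' * g) x y = g' x o * g o y := by
      intro x y hy
      rw [Matrix.mul_apply]
      exact Finset.sum_eq_single o (fun z _ hz' => by rw [hz z y hz' hy, mul_zero]) (by simp)
    have e00 := hsum i0 i0 hi0
    have e01 := hsum i0 i1 hi1
    have e11 := hsum i1 i1 hi1
    rw [hgg', Matrix.one_apply_eq] at e00 e11
    rw [hgg', Matrix.one_apply_ne (Ne.symm hi10)] at e01
    have hne0 : g' i0 o ≠ 0 := by
      intro h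
      rw [h, zero_mul] at e00
      exact one_ne_zero e00
    have h01 : g o i1 = 0 := by
      rcases mul_eq_zero.1 e01.symm with h | h
      · exact absurd h hne0
      · exact h
    rw [h01, mul_zero] at e11
    exact one_ne_zero e11
  -- Step B
  have hB : a' ≠ b' := by
    intro hab'
    have hks : k = a' • (1 : Matrix ι ι F) := by
      rw [hk]
      ext x y
      by_cases hxy : x = y
      · subst hxy
        rw [Matrix.diagonal_apply_eq, Matrix.smul_apply, Matrix.one_apply_eq, smul_eq_mul, mul_one]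
        by_cases hx : x = o
        · rw [if_pos hx, hab']
        · rw [if_neg hx]
      · rw [Matrix.diagonal_apply_ne _ hxy, Matrix.smul_apply, Matrix.one_apply_ne hxy,
          smul_zero]
    have h1 : k' = a' • (1 : Matrix ι ι F) := by
      calc k' = (g' * g) * k' := by rw [hgg', one_mul]
        _ = g' * (g * k') := by rw [mul_assoc]
        _ = g' * (k * g) := by rw [hconj]
        _ = a' • (g' * g) := by rw [hks, Matrix.smul_mul, one_mul, Matrix.mul_smul]
        _ = a' • (1 : Matrix ι ι F) := by rw [hgg']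
    have e0 := congrFun (congrFun h1 i0) i0
    have e1 := congrFun (congrFun h1 o) o
    rw [hk', Matrix.diagonal_apply_eq, Matrix.smul_apply, Matrix.one_apply_eq, smul_eq_mul,
      mul_one] at e0 e1
    rw [if_neg hi0] at e0
    rw [if_pos rfl] at e1
    exact hab (e0.trans e1.symm)
  intro i hi
  constructor
  · have h := E i o
    rw [if_pos rfl, if_neg hi] at h
    have h' : g i o * (b - a') = 0 := by linear_combination h
    rcases mul_eq_zero.1 h' with h0 | h0
    · exact h0
    · exact absurd (hA.trans (sub_eq_zero.1 h0).symm) hab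
  · have h := E o i
    rw [if_neg hi, if_pos rfl] at h
    have h' : g o i * (a - b') = 0 := by linear_combination h
    rcases mul_eq_zero.1 h' with h0 | h0
    · exact h0
    · exact absurd (hA.symm.trans (sub_eq_zero.1 h0)) hB

theorem normalizer_le_normalizer_centralizer38 {G : Type*} [Group G] (L : Subgroup G) :
    Subgroup.normalizer (L : Set G) ≤
      Subgroup.normalizer (Subgroup.centralizer (L : Set G) : Set G) := by
  intro g hg
  rw [Subgroup.mem_normalizer_iff] at hg ⊢
  intro h
  constructor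
  · intro hh
    rw [Subgroup.mem_centralizer_iff]
    intro l hl
    have hl' : g⁻¹ * l * g ∈ L := by
      rw [hg]
      have : g * (g⁻¹ * l * g) * g⁻¹ = l := by group
      rw [this]
      exact hl
    have hc := (Subgroup.mem_centralizer_iff.1 hh) (g⁻¹ * l * g) hl'
    calc l * (g * h * g⁻¹) = g * ((g⁻¹ * l * g) * h) * g⁻¹ := by group
      _ = g * (h * (g⁻¹ * l * g)) * g⁻¹ := by rw [hc]
      _ = g * h * g⁻¹ * l := by group
  · intro hh
    rw [Subgroup.mem_centralizer_iff]
    intro l hl
    have hl' : g * l * g⁻¹ ∈ L := (hg l).1 hl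
    have hc := (Subgroup.mem_centralizer_iff.1 hh) (g * l * g⁻¹) hl'
    have h3 : g * (l * h) * g⁻¹ = g * (h * l) * g⁻¹ := by
      calc g * (l * h) * g⁻¹ = (g * l * g⁻¹) * (g * h * g⁻¹) := by group
        _ = (g * h * g⁻¹) * (g * l * g⁻¹) := hc
        _ = g * (h * l) * g⁻¹ := by group
    exact mul_left_cancel (mul_right_cancel h3)

end Cent

section Final

variable [Finite F] (t : Matrix.SpecialLinearGroup ι F)

theorem finite_SL38 : Finite (Matrix.SpecialLinearGroup ι F) :=
  Finite.of_injective (fun g : Matrix.SpecialLinearGroup ι F => g.1) Subtype.val_injective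

theorem tmat_mul_self : tmat (F := F) o * tmat o = 1 := by
  rw [tmat, Matrix.diagonal_mul_diagonal, ← Matrix.diagonal_one]
  congr 1
  funext i
  by_cases h : i = o
  · rw [if_pos h, mul_one]
  · rw [if_neg h]
    ring

theorem conj_mem_range (h2 : (2 : F) ≠ 0) (ht : t.1 = tmat o)
    (c : Matrix.SpecialLinearGroup ι F)
    (hc : c ∈ Subgroup.centralizer ({t} : Set (Matrix.SpecialLinearGroup ι F)))
    (x : Matrix.SpecialLinearGroup ι F) (hx : x ∈ (embSL (F := F) o).range) :
    c * x * c⁻¹ ∈ (embSL (F := F) o).range := by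
  rw [mem_embSL_range_iff] at hx ⊢
  have hxC : x ∈ Subgroup.centralizer ({t} : Set (Matrix.SpecialLinearGroup ι F)) :=
    (mem_centralizer_t_iff o t h2 ht x).2 hx.1
  have hcx : c * x * c⁻¹ ∈ Subgroup.centralizer ({t} : Set (Matrix.SpecialLinearGroup ι F)) :=
    Subgroup.mul_mem _ (Subgroup.mul_mem _ hc hxC) (Subgroup.inv_mem _ hc)
  refine ⟨(mem_centralizer_t_iff o t h2 ht _).1 hcx, ?_⟩
  have hbc := (mem_centralizer_t_iff o t h2 ht c).1 hc
  have hbcx := (mem_centralizer_t_iff o t h2 ht (c * x)).1 (Subgroup.mul_mem _ hc hxC)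
  rw [Matrix.SpecialLinearGroup.coe_mul, bd_mul_oo o _ _ hbcx, Matrix.SpecialLinearGroup.coe_mul,
    bd_mul_oo o _ _ hbc, hx.2, mul_one, ← bd_mul_oo o _ _ hbc, ← Matrix.SpecialLinearGroup.coe_mul,
    mul_inv_cancel, Matrix.SpecialLinearGroup.coe_one, Matrix.one_apply_eq]

theorem centralizer_t_le_normalizer (h2 : (2 : F) ≠ 0) (ht : t.1 = tmat o) :
    Subgroup.centralizer ({t} : Set (Matrix.SpecialLinearGroup ι F)) ≤
      Subgroup.normalizer ((embSL (F := F) o).range : Set (Matrix.SpecialLinearGroup ι F)) := by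
  intro c hc
  rw [Subgroup.mem_normalizer_iff]
  intro x
  constructor
  · exact conj_mem_range o t h2 ht c hc x
  · intro h
    have h' := conj_mem_range o t h2 ht c⁻¹ (Subgroup.inv_mem _ hc) _ h
    have e : c⁻¹ * (c * x * c⁻¹) * c⁻¹⁻¹ = x := by group
    rw [e] at h'
    exact h'

/-- The embedded `SL(ι ∖ {o}, F)` is a standard subgroup of `SL(ι, F)`. -/
theorem isStandard_range (h2 : (2 : F) ≠ 0) (ht : t.1 = tmat o) (h4 : 4 ≤ Fintype.card ι)
    (hodd : Odd (Fintype.card ι)) :
    Cfsg.IsStandardSubgroup (embSL (F := F) o).range := by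
  have h3 : 3 ≤ Fintype.card ι := by omega
  have hfin : Finite (Matrix.SpecialLinearGroup ι F) := finite_SL38
  have hLC := embSL_range_le o t h2 ht
  obtain ⟨i0, hi0, -⟩ := exists_third o h3 o
  obtain ⟨i1, hi1, hi10⟩ := exists_third o h3 i0
  have htK : t ∈ Subgroup.centralizer
      ((embSL (F := F) o).range : Set (Matrix.SpecialLinearGroup ι F)) := by
    rw [Subgroup.mem_centralizer_iff]
    intro x hx
    have h := hLC hx
    rw [Subgroup.mem_centralizer_iff] at h
    exact (h t rfl).symm
  have htDG : DG o t.1 (-1) 1 := by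
    rw [ht]
    rfl
  have hne : (-1 : F) ≠ 1 := by
    intro h
    apply h2
    linear_combination -h
  have keyC : ∀ (g k' k : Matrix.SpecialLinearGroup ι F) (a b a' b' : F), DG o k'.1 a b →
      DG o k.1 a' b' → a ≠ b → g * k' * g⁻¹ = k →
      g ∈ Subgroup.centralizer ({t} : Set (Matrix.SpecialLinearGroup ι F)) := by
    intro g k' k a b a' b' hk' hk hab hconj
    rw [mem_centralizer_t_iff o t h2 ht]
    refine bd_of_conj_diag o h3 g.1 (g⁻¹).1 k.1 k'.1 ?_ a b a' b' hk' hk hab ?_
    · rw [← Matrix.SpecialLinearGroup.coe_mul, inv_mul_cancel, Matrix.SpecialLinearGroup.coe_one]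
    · have hgk : g * k' = k * g := by
        rw [← hconj]
        group
      rw [← Matrix.SpecialLinearGroup.coe_mul, ← Matrix.SpecialLinearGroup.coe_mul, hgk]
  refine ⟨isQuasisimple_range o h4, ⟨?_, ?_⟩, ?_, ?_⟩
  · -- even order
    have ht1 : t ≠ 1 := by
      intro h
      have h' := congrFun (congrFun (congrArg Subtype.val h) i0) i0
      rw [ht, Matrix.SpecialLinearGroup.coe_one, Matrix.one_apply_eq, tmat,
        Matrix.diagonal_apply_eq, if_neg hi0] at h'
      exact hne h'
    have hord : orderOf t = 2 := by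
      apply orderOf_eq_prime
      · apply Subtype.ext
        rw [sq, Matrix.SpecialLinearGroup.coe_mul, ht, tmat_mul_self,
          Matrix.SpecialLinearGroup.coe_one]
      · exact ht1
    have hdvd := orderOf_dvd_natCard (⟨t, htK⟩ : ↥(Subgroup.centralizer
      ((embSL (F := F) o).range : Set (Matrix.SpecialLinearGroup ι F))))
    rw [Subgroup.orderOf_mk, hord] at hdvd
    exact even_iff_two_dvd.2 hdvd
  · -- odd intersections
    intro g hg
    by_contra hno
    have heven : 2 ∣ Nat.card ↥(Subgroup.centralizer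
        ((embSL (F := F) o).range : Set (Matrix.SpecialLinearGroup ι F)) ⊓
        (Subgroup.centralizer
          ((embSL (F := F) o).range : Set (Matrix.SpecialLinearGroup ι F))).map
          (MulAut.conj g).toMonoidHom) :=
      even_iff_two_dvd.1 (Nat.not_odd_iff_even.1 hno)
    have : Fact (Nat.Prime 2) := ⟨Nat.prime_two⟩
    obtain ⟨⟨q, hq⟩, hq2⟩ := exists_prime_orderOf_dvd_card' 2 heven
    rw [Subgroup.orderOf_mk] at hq2
    obtain ⟨k', hk'K, hk'q⟩ := hq.2
    have hk'q' : g * k' * g⁻¹ = q := hk'q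
    obtain ⟨a, b, hk'D⟩ := centralizer_range_diag o h3 k' hk'K
    obtain ⟨a', b', hqD⟩ := centralizer_range_diag o h3 q hq.1
    by_cases hab : a = b
    · have hk's : k'.1 = a • (1 : Matrix ι ι F) := by
        rw [hk'D]
        ext x y
        by_cases hxy : x = y
        · subst hxy
          rw [Matrix.diagonal_apply_eq, Matrix.smul_apply, Matrix.one_apply_eq, smul_eq_mul,
            mul_one]
          by_cases hx : x = o
          · rw [if_pos hx, hab]
          · rw [if_neg hx]
        · rw [Matrix.diagonal_apply_ne _ hxy, Matrix.smul_apply, Matrix.one_apply_ne hxy,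
            smul_zero]
      have hqs : q.1 = a • (1 : Matrix ι ι F) := by
        rw [← hk'q', Matrix.SpecialLinearGroup.coe_mul, Matrix.SpecialLinearGroup.coe_mul, hk's,
          Matrix.mul_smul, mul_one, Matrix.smul_mul, ← Matrix.SpecialLinearGroup.coe_mul,
          mul_inv_cancel, Matrix.SpecialLinearGroup.coe_one]
      have hqq : q * q = 1 := by
        have h := pow_orderOf_eq_one q
        rw [hq2, sq] at h
        exact h
      have haa : a * a = 1 := by
        have h := congrFun (congrFun (congrArg Subtype.val hqq) i0) i0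
        rw [Matrix.SpecialLinearGroup.coe_mul, hqs, Matrix.smul_mul, one_mul, Matrix.smul_apply,
          Matrix.smul_apply, Matrix.SpecialLinearGroup.coe_one, Matrix.one_apply_eq, smul_eq_mul,
          smul_eq_mul, mul_one] at h
        exact h
      have hdet : a ^ Fintype.card ι = 1 := by
        have h := q.2
        rw [hqs, Matrix.det_smul, Matrix.det_one, mul_one] at h
        exact h
      obtain ⟨j, hj⟩ := hodd
      have ha1 : a = 1 := by
        rw [hj, pow_succ, pow_mul, sq, haa, one_pow, one_mul] at hdet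
        exact hdet
      have hq1 : q = 1 := by
        apply Subtype.ext
        rw [hqs, ha1, one_smul, Matrix.SpecialLinearGroup.coe_one]
      rw [hq1, orderOf_one] at hq2
      omega
    · have hgC := keyC g k' q a b a' b' hk'D hqD hab hk'q'
      exact hg (normalizer_le_normalizer_centralizer38 _
        (centralizer_t_le_normalizer o t h2 ht hgC))
  · -- conjugates do not commute
    intro g _ hbot
    rw [Subgroup.commutator_eq_bot_iff_le_centralizer] at hbot
    obtain ⟨A, hA⟩ : ∃ A : Matrix.SpecialLinearGroup ι F, A ∈ (embSL (F := F) o).range ∧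
        A.1 = 1 + Matrix.single i0 i1 (1 : F) :=
      ⟨_, ⟨_, rfl⟩, embSL_transvection_val o hi0 hi1 (Ne.symm hi10) 1⟩
    obtain ⟨B, hB⟩ : ∃ B : Matrix.SpecialLinearGroup ι F, B ∈ (embSL (F := F) o).range ∧
        B.1 = 1 + Matrix.single i1 i0 (1 : F) :=
      ⟨_, ⟨_, rfl⟩, embSL_transvection_val o hi1 hi0 hi10 1⟩
    have hABne : A * B ≠ B * A := by
      intro h
      have h' := congrFun (congrFun (congrArg Subtype.val h) i0) i0
      rw [Matrix.SpecialLinearGroup.coe_mul, Matrix.SpecialLinearGroup.coe_mul, hA.2, hB.2] at h'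
      simp [Matrix.add_mul, Matrix.mul_add, hi10] at h'
    have hmem : ∀ X : Matrix.SpecialLinearGroup ι F, X ∈ (embSL (F := F) o).range →
        g * X * g⁻¹ ∈ Subgroup.centralizer
          ((embSL (F := F) o).range : Set (Matrix.SpecialLinearGroup ι F)) := by
      intro X hX
      rw [Subgroup.mem_centralizer_iff]
      intro x hx
      have h := hbot hx
      rw [Subgroup.mem_centralizer_iff] at h
      exact (h (g * X * g⁻¹) ⟨X, hX, rfl⟩).symm
    obtain ⟨A', hA'⟩ : ∃ A' : Matrix.SpecialLinearGroup ι F, A' = g * A * g⁻¹ := ⟨_, rfl⟩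
    obtain ⟨B', hB'⟩ : ∃ B' : Matrix.SpecialLinearGroup ι F, B' = g * B * g⁻¹ := ⟨_, rfl⟩
    have hA'K := hmem A hA.1
    have hB'K := hmem B hB.1
    rw [← hA'] at hA'K
    rw [← hB'] at hB'K
    obtain ⟨a, b, hAD⟩ := centralizer_range_diag o h3 _ hA'K
    obtain ⟨a', b', hBD⟩ := centralizer_range_diag o h3 _ hB'K
    unfold DG at hAD hBD
    have hcomm : A' * B' = B' * A' := by
      apply Subtype.ext
      rw [Matrix.SpecialLinearGroup.coe_mul, Matrix.SpecialLinearGroup.coe_mul, hAD, hBD,
        Matrix.diagonal_mul_diagonal, Matrix.diagonal_mul_diagonal]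
      congr 1
      funext i
      exact mul_comm _ _
    apply hABne
    have h3' : g * (A * B) * g⁻¹ = g * (B * A) * g⁻¹ := by
      calc g * (A * B) * g⁻¹ = (g * A * g⁻¹) * (g * B * g⁻¹) := by group
        _ = (g * B * g⁻¹) * (g * A * g⁻¹) := by rw [← hA', ← hB', hcomm]
        _ = g * (B * A) * g⁻¹ := by group
    exact mul_left_cancel (mul_right_cancel h3')
  · -- normalizers
    apply le_antisymm (normalizer_le_normalizer_centralizer38 _)
    intro g hg
    rw [Subgroup.mem_normalizer_iff] at hg
    have h1 := (hg t).1 htK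
    obtain ⟨a', b', hD⟩ := centralizer_range_diag o h3 _ h1
    have hgC := keyC g t (g * t * g⁻¹) (-1) 1 a' b' htDG hD hne rfl
    exact centralizer_t_le_normalizer o t h2 ht hgC

end Final

end StdSL

end Cfsg.Agent.Helper38
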